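/-
Strongly self-centralizing subgroups: local facts.
-/
import Cfsg.Agent.H14.ItoDefs
import Cfsg.Agent.H14.SPSet

set_option autoImplicit false

namespace Cfsg.Agent.H70.Ito

open Cfsg Subgroup Cfsg.Agent.H14.Ito

variable {G : Type*} [Group G] {A : Subgroup G}

theorem mem_iff (hA : CC A) {a g : G} (ha : a ∈ A) (h1 : a ≠ 1) : g ∈ A ↔ g * a = a * g := by
  rw [← mem_centralizer_singleton_iff, hA a ha h1]

theorem comm (hA : CC A) {a b : G} (ha : a ∈ A) (hb : b ∈ A) : a * b = b * a := by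
  by_cases h : b = 1
  · simp [h]
  · exact (mem_iff hA hb h).1 ha

theorem conj_comm (g a b : G) : g * a * g⁻¹ * (g * b * g⁻¹) = g * b * g⁻¹ * (g * a * g⁻¹) ↔
    a * b = b * a := by
  rw [conj_mul, conj_mul, mul_left_inj, mul_right_inj]

theorem ti (hA : CC A) {a g : G} (ha : a ∈ A) (h1 : a ≠ 1) (hg : g * a * g⁻¹ ∈ A) :
    g ∈ normalizer (A : Set G) := mem_normalizer_iff.2 fun b => by
  rw [mem_iff hA ha h1, mem_iff hA hg (by simpa using h1), conj_comm]

theorem eq_one_of_odd [Finite G] (ho : Odd (Nat.card A)) {a : G} (ha : a ∈ A) (h : a * a = 1) :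
    a = 1 := by
  have h1 : orderOf a ∣ 2 := orderOf_dvd_of_pow_eq_one (by rw [sq, h])
  have h2 := (ho.coprime_two_right.coprime_dvd_left (orderOf_dvd_natCard A ha)).eq_one_of_dvd h1
  exact orderOf_eq_one_iff.1 h2

theorem inverts (hA : CC A) {t : G} (ht : t ∈ normalizer (A : Set G)) (tA : t ∉ A) (tt : t * t = 1)
    {a : G} (ha : a ∈ A) : t * a * t⁻¹ = a⁻¹ := by
  have h1 := (mem_normalizer_iff.1 ht a).1 ha
  by_contra n
  refine tA ((mem_iff hA (mul_mem ha h1) fun e => n (eq_inv_of_mul_eq_one_right e)).2 ?_)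
  rw [← mul_inv_eq_iff_eq_mul, comm hA ha h1]
  calc t * (t * a * t⁻¹ * a) * t⁻¹ = (t * t) * a * (t * t)⁻¹ * (t * a * t⁻¹) := by group
    _ = _ := by rw [tt, ← comm hA ha h1]; group

theorem card_normalizer [Finite G] (A : Subgroup G) : Nat.card (normalizer (A : Set G)) =
    Nat.card A * A.relIndex (normalizer (A : Set G)) := by
  rw [← (A.subgroupOf (normalizer (A : Set G))).card_mul_index,
    Nat.card_congr (subgroupOfEquivOfLe le_normalizer).toEquiv]
  rfl

theorem exists_loc [Finite G] {A : Subgroup G} (hA : CC A) {e : ℕ}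
    (he : A.relIndex (Subgroup.normalizer (A : Set G)) = e) (hev : Even e) : ∃ m, Loc A e m := by
  have : Fact (Nat.Prime 2) := ⟨Nat.prime_two⟩
  set N := normalizer (A : Set G) with hN
  have pos : 0 < Nat.card A := Nat.card_pos
  have d1 : e ∣ Nat.card A - 1 := by
    have := H14.SP.relIndex_dvd_ncard (fun g a : G => g * a * g⁻¹) (by simp) (by intros; group)
      (Γ := N) (K := A) (S := (A : Set G) \ {1}) (Set.toFinite _)
      (fun g hg s hs => ⟨(mem_normalizer_iff.1 hg s).1 hs.1, by simpa using hs.2⟩)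
      fun s hs g _ => by rw [mem_iff hA hs.1 hs.2, mul_inv_eq_iff_eq_mul]
    rwa [he, Set.ncard_sdiff_singleton_of_mem A.one_mem, ← Nat.card_coe_set_eq] at this
  obtain ⟨m, hm⟩ := d1
  have hc : Nat.card A = e * m + 1 := by omega
  have ho : Odd (Nat.card A) := hc ▸ (hev.mul_right m).add_one
  refine ⟨m, hA, he, hc, ?_, ?_⟩
  · have fx : ∀ a ∈ A, a • ((1 : G) : G ⧸ N) = (1 : G) := fun a ha =>
      QuotientGroup.eq.2 (by simpa using le_normalizer ha)
    have := H14.SP.relIndex_dvd_ncard (fun (g : G) (q : G ⧸ N) => g • q) (by simp)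
      (fun g h q => mul_smul g h q) (Γ := A) (K := ⊥) (S := Set.univ \ {((1 : G) : G ⧸ N)})
      (Set.toFinite _) (fun g hg s hs => ⟨trivial, fun e => hs.2 (by
        have := congrArg (g⁻¹ • ·) (Set.mem_singleton_iff.1 e)
        simpa [fx _ (inv_mem hg)] using this)⟩)
      fun s hs a ha => ⟨fun e0 => by
        obtain ⟨g, rfl⟩ := QuotientGroup.mk_surjective s
        by_contra n
        have h1 : g⁻¹ * a * g ∈ N := by
          have := inv_mem (QuotientGroup.eq.1 (e0 : ((a * g : G) : G ⧸ N) = g))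
          simpa [mul_assoc] using this
        have h2 : (g⁻¹ * a * g) ^ e ∈ A := by
          rw [← he]; exact (A.subgroupOf N).pow_index_mem (⟨_, h1⟩ : N)
        have h3 : g⁻¹ * a * g ∈ zpowers ((g⁻¹ * a * g) ^ e) := by
          rw [mem_zpowers_pow_iff]
          refine Nat.Coprime.coprime_dvd_right ?_
            (show e.Coprime (Nat.card A) by rw [hc]; simp)
          have := orderOf_dvd_natCard A ha
          rwa [← (MulAut.conj g⁻¹).orderOf_eq, MulAut.conj_apply, inv_inv] at this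
        have h4 := ti hA ha n (g := g⁻¹) (by rw [inv_inv]; exact zpowers_le.2 h2 h3)
        exact hs.2 (QuotientGroup.eq.2 (by simpa using h4)), fun e => by
          rw [mem_bot.1 e, one_smul]⟩
    rw [relIndex_bot_left, Set.ncard_sdiff_singleton_of_mem (Set.mem_univ _), Set.ncard_univ] at this
    exact ((Nat.modEq_iff_dvd' (Nat.card_pos (α := G ⧸ N))).2 this).symm
  · obtain ⟨t, ht⟩ := exists_prime_orderOf_dvd_card' (G := N) 2 (by
      rw [card_normalizer, he]; exact hev.two_dvd.mul_left _)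
    have o : orderOf t.1 = 2 := (orderOf_coe t).trans ht
    have tt : t.1 * t.1 = 1 := by rw [← sq, ← o, pow_orderOf_eq_one]
    have tA : t.1 ∉ A := fun h => by
      rw [eq_one_of_odd ho h tt, orderOf_one] at o
      omega
    exact ⟨t, o, tA, fun a ha => inverts hA t.2 tA tt ha⟩

theorem exists_ord4 [Finite G] {A : Subgroup G} {m : ℕ} (L : Loc A 4 m) (hm : m ≠ 0) :
    ∃ u : G, orderOf u = 4 := by
  have : Fact (Nat.Prime 2) := ⟨Nat.prime_two⟩
  by_contra hn
  push Not at hn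
  have ho : Odd (Nat.card A) := L.card ▸ ⟨2 * m, by ring⟩
  obtain ⟨K, hK⟩ := Sylow.exists_subgroup_card_pow_prime (G := normalizer (A : Set G)) 2 (n := 2)
    (by rw [card_normalizer, L.rel]; exact Dvd.intro_left _ rfl)
  have sq' : ∀ k ∈ K, k.1 * k.1 = 1 := fun k hk => by
    have h1 : orderOf k.1 ∣ 2 ^ 2 := by rw [orderOf_coe, ← hK]; exact orderOf_dvd_natCard K hk
    obtain ⟨i, hi, e⟩ := (Nat.dvd_prime_pow Nat.prime_two).1 h1
    have h2 : i ≠ 2 := fun e' => hn k.1 (by rw [e, e']; rfl)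
    rw [← sq]
    exact orderOf_dvd_iff_pow_eq_one.1 (e ▸ pow_dvd_pow 2 (show i ≤ 1 by omega))
  have iv : ∀ k ∈ K, k ≠ 1 → ∀ a ∈ A, k.1 * a * k.1⁻¹ = a⁻¹ := fun k hk h1 a ha =>
    inverts L.cc k.2 (fun h => h1 (Subtype.ext (eq_one_of_odd ho h (sq' k hk)))) (sq' k hk) ha
  obtain ⟨a, ha⟩ : ∃ a : A, a ≠ 1 := by
    have : Nontrivial A := Finite.one_lt_card_iff_nontrivial.1 (by rw [L.card]; omega)
    exact exists_ne 1
  have := Fintype.ofFinite K
  obtain ⟨s, t, h1, h2, h3⟩ : ∃ s t : K, s ≠ 1 ∧ t ≠ 1 ∧ s ≠ t := by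
    obtain ⟨x, y, z, h1, h2, h3⟩ := Fintype.two_lt_card_iff.1 (show 2 < Fintype.card K by
      rw [← Nat.card_eq_fintype_card, hK]; norm_num)
    exact ⟨x⁻¹ * y, x⁻¹ * z, fun e => h1 (inv_mul_eq_one.1 e), fun e => h2 (inv_mul_eq_one.1 e),
      fun e => h3 (mul_left_cancel e)⟩
  have e1 := iv s.1 s.2 (fun e => h1 (Subtype.ext e)) a a.2
  have e2 := iv t.1 t.2 (fun e => h2 (Subtype.ext e)) a a.2
  have h4 : (s⁻¹ * t).1.1 ∈ A := (mem_iff L.cc a.2 fun e => ha (Subtype.ext e)).2 (by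
    show s.1.1⁻¹ * t.1.1 * a = a * (s.1.1⁻¹ * t.1.1)
    calc s.1.1⁻¹ * t.1.1 * a = s.1.1⁻¹ * (t.1.1 * a * t.1.1⁻¹) * t.1.1 := by group
      _ = _ := by rw [e2, ← e1]; group)
  exact h3 (inv_mul_eq_one.1 (Subtype.ext (Subtype.ext
    (eq_one_of_odd ho h4 (sq' _ (s⁻¹ * t).2)))))

theorem conj_mem [Finite G] {A : Subgroup G} (hA : CC A) {y : G} (hy : y ≠ 1)
    (h : ¬ (orderOf y).Coprime (Nat.card A)) : ∃ a ∈ A, IsConj a y := by
  have _ := hy
  obtain ⟨r, hr, h1, h2⟩ := Nat.Prime.not_coprime_iff_dvd.1 h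
  have : Fact r.Prime := ⟨hr⟩
  have pg : ∀ x : G, orderOf x = r → IsPGroup r (zpowers x) := fun x hx =>
    IsPGroup.of_card (n := 1) (by rw [Nat.card_zpowers, hx, pow_one])
  have ne : ∀ x : G, orderOf x = r → x ≠ 1 := fun x hx e => by
    rw [e, orderOf_one] at hx
    exact hr.one_lt.ne hx
  obtain ⟨a, ha⟩ := exists_prime_orderOf_dvd_card' (G := A) r h2
  have oa : orderOf a.1 = r := (orderOf_coe a).trans ha
  obtain ⟨P, hP⟩ := (pg _ oa).exists_le_sylow
  have aP : a.1 ∈ (P : Subgroup G) := hP (mem_zpowers _)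
  have : Nontrivial (P : Subgroup G) := ⟨⟨⟨_, aP⟩, 1, fun e => ne _ oa (congrArg Subtype.val e)⟩⟩
  have := P.2.center_nontrivial
  obtain ⟨z, hz⟩ := exists_ne (1 : center (P : Subgroup G))
  have cz : ∀ x ∈ (P : Subgroup G), x * z.1.1 = z.1.1 * x := fun x hx =>
    congrArg Subtype.val (mem_center_iff.1 z.2 ⟨x, hx⟩)
  have PA : (P : Subgroup G) ≤ A := fun x hx =>
    (mem_iff hA ((mem_iff hA a.2 (ne _ oa)).2 (cz _ aP).symm)
      fun e => hz (Subtype.ext (Subtype.ext e))).2 (cz x hx)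
  have oy : orderOf (y ^ (orderOf y / r)) = r := orderOf_pow_orderOf_div (orderOf_pos y).ne' h1
  obtain ⟨Q, hQ⟩ := (pg _ oy).exists_le_sylow
  obtain ⟨g, rfl⟩ := MulAction.exists_smul_eq G P Q
  obtain ⟨b, hb, e⟩ : ∃ b ∈ (P : Subgroup G), g * b * g⁻¹ = y ^ (orderOf y / r) :=
    hQ (mem_zpowers _)
  refine ⟨g⁻¹ * y * g, (mem_iff hA (PA hb) fun e' => ne _ oy (by rw [← e, e']; simp)).2 ?_,
    isConj_iff.2 ⟨g, by group⟩⟩
  rw [← conj_comm g, e, show g * (g⁻¹ * y * g) * g⁻¹ = y by group]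
  exact (Commute.self_pow y _).eq

theorem coprime_of_not_conj [Finite G] {A B : Subgroup G} (hA : CC A) (hB : CC B)
    (h : ∀ g : G, A.map (MulAut.conj g).toMonoidHom ≠ B) : (Nat.card A).Coprime (Nat.card B) := by
  by_contra n
  obtain ⟨r, hr, h1, h2⟩ := Nat.Prime.not_coprime_iff_dvd.1 n
  have : Fact r.Prime := ⟨hr⟩
  obtain ⟨a, ha⟩ := exists_prime_orderOf_dvd_card' (G := A) r h1
  have oa : orderOf a.1 = r := (orderOf_coe a).trans ha
  have a1 : a.1 ≠ 1 := fun e => by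
    rw [e, orderOf_one] at oa
    exact hr.one_lt.ne oa
  obtain ⟨b, hb, c⟩ := conj_mem hB a1 (Nat.Prime.not_coprime_iff_dvd.2 ⟨r, hr, oa ▸ dvd_rfl, h2⟩)
  obtain ⟨g, rfl⟩ := isConj_iff.1 c.symm
  refine h g (Subgroup.ext fun x => ?_)
  rw [mem_map_equiv, mem_iff hA a.2 a1, mem_iff hB hb (by simpa using a1), ← conj_comm g]
  simp [mul_assoc]

end Cfsg.Agent.H70.Ito
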