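/-
Strongly self-centralizing subgroups: the induced generalized characters.
-/
import Cfsg.Agent.H70.Ito1
import Cfsg.Agent.H14.InduceChar
import Cfsg.Agent.H20.Tau

set_option autoImplicit false

namespace Cfsg.Agent.H70.Ito

open Cfsg Subgroup Cfsg.Agent.H14.Ito Cfsg.Agent.H11 Cfsg.Agent.H20

variable {G : Type*} [Group G] {A : Subgroup G}

/-- The automiser. -/
abbrev AE (A : Subgroup G) : Subgroup (MulAut A) := A.normalizerMonoidHom.range

/-- The conjugate of a linear character. -/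
def lact (ψ : A →* ℂˣ) (e : AE A) : A →* ℂˣ := ψ.comp (e.1 : A ≃* A).toMonoidHom

theorem lact_lact (ψ : A →* ℂˣ) (e f : AE A) : lact (lact ψ e) f = lact ψ (e * f) := rfl

theorem lact_ne_one {ψ : A →* ℂˣ} (h : ψ ≠ 1) (e : AE A) : lact ψ e ≠ 1 := fun h' => h (by
  rw [show ψ = lact ψ 1 from rfl, ← mul_inv_cancel e, ← lact_lact, h']; rfl)

theorem ker_eq (hA : CC A) {a : A} (ha : a ≠ 1) (n : normalizer (A : Set G)) :
    A.normalizerMonoidHom n a = a ↔ n.1 ∈ A := by
  rw [mem_iff hA a.2 fun e => ha (Subtype.ext e), ← mul_inv_eq_iff_eq_mul, Subtype.ext_iff]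
  rfl

theorem free (hA : CC A) {e : AE A} {y : A} (hy : y ≠ 1) (he : e.1 y = y) : e = 1 := by
  obtain ⟨_, n, rfl⟩ := e
  refine Subtype.ext (MulEquiv.ext fun x => Subtype.ext ?_)
  exact mul_inv_eq_iff_eq_mul.2 (comm hA ((ker_eq hA hy n).1 he) x.2)

theorem apply_injective (hA : CC A) {y : A} (hy : y ≠ 1) :
    Function.Injective fun e : AE A => e.1 y := fun e f hef => by
  have : (f⁻¹ * e).1 y = y := by
    change (f.1)⁻¹ (e.1 y) = y
    rw [show e.1 y = f.1 y from hef]; simp
  exact (inv_mul_eq_one.1 (free hA hy this)).symm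

theorem lact_injective [Finite G] (hA : CC A) {ψ : A →* ℂˣ} (hψ : ψ ≠ 1) :
    Function.Injective (lact ψ) := fun e f hef => by
  by_contra hne
  apply hψ
  have h1 : Function.Injective fun y : A => (e.1 y)⁻¹ * f.1 y := by
    intro x y hxy
    by_contra hxy'
    refine hne (apply_injective hA (y := x * y⁻¹) (fun h' => hxy' (mul_inv_eq_one.1 h')) ?_)
    simp only [map_mul, map_inv] at hxy ⊢
    rw [inv_mul_eq_iff_eq_mul] at hxy
    rw [hxy, mul_assoc, mul_assoc, mul_inv_cancel, mul_one]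
  ext y
  obtain ⟨x, rfl⟩ := Finite.surjective_of_injective h1 y
  have : ψ (e.1 x) = ψ (f.1 x) := DFunLike.congr_fun hef x
  simp [this]

theorem card_AE (hA : CC A) {a : A} (ha : a ≠ 1) :
    Nat.card (AE A) = A.relIndex (normalizer (A : Set G)) := by
  rw [← index_ker]
  congr 1
  ext n
  exact ⟨fun h => (ker_eq hA ha n).1 (by rw [h]; rfl), fun h => MulEquiv.ext fun x =>
    Subtype.ext (mul_inv_eq_iff_eq_mul.2 (comm hA h x.2))⟩

theorem ind_apply [Fintype G] [Fintype (AE A)] (hA : CC A) (θ : A → ℂ) (h1 : θ 1 = 0) (a : A) :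
    indFun A θ a = ∑ e : AE A, θ (e.1 a) := by
  classical
  by_cases ha : a = 1
  · subst ha
    have := H14.extendByZero_coe A θ 1
    simp [indFun, h1, show extendByZero A θ 1 = θ 1 from this]
  let π := A.normalizerMonoidHom.rangeRestrict
  have e1 : ∑ x : G, extendByZero A θ (x * a * x⁻¹) =
      ∑ n : normalizer (A : Set G), θ ((π n).1 a) := by
    rw [← Finset.sum_subset (Finset.subset_univ (Finset.univ.map
      ⟨_, (normalizer (A : Set G)).subtype_injective⟩)) fun x _ hx =>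
        H14.extendByZero_of_not_mem A θ fun h => hx (Finset.mem_map.2
          ⟨⟨x, ti hA a.2 (fun e => ha (Subtype.ext e)) h⟩, Finset.mem_univ _, rfl⟩), Finset.sum_map]
    exact Finset.sum_congr rfl fun n _ => H14.extendByZero_coe A θ ((π n).1 a)
  have e2 : ∀ e : AE A, (Finset.univ.filter fun n => π n = e).card = Nat.card A := fun e => by
    have k : Nat.card π.ker = Nat.card A := by
      rw [← Nat.card_congr (subgroupOfEquivOfLe (le_normalizer (H := A))).toEquiv]
      congr 2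
      ext n
      exact ⟨fun h => (ker_eq hA ha n).1 (DFunLike.congr_fun (congrArg Subtype.val h) a),
        fun h => Subtype.ext (MulEquiv.ext fun x =>
        Subtype.ext (mul_inv_eq_iff_eq_mul.2 (comm hA h x.2)))⟩
    rw [← k, ← Nat.card_congr (π.fiberEquivKerOfSurjective
      A.normalizerMonoidHom.rangeRestrict_surjective e), Nat.card_eq_fintype_card,
      Fintype.card_subtype]
    congr 1
    ext n
    simp
  rw [H14.indFun_apply', e1, ← Finset.sum_fiberwise (s := Finset.univ) (g := π), Finset.mul_sum]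
  refine Finset.sum_congr rfl fun e _ => ?_
  rw [Finset.sum_congr rfl (g := fun _ => θ (e.1 a)) fun n hn => by rw [(Finset.mem_filter.1 hn).2],
    Finset.sum_const, e2, nsmul_eq_mul, ← mul_assoc, inv_mul_cancel₀ (card_ne_zero _), one_mul]

theorem one_sub_lin {S : Type*} [Group S] [Fintype S] {ψ : S →* ℂˣ} (hψ : ψ ≠ 1) :
    classInner (fun _ => 1) ((fun _ => 1) - lin ψ) = 1 := by
  classical
  rw [classInner_sub_right, classInner_one_one, ← lin_one, classInner_lin, if_neg hψ.symm, sub_zero]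

theorem exists_TH [Fintype G] {A : Subgroup G} {e m : ℕ} (L : Loc A e m) :
    ∃ θ : Fin m → G → ℂ, TH A e θ := by
  classical
  have hA := L.cc
  rcases Nat.eq_zero_or_pos m with rfl | hm
  · refine ⟨fun i => i.elim0, fun i => i.elim0, fun i => i.elim0, fun i => i.elim0,
      fun i => i.elim0, fun f _ _ a ha h1 => absurd ?_ h1⟩
    rwa [card_eq_one.1 L.card] at ha
  have e0 : 0 < e := L.rel ▸ Nat.pos_of_ne_zero (index_ne_zero_of_finite)
  obtain ⟨a₀, ha₀⟩ : ∃ a : A, a ≠ 1 := by
    have : Nontrivial A := Finite.one_lt_card_iff_nontrivial.1 (by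
      have := Nat.mul_pos e0 hm
      rw [L.card]; omega)
    exact exists_ne 1
  have cE : Nat.card (AE A) = e := (card_AE hA ha₀).trans L.rel
  have cm : ∀ a b : A, a * b = b * a := fun a b => Subtype.ext (comm hA a.2 b.2)
  have := finite_monoidHom_units (G := A)
  have := Fintype.ofFinite (A →* ℂˣ)
  have := Fintype.ofFinite (AE A)
  let T : (A →* ℂˣ) → G → ℂ := fun ψ => indFun A ((fun _ => 1) - lin ψ)
  have cf : ∀ ψ, IsClassFunction G (T ψ) := fun ψ => H14.indFun_isClassFunction _ _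
  have gram : ∀ φ ψ, φ ≠ 1 → ψ ≠ 1 →
      classInner (T φ) (T ψ) = e + if ∃ c, φ = lact ψ c then 1 else 0 := by
    intro φ ψ hφ hψ
    have e1 : (fun y : A => T ψ y) = ∑ c : AE A, ((fun _ => 1) - lin (lact ψ c)) := by
      funext y
      rw [Finset.sum_apply]
      exact ind_apply hA _ (by simp [lin]) y
    rw [H14.classInner_indFun_left A _ (cf ψ), e1, classInner_sum_right, Finset.sum_congr rfl
      (g := fun c => 1 + if φ = lact ψ c then 1 else 0) fun c _ => by
        rw [classInner_sub_left, one_sub_lin (lact_ne_one hψ c), classInner_sub_right,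
          ← lin_one, classInner_lin, classInner_lin, if_neg hφ]
        ring]
    rw [Finset.sum_add_distrib, Finset.sum_const, Finset.card_univ, nsmul_eq_mul, mul_one,
      ← Nat.card_eq_fintype_card, cE]
    congr 1
    split_ifs with hex
    · obtain ⟨c, rfl⟩ := hex
      simp [(lact_injective hA hψ).eq_iff]
    · exact Finset.sum_eq_zero fun c _ => if_neg fun h' => hex ⟨c, h'⟩
  have orb : ∀ ψ, ψ ≠ 1 → ∀ c, T (lact ψ c) = T ψ := fun ψ hψ c => by
    have hψ' := lact_ne_one hψ c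
    rw [← sub_eq_zero, ← classInner_self_eq_zero, classInner_sub_left, classInner_sub_right,
      classInner_sub_right, gram _ _ hψ' hψ', gram _ _ hψ' hψ, gram _ _ hψ hψ', gram _ _ hψ hψ,
      if_pos ⟨1, rfl⟩, if_pos ⟨c, rfl⟩, if_pos ⟨c⁻¹, by rw [lact_lact, mul_inv_cancel]; rfl⟩,
      if_pos ⟨1, rfl⟩]
    ring
  let S : Setoid {ψ : A →* ℂˣ // ψ ≠ 1} := ⟨fun φ ψ => ∃ c, φ.1 = lact ψ.1 c,
    fun _ => ⟨1, rfl⟩, fun ⟨c, hc⟩ => ⟨c⁻¹, by rw [hc, lact_lact, mul_inv_cancel]; rfl⟩,
    fun ⟨c, hc⟩ ⟨f, hf⟩ => ⟨f * c, by rw [hc, hf, lact_lact]⟩⟩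
  have hcard : Nat.card (Quotient S) * Nat.card (AE A) + 1 = Nat.card A := by
    rw [← Nat.card_prod, ← card_lin cm, ← Nat.card_congr (Equiv.optionSubtypeNe (1 : A →* ℂˣ)),
      Finite.card_option]
    congr 1
    refine Nat.card_congr (Equiv.ofBijective
      (fun x : Quotient S × AE A => (⟨lact x.1.out.1 x.2, lact_ne_one x.1.out.2 _⟩ :
        {ψ : A →* ℂˣ // ψ ≠ 1})) ⟨?_, fun ψ => ?_⟩)
    · rintro ⟨i, c⟩ ⟨j, f⟩ hij
      have h1 : lact i.out.1 c = lact j.out.1 f := congrArg Subtype.val hij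
      obtain rfl : i = j := Quotient.out_equiv_out.1
        ⟨f * c⁻¹, by rw [← lact_lact, ← h1, lact_lact, mul_inv_cancel]; rfl⟩
      rw [lact_injective hA i.out.2 h1]
    · obtain ⟨c, hc⟩ := S.symm (Quotient.mk_out ψ)
      exact ⟨(⟦ψ⟧, c), Subtype.ext hc.symm⟩
  have hq : Nat.card (Quotient S) = m := by
    rw [cE, L.card, mul_comm, Nat.add_right_cancel_iff] at hcard
    exact Nat.eq_of_mul_eq_mul_left e0 hcard
  let q : Quotient S ≃ Fin m := Finite.equivFinOfCardEq hq
  refine ⟨fun i => T (q.symm i).out.1, fun i => H14.IsGeneralizedCharacter.indFun A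
    (isGen_sub isGen_one (isGen_of_irr (isIrrCharacter_monoidHom _))), fun i g hg => ?_,
    fun i j => ?_, fun i => ?_, fun f hf h0 a ha h1 => ?_⟩
  · refine mul_eq_zero_of_right _ (Finset.sum_eq_zero fun x _ => ?_)
    by_cases hx : x⁻¹ * g * x ∈ A
    · by_cases h1 : x⁻¹ * g * x = 1
      · rw [h1]
        exact (H14.extendByZero_coe A _ 1).trans (by simp [lin])
      · exact absurd (isConj_iff.2 ⟨x, by group⟩) (hg _ hx h1)
    · exact H14.extendByZero_of_not_mem A _ hx
  · rw [gram _ _ (q.symm i).out.2 (q.symm j).out.2]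
    congr 2
    exact propext ((Quotient.out_equiv_out (x := q.symm i) (y := q.symm j)).trans
      q.symm.injective.eq_iff)
  · rw [H14.classInner_indFun_left A _ (fun _ _ => rfl), ← conj_classInner,
      one_sub_lin (q.symm i).out.2, map_one]
  · refine (fourier' cm (fun y : A => f y) (z := ⟨a, ha⟩)
      fun e => h1 (congrArg Subtype.val e)).trans (neg_eq_zero.2
        (Finset.sum_eq_zero fun ψ _ => mul_eq_zero_of_left ?_ _))
    by_cases hψ : ψ = 1
    · rw [hψ, lin_one, sub_self, classInner_zero_right]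
    obtain ⟨c, hc⟩ := Quotient.mk_out (s := S) ⟨ψ, hψ⟩
    have := h0 (q ⟦⟨ψ, hψ⟩⟧)
    rwa [q.symm_apply_apply, hc, orb ψ hψ, H14.classInner_indFun_right A _ hf] at this

end Cfsg.Agent.H70.Ito
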