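import Mathlib
import Cfsg.Agent.H17.KnDef2

/-!
# Case II: an element that induces the graph automorphism
-/

set_option autoImplicit false
set_option maxRecDepth 100000
set_option synthInstance.maxSize 2000

namespace Cfsg.Agent.H70.KnC2a

open Equiv Subgroup Cfsg.Agent.H11.A16 Cfsg.Agent.H63 Cfsg.Agent.H8.GD Cfsg.Agent.H17.Kn
open Cfsg.Agent.H89.Rec (Syl)

universe u

theorem enQ {u : N2} (hu : u ∈ QQ) : en u 1 2 = 0 ∧ en u 2 3 = 0 := by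
  have h : ∀ p, u.σ p = p ^^^ u.σ 0 := hu.1
  have e1 : en u 1 2 = bit (u.σ 2) 0 + bit (u.σ 0) 0 := rfl
  have e2 : en u 2 3 = bit (u.σ 4) 1 + bit (u.σ 0) 1 := rfl
  rw [e1, e2, h 2, h 4]
  generalize u.σ 0 = s
  revert s; decide

/-- The exchange of the coordinates 2 and 3. -/
def k23 : N2 := xe 2 3 * xe 3 2 * xe 2 3
/-- The exchange of the coordinates 1 and 2. -/
def k12 : N2 := xe 1 2 * xe 2 1 * xe 1 2

theorem f1 : k23 ∈ QK ∧ k12 ∈ QK ∧ xe 1 2 ∈ T0 ∧ xe 2 3 ∈ T0 ∧ xe 1 3 ∈ T0 ∧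
    k23 * xe 1 2 * k23⁻¹ = xe 1 3 ∧ k12 * xe 2 3 * k12⁻¹ = xe 1 3 := by decide +kernel

theorem f2 : (∀ i, gm (k12 * xe i 4 * k12⁻¹) = k23 * gm (xe i 4) * k23⁻¹) ∧
    (∀ j, gm (k12 * xe 0 j * k12⁻¹) = k23 * gm (xe 0 j) * k23⁻¹) ∧
    (∀ i, gm (k23 * xe i 4 * k23⁻¹) = k12 * gm (xe i 4) * k12⁻¹) ∧
    (∀ j, gm (k23 * xe 0 j * k23⁻¹) = k12 * gm (xe 0 j) * k12⁻¹) := by decide +kernel

theorem f3 : (∀ i, xe i 4 ∈ QQ) ∧ (∀ j, xe 0 j ∈ QQ) ∧ gm (xe 1 2) = xe 2 3 ∧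
    gm (xe 2 3) = xe 1 2 ∧ gm (xe 1 3) = xe 1 3 ∧ en (xe 1 2) 1 2 = 1 ∧ en (xe 1 2) 2 3 = 0 ∧
    en (xe 2 3) 1 2 = 0 ∧ en (xe 2 3) 2 3 = 1 ∧ en (xe 1 3) 1 2 = 0 ∧ en (xe 1 3) 2 3 = 0 ∧
    zp 0 = 1 ∧ zp 1 ≠ 1 ∧ ∀ c, zp c ∈ T0 := by decide +kernel

theorem zp_comm (c : ZMod 2) (m : N2) : m * zp c = zp c * m :=
  N2.ext (by simp [zp]) (funext fun p => by simp [zp, add_comm])

variable {G : Type u} [Group G] [Finite G] {J : N2 → G} {φ : G → Perm Ω}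

theorem nrm_of {X : Subgroup N2} (h : Em J X) {g : G} (hg : ∀ u ∈ X, ∃ v ∈ X, R J g u v) :
    g ∈ N[im J X] := by
  refine Subgroup.mem_normalizer_fintype fun n hn => ?_
  obtain ⟨u, hu, rfl⟩ := h.mem.1 hn
  obtain ⟨v, hv, e⟩ := hg u hu
  rw [show g * J u * g⁻¹ = J v from e]
  exact mem_im hv

omit [Finite G] in
theorem req {g : G} {u v w : N2} (a : R J g u v) (b : R J g u w) : J v = J w :=
  Eq.trans (Eq.symm a) b

theorem sw2 (hB : Base.{u}) (h : Sw J φ) {g : G} (hg : g ∈ N[im J QQ]) (hn : g ∉ NA J) :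
    (∀ a ∈ AA, ∃ b ∈ AP, R J g a b) ∧ ∀ b ∈ AP, ∃ a ∈ AA, R J g b a := by
  have hP : AP ≤ T0 := hB.m2.le.2.2.2.2.1.trans hB.m2.le.2.1
  refine ⟨(h.nq g hg).resolve_left hn, fun b hb => ?_⟩
  have h1 := (h.nq g⁻¹ (inv_mem hg)).resolve_left (fun a => hn (by simpa using inv_mem a))
  have h2 : (im J AA).map (MulAut.conj g⁻¹).toMonoidHom = im J AP := by
    refine eq_of_le_of_card_ge ?_ ?_
    · rintro _ ⟨n, hn, rfl⟩
      obtain ⟨u, hu, rfl⟩ := (h.em.mono AA_le_T0).mem.1 hn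
      obtain ⟨v, hv, e⟩ := h1 u hu
      have : (MulAut.conj g⁻¹).toMonoidHom (J u) = J v := e
      rw [this]; exact mem_im hv
    · rw [card_map_of_injective (MulAut.conj g⁻¹).injective, (h.em.mono AA_le_T0).card,
        (h.em.mono hP).card, hB.m1.cAA, hB.m1.cAP]
  have h3 : J b ∈ (im J AA).map (MulAut.conj g⁻¹).toMonoidHom := h2 ▸ mem_im hb
  obtain ⟨n, hn, e⟩ := h3
  obtain ⟨u, hu, rfl⟩ := (h.em.mono AA_le_T0).mem.1 hn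
  have e' : R J g⁻¹ u b := e
  exact ⟨u, hu, by simpa using e'.symm⟩

theorem cjN (hB : Base.{u}) (h : Sw J φ) {g : G} (hg : g ∈ N[im J QQ]) (hn : g ∉ NA J) {n : G}
    (h1 : n ∈ N[im J QQ]) (h2 : n ∈ NA J) : g * n * g⁻¹ ∈ NA J := by
  have K := hB.kit J φ h.toKi
  obtain ⟨k, hk, -, hx⟩ := K.nq n h2 h1
  have s1 := sw2 hB h (inv_mem hg) (fun a => hn (by simpa using inv_mem a))
  have s2 := sw2 hB h hg hn
  refine K.mna _ fun a ha => ?_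
  obtain ⟨b, hb, e1⟩ := s1.1 a ha
  have hb' := ((hB.m2.nrm k).2.2.2.1 hk).2 b hb
  obtain ⟨a', ha', e3⟩ := s2.2 _ hb'
  have e2 := hx b (hB.m2.le.2.2.2.2.1 hb)
  refine ⟨a', ha', ?_⟩
  have := (e1.trans e2).trans e3
  rwa [← mul_assoc] at this

theorem realK (hB : Base.{u}) (h : Ki J φ) {k : N2} (hk : k ∈ QK) :
    ∃ g ∈ NA J, ∀ u ∈ T0, k * u * k⁻¹ ∈ T0 → R J g u (k * u * k⁻¹) := by
  obtain ⟨g, hg, -, hy⟩ := (hB.kit J φ h).real (T0 ⊓ T0.comap (MulAut.conj k).toMonoidHom) T0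
    inf_le_left le_rfl (pm2 k) (hB.af.qk k hk)
    (fun u hu => ⟨k * u * k⁻¹, hu.2, by simp⟩)
  exact ⟨g, hg, fun u hu hu' => hy u ⟨hu, hu'⟩ _ hu' (by simp)⟩

theorem chi0 (hB : Base.{u}) (h : Sw J φ) {t : G} (ht : t ∈ N[im J QQ]) (hn : t ∉ NA J)
    (hQ : ∀ u ∈ QQ, R J t (gm u) u) {k k' y y' : N2} {c : ZMod 2} (hk : k ∈ QK) (hk' : k' ∈ QK)
    (hy : y ∈ T0) (hy' : y' ∈ T0) (e1 : k * y * k⁻¹ = xe 1 3) (e2 : k' * y' * k'⁻¹ = xe 1 3)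
    (r1 : R J t y (y' * zp c)) (r2 : R J t (xe 1 3) (xe 1 3))
    (g1 : ∀ i, gm (k' * xe i 4 * k'⁻¹) = k * gm (xe i 4) * k⁻¹)
    (g2 : ∀ j, gm (k' * xe 0 j * k'⁻¹) = k * gm (xe 0 j) * k⁻¹) : c = 0 := by
  have K := hB.kit J φ h.toKi
  have hQT : QQ ≤ T0 := hB.m2.le.2.1
  have hKE : QK ≤ QE := hB.m2.le.2.2.2.2.2.2.2.2.2.1
  have nQ : ∀ m ∈ QK, ∀ u ∈ QQ, m * u * m⁻¹ ∈ QQ := fun m hm =>
    ((hB.m2.nrm m).2.2.2.2.1 (hKE hm)).1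
  obtain ⟨g, hg, hx⟩ := realK hB h.toKi hk
  have hgQ : g ∈ N[im J QQ] := nrm_of (h.em.mono hQT) fun u hu =>
    ⟨_, nQ k hk u hu, hx u (hQT hu) (hQT (nQ k hk u hu))⟩
  have hN := cjN hB h ht hn hgQ hg
  have hNQ : t * g * t⁻¹ ∈ N[im J QQ] := mul_mem (mul_mem ht hgQ) (inv_mem ht)
  obtain ⟨m, hm, hφ, hE⟩ := K.nq _ hN hNQ
  have key : ∀ u ∈ QQ, gm (k' * u * k'⁻¹) = k * gm u * k⁻¹ → Commute (k'⁻¹ * m) u := by
    intro u hu e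
    have a1 := (hQ u hu).symm
    have a2 := hx (gm u) (hB.m3.gma.mem u (hQT hu))
      (e ▸ hB.m3.gma.mem _ (hQT (nQ k' hk' u hu)))
    have a3 := hQ _ (nQ k' hk' u hu)
    rw [e] at a3
    have a4 := (a1.trans a2).trans a3
    rw [← mul_assoc] at a4
    have a5 := hE u hu
    have a6 : m * u * m⁻¹ = k' * u * k'⁻¹ :=
      h.em.inj _ (hQT (nQ m hm u hu)) _ (hQT (nQ k' hk' u hu)) (req a5 a4)
    change k'⁻¹ * m * u = u * (k'⁻¹ * m)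
    calc k'⁻¹ * m * u = k'⁻¹ * (m * u * m⁻¹) * m := by group
      _ = u * (k'⁻¹ * m) := by rw [a6]; group
  have cA : AA ≤ C1[k'⁻¹ * m] := hB.m2.gAA _ fun i =>
    mem_centralizer_singleton_iff.2 (key _ (f3.1 i) (g1 i)).symm
  have cP : AP ≤ C1[k'⁻¹ * m] := hB.m2.gAP _ fun j =>
    mem_centralizer_singleton_iff.2 (key _ (f3.2.1 j) (g2 j)).symm
  have cQ := hB.m3.cQQ (k'⁻¹ * m) fun u hu => by
    obtain ⟨a, ha, b, hb, rfl⟩ := hB.m2.pQQ u hu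
    exact (mem_centralizer_singleton_iff.1 (mul_mem (cA ha) (cP hb))).symm
  have h13 : xe 1 3 ∈ T0 := f1.2.2.2.2.1
  have b1 := hx y hy (e1 ▸ h13)
  rw [e1] at b1
  have b2 := (r1.symm.trans b1).trans r2
  rw [← mul_assoc] at b2
  have b3 := K.down _ hN _ (mul_mem hy' (f3.2.2.2.2.2.2.2.2.2.2.2.2.2 c)) _ h13 b2
  rw [hφ, ← map_inv, ← map_mul, ← map_mul] at b3
  have b4 := pm2_inj b3
  have b5 : m * y' * m⁻¹ = xe 1 3 := by
    rw [← e2]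
    rcases cQ with e | e
    · rw [inv_mul_eq_one] at e; rw [e]
    · rw [inv_mul_eq_iff_eq_mul] at e
      rw [e, H17.Kn.z2, mul_inv_rev, mul_assoc k', ← zp_comm, ← mul_assoc]; group
  have b6 : zp c = 1 := by
    have : m * (y' * zp c) * m⁻¹ = m * y' * m⁻¹ * zp c := by
      rw [mul_assoc (m * y'), zp_comm c m⁻¹]; group
    rw [this, b5] at b4
    simpa using b4
  have : ∀ c : ZMod 2, c = 0 ∨ c = 1 := by decide
  rcases this c with e | e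
  · exact e
  · exact absurd (e ▸ b6) f3.2.2.2.2.2.2.2.2.2.2.2.2.1

theorem exT (hB : Base.{u}) (h : Sw J φ) : ∃ t ∈ N[im J QQ], t ∉ NA J ∧ t ∈ N[im J T0] ∧
    IsPGroup 2 (zpowers t) := by
  have K := hB.kit J φ h.toKi
  have hQT : QQ ≤ T0 := hB.m2.le.2.1
  obtain ⟨g, hg, hn⟩ := h.ex
  have hT : im J T0 ≤ N[im J QQ] ⊓ NA J := im_le fun t ht => ⟨nrm_of (h.em.mono hQT) fun u hu =>
    ⟨_, ((hB.m2.nrm t).2.2.2.2.1 (hB.m2.le.2.2.2.2.2.2.2.1 ht).1).1 u hu,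
      h.em.self ht (hQT hu)⟩, K.le t ht⟩
  have hS : Syl (im J T0) (N[im J QQ] ⊓ NA J) := K.syl.mono hT inf_le_right
  have hgN : g ∈ N[N[im J QQ] ⊓ NA J] := Subgroup.mem_normalizer_fintype fun n hn' =>
    mem_inf.2 ⟨mul_mem (mul_mem hg (mem_inf.1 hn').1) (inv_mem hg), cjN hB h hg hn hn'.1 hn'.2⟩
  obtain ⟨k, hk, ht⟩ := hB.gen.frat _ _ g hS hgN
  have h1 : k * g ∈ N[im J QQ] := mul_mem hk.1 hg
  have h2 : k * g ∉ NA J := fun a => hn ((mul_mem_cancel_left (mem_inf.1 hk).2).1 a)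
  generalize k * g = t at ht h1 h2
  have h3 : t * t ∈ NA J := K.mna _ fun a ha => by
    obtain ⟨b, hb, e1⟩ := (sw2 hB h h1 h2).1 a ha
    obtain ⟨a', ha', e2⟩ := (sw2 hB h h1 h2).2 b hb
    exact ⟨a', ha', e1.trans e2⟩
  obtain ⟨a, m, hm, e⟩ := Nat.exists_eq_two_pow_mul_odd (orderOf_pos t).ne'
  refine ⟨t ^ m, pow_mem h1 m, fun a => h2 ?_, pow_mem ht m, ?_⟩
  · obtain ⟨j, rfl⟩ := hm
    rw [pow_succ, pow_mul, pow_two] at a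
    exact (mul_mem_cancel_left (pow_mem h3 j)).1 a
  · have h4 : orderOf (t ^ m) ∣ 2 ^ a :=
      orderOf_dvd_of_pow_eq_one (by rw [← pow_mul, mul_comm, ← e, pow_orderOf_eq_one])
    obtain ⟨j, -, hj⟩ := (Nat.dvd_prime_pow Nat.prime_two).1 h4
    exact IsPGroup.of_card (n := j) (by rw [Nat.card_zpowers, hj])

theorem c2a (hB : Base.{u}) (ha : AutStmt) : C2aStmt.{u} := by
  intro G _ _ J φ h
  have K := hB.kit J φ h.toKi
  have hQT : QQ ≤ T0 := hB.m2.le.2.1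
  have hP : AP ≤ T0 := hB.m2.le.2.2.2.2.1.trans hQT
  have gma := hB.m3.gma
  obtain ⟨t1, q1, q2, q3, q4⟩ := exT hB h
  have hS : IsPGroup 2 (im J T0 ⊔ zpowers t1 : Subgroup G) :=
    K.syl.grp.to_sup_of_normal_left' q4 (zpowers_le.2 q3)
  obtain ⟨α, hα, hr⟩ := h.em.au q3
  have s := sw2 hB h q1 q2
  obtain ⟨c, hc, a, b, hab⟩ := ha (fun u => α (gm u))
    ⟨fun u hu => hα.mem _ (gma.mem u hu), fun u hu v hv => by
      rw [gma.mul u hu v hv, hα.mul _ (gma.mem u hu) _ (gma.mem v hv)], fun u hu v hv e =>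
      gma.inj u hu v hv (hα.inj _ (gma.mem u hu) _ (gma.mem v hv) e)⟩
    (fun u hu => by
      have h1 := hB.m3.gmA.1 u hu
      obtain ⟨v, hv, e⟩ := s.2 _ h1
      have := h.em.inj _ (hα.mem _ (hP h1)) _ (AA_le_T0 hv) (req (hr _ (hP h1)) e)
      exact this ▸ hv)
    (fun u hu => by
      have h1 := hB.m3.gmA.2 u hu
      obtain ⟨v, hv, e⟩ := s.1 _ h1
      have := h.em.inj _ (hα.mem _ (AA_le_T0 h1)) _ (hP hv) (req (hr _ (AA_le_T0 h1)) e)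
      exact this ▸ hv)
  have hcQ : J c ∈ N[im J QQ] := nrm_of (h.em.mono hQT) fun u hu =>
    ⟨_, ((hB.m2.nrm c).2.2.2.2.1 (hB.m2.le.2.2.2.2.2.2.2.1 hc).1).1 u hu, h.em.self hc (hQT hu)⟩
  have t1Q : J c * t1 ∈ N[im J QQ] := mul_mem hcQ q1
  have t1N : J c * t1 ∉ NA J := fun e => q2 ((mul_mem_cancel_left (K.le c hc)).1 e)
  have t1S : J c * t1 ∈ im J T0 ⊔ zpowers t1 :=
    mul_mem (mem_sup_left (mem_im hc)) (mem_sup_right (mem_zpowers _))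
  have act : ∀ u ∈ T0, R J (J c * t1) (gm u) (u * zp (a * en u 1 2 + b * en u 2 3)) := by
    intro u hu
    have := (hr _ (gma.mem u hu)).trans (h.em.self hc (hα.mem _ (gma.mem u hu)))
    rwa [hab u hu] at this
  generalize J c * t1 = t at t1Q t1N t1S act
  obtain ⟨-, -, x1, x2, x3, y1, y2, y3, y4, y5, y6, z0, -, -⟩ := f3
  have hQ : ∀ u ∈ QQ, R J t (gm u) u := fun u hu => by
    have := act u (hQT hu)
    rwa [(enQ hu).1, (enQ hu).2, mul_zero, mul_zero, add_zero, z0, mul_one] at this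
  have r12 := act _ f1.2.2.1
  rw [x1, y1, y2, mul_one, mul_zero, add_zero] at r12
  have r23 := act _ f1.2.2.2.1
  rw [x2, y3, y4, mul_one, mul_zero, zero_add] at r23
  have r13 := act _ f1.2.2.2.2.1
  rw [x3, y5, y6, mul_zero, mul_zero, add_zero, z0, mul_one] at r13
  have hb : b = 0 := chi0 hB h t1Q t1N hQ f1.1 f1.2.1 f1.2.2.1 f1.2.2.2.1 f1.2.2.2.2.2.1
    f1.2.2.2.2.2.2 r23 r13 f2.1 f2.2.1
  have ha' : a = 0 := chi0 hB h t1Q t1N hQ f1.2.1 f1.1 f1.2.2.2.1 f1.2.2.1 f1.2.2.2.2.2.2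
    f1.2.2.2.2.2.1 r12 r13 f2.2.2.1 f2.2.2.2
  have act' : ∀ u ∈ T0, R J t u (gm u) := fun u hu => by
    have := act _ (gma.mem u hu)
    rwa [ha', hb, zero_mul, zero_mul, add_zero, z0, mul_one, hB.m3.gm2 u hu] at this
  have sq : ∀ u ∈ T0, R J (t * t) u u := fun u hu => by
    have := (act' u hu).trans (act' _ (gma.mem u hu))
    rwa [hB.m3.gm2 u hu] at this
  have h1 : t * t ∈ im J T0 := K.nT2 _ hS le_sup_left _ (mul_mem t1S t1S)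
    (K.mna _ fun u hu => ⟨u, hu, sq u (AA_le_T0 hu)⟩)
  obtain ⟨w, hw, e⟩ := h.em.mem.1 h1
  refine ⟨t, h, act', ?_⟩
  have h2 := hB.m3.cQQ w fun u hu => by
    have h3 := sq u (hQT hu)
    rw [← e] at h3
    have h4 := h.em.inj _ (mul_mem (mul_mem hw (hQT hu)) (inv_mem hw)) _ (hQT hu)
      (req (h.em.self hw (hQT hu)) h3)
    exact mul_inv_eq_iff_eq_mul.1 h4
  rcases h2 with rfl | rfl
  · exact Or.inl (e.symm.trans h.em.one)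
  · exact Or.inr e.symm

end Cfsg.Agent.H70.KnC2a
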