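import Mathlib
import Cfsg.Agent.H19.S93Kit

/-! A standard subgroup stays standard modulo a subgroup of odd order of its centraliser. -/

set_option autoImplicit false
open scoped Pointwise commutatorElement
open Subgroup

namespace Cfsg.Agent.H70.S93Std
open Cfsg.Agent.H46.S95 Cfsg.Agent.H19.S93Q

universe u

local notation "C[" A "]" => Subgroup.centralizer (SetLike.coe A)
local notation "N[" A "]" => Subgroup.normalizer (SetLike.coe A)

theorem N_le {G : Type*} [Group G] (A : Subgroup G) : N[A] ≤ N[C[A]] := by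
  have k : ∀ g ∈ N[A], ∀ c ∈ C[A], g * c * g⁻¹ ∈ C[A] := fun g hg c hc =>
    mem_centralizer_iff.2 fun a ha => by
      have := mem_centralizer_iff.1 hc _ ((mem_normalizer_iff''.1 hg a).1 ha)
      calc a * (g * c * g⁻¹) = g * (g⁻¹ * a * g * c) * g⁻¹ := by group
        _ = _ := by rw [this]; group
  intro g hg
  refine mem_normalizer_iff.2 fun c => ⟨k g hg c, fun h => ?_⟩
  simpa [mul_assoc] using k _ (inv_mem hg) _ h

theorem exists_inv {G : Type*} [Group G] [Finite G] {K : Subgroup G} (h : ¬ Odd (Nat.card K)) :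
    ∃ s ∈ K, orderOf s = 2 := by
  obtain ⟨s, hs⟩ := exists_prime_orderOf_dvd_card' (G := K) 2 (Nat.not_odd_iff_even.1 h).two_dvd
  exact ⟨s, s.2, by rw [orderOf_coe, hs]⟩

theorem std : H19.S93Q.StdStmt.{u} := by
  intro Γ Δ _ _ G _ _ p φ hv W H _ _ π ψ q hs hC
  have key : ∀ g : H, ¬ Odd (Nat.card ↥(C[ψ.range] ⊓ C[ψ.range].map (MulAut.conj g).toMonoidHom)) →
      g ∈ N[ψ.range] := fun g h => by
    obtain ⟨g, rfl⟩ := q.surj g
    obtain ⟨s, ⟨h1, c, h2, e⟩, o⟩ := exists_inv h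
    obtain ⟨s, rfl⟩ := q.surj s
    have e' : c = π (g⁻¹ * s * g) := by
      rw [map_mul, map_mul, map_inv, ← e]
      simp [mul_assoc]
    rw [q.norm, hs.2.2.2]
    by_contra hg
    have m : (s : G) ∈ C[φ.range] ⊓ C[φ.range].map (MulAut.conj (g : G)).toMonoidHom :=
      ⟨(q.cent s).1 h1, _, (q.cent _).1 (e' ▸ h2), by simp [mul_assoc]⟩
    have d : 2 ∣ orderOf (s : G) := by
      rw [orderOf_coe, ← o]
      exact orderOf_map_dvd π s
    exact (hs.2.1.2 g hg).not_two_dvd_nat (d.trans (Subgroup.orderOf_dvd_natCard _ m))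
  have ev : Even (Nat.card C[ψ.range]) := by
    obtain ⟨s, h1, o⟩ := exists_inv (Nat.not_odd_iff_even.2 hs.2.1.1)
    have h2 : π ⟨s, hC h1⟩ ≠ 1 := fun e =>
      q.odd.not_two_dvd_nat (o ▸ Subgroup.orderOf_dvd_natCard _ ((q.ker _).1 e))
    have h3 : orderOf (π ⟨s, hC h1⟩) = 2 := orderOf_eq_prime (by
      rw [← map_pow, show (⟨s, hC h1⟩ : N[W]) ^ 2 = 1 from
        Subtype.ext (by simpa [o] using pow_orderOf_eq_one s), map_one]) h2
    exact even_iff_two_dvd.2 (h3 ▸ Subgroup.orderOf_dvd_natCard _ ((q.cent _).2 h1))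
  have := hv.base.simple
  refine ⟨H52.IsQuasisimple.of_mulEquiv (H52.isQuasisimple_of_isSimpleGroup hv.base.nc)
    (MonoidHom.ofInjective q.inj), ⟨ev, fun g hg => ?_⟩, fun g hg e => hg ?_,
    le_antisymm (N_le _) fun g hg => key g ?_⟩
  · by_contra h
    exact hg (N_le _ (key g h))
  · obtain ⟨g, rfl⟩ := q.surj g
    refine mem_normalizer_iff_map_conj_eq.1 ((q.norm g).2 (mem_normalizer_iff_map_conj_eq.2 ?_))
    by_contra h
    refine hs.2.2.1 g h ?_
    rw [commutator_comm, commutator_eq_bot_iff_le_centralizer] at e ⊢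
    rintro _ ⟨_, ⟨a, rfl⟩, rfl⟩
    refine (q.cent (g * ⟨φ a, q.mem a⟩ * g⁻¹)).1 (e ⟨ψ (p a), ⟨_, rfl⟩, ?_⟩)
    rw [map_mul, map_mul, map_inv, q.eq a ⟨φ a, q.mem a⟩ rfl]
    rfl
  · rw [show C[ψ.range].map (MulAut.conj g).toMonoidHom = C[ψ.range] from
      mem_normalizer_iff_map_conj_eq.1 hg, inf_idem]
    exact Nat.not_odd_iff_even.2 ev

end Cfsg.Agent.H70.S93Std
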