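import Cfsg.Agent.H37.FkKit

/-!
# S5161, piece LE: groups with a weakly closed base of commuting involutions
-/

set_option autoImplicit false

namespace Cfsg.Agent.H70.FkLe

open Cfsg Subgroup Cfsg.Agent.H37.FK

universe u

variable {K : Type*} [Group K]

theorem cent_closure {E : Set K} {d : K} (h : ∀ e ∈ E, d * e = e * d) :
    d ∈ centralizer ((closure E : Subgroup K) : Set K) := by
  have h1 : closure E ≤ centralizer {d} := (closure_le _).2 fun e he =>
    mem_centralizer_singleton_iff.2 (h e he).symm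
  exact mem_centralizer_iff.2 fun a ha => mem_centralizer_singleton_iff.1 (h1 ha)

theorem closure_comm {E : Set K} (h : ∀ d ∈ E, ∀ e ∈ E, d * e = e * d) :
    ∀ a ∈ closure E, ∀ b ∈ closure E, a * b = b * a := fun a ha _ hb =>
  mem_centralizer_iff.1 (((closure_le _).2 fun d hd => cent_closure (h d hd)) hb) a ha

theorem closure_sq {E : Set K} (h : ∀ d ∈ E, ∀ e ∈ E, d * e = e * d) (h2 : ∀ d ∈ E, d * d = 1) :
    ∀ a ∈ closure E, a * a = 1 := by
  intro a ha
  induction ha using closure_induction with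
  | mem x hx => exact h2 x hx
  | one => exact one_mul 1
  | mul x y hx hy ix iy =>
    calc x * y * (x * y) = x * (y * x) * y := by group
      _ = (x * x) * (y * y) := by rw [← closure_comm h x hx y hy]; group
      _ = 1 := by rw [ix, iy, one_mul]
  | inv x _ ix => rw [← mul_inv_rev, ix, inv_one]

/-- A normal subgroup of `N` containing the kernel properly is everything. -/
theorem eq_top_of_ker {N L : Type*} [Group N] [Group L] [IsSimpleGroup L] {π : N →* L}
    (hπ : Function.Surjective π) (W : Subgroup N) [hW : W.Normal] (hk : π.ker ≤ W) {w : N}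
    (hw : w ∈ W) (h1 : π w ≠ 1) : W = ⊤ := by
  rcases (hW.map π hπ).eq_bot_or_eq_top with h | h
  · exact absurd (h.le (mem_map_of_mem π hw)) h1
  · rw [← comap_map_eq_self hk, h, comap_top]

theorem le (hG : GoldStmt.{u}) (hI : Idx2Stmt.{u}) : LeStmt.{u} := by
  intro K _ _ hK hD8 D h2 hc hconj hcomm A E hE hA hEc hodd hself L _ π hπ hker hL hN
  have : Fact (Nat.Prime 2) := ⟨Nat.prime_two⟩
  have := hK.1
  have := hL.1
  have : Finite L := Finite.of_surjective π hπ
  have EA : ∀ e ∈ E, e ∈ A := fun e he => hA ▸ subset_closure he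
  have E2 : ∀ e ∈ E, e * e = 1 := fun e he => by
    rw [← sq, ← h2 e (hE he), pow_orderOf_eq_one]
  have Ac : ∀ a ∈ A, ∀ b ∈ A, a * b = b * a := hA ▸ closure_comm hEc
  have A2 : ∀ a ∈ A, a * a = 1 := hA ▸ closure_sq hEc E2
  have Ap : IsPGroup 2 A := isPGroup_of_two fun a ha => Two.of_sq (A2 a ha)
  -- weak closure
  have wk : ∀ (g : K) (P : Subgroup K), IsPGroup 2 P → A ≤ P → (∀ e ∈ E, g * e * g⁻¹ ∈ P) →
      g ∈ normalizer (A : Set K) := by
    intro g P hP hAP hg
    have h1 : ∀ e ∈ E, g * e * g⁻¹ ∈ A := fun e he => hself (hA ▸ cent_closure fun d hd =>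
      hcomm _ (hconj e (hE he) g) d (hE hd) (Two.of_mem hP (mul_mem (hg e he) (hAP (EA d hd)))))
    refine mem_normalizer_fintype fun a ha => ?_
    have h3 : A ≤ A.comap (MulAut.conj g).toMonoidHom := by
      conv_lhs => rw [hA]
      exact (closure_le _).2 fun e he => h1 e he
    exact h3 ha
  -- transitivity of the normalizer on the generators
  have tr : ∀ d ∈ E, ∀ e ∈ E, ∃ n ∈ normalizer (A : Set K), n * d * n⁻¹ = e := by
    intro d hd e he
    obtain ⟨g, rfl⟩ := isConj_iff.1 (hc d (hE hd) e (hE he))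
    set C := centralizer ({g * d * g⁻¹} : Set K) with hC
    obtain ⟨P, hP⟩ := (Ap.comap_subtype (K := C)).exists_le_sylow
    obtain ⟨c, hc'⟩ := exists_conj_sylow P
      ((Ap.map (MulAut.conj g).toMonoidHom).comap_subtype (K := C))
    refine ⟨c * g, wk _ ((P : Subgroup C).map C.subtype) (P.2.map _) (fun a ha => ?_)
      (fun x hx => ?_), ?_⟩
    · exact ⟨⟨a, mem_centralizer_singleton_iff.2 (Ac a ha _ (EA _ he))⟩, hP ha, rfl⟩
    · have h1 : g * x * g⁻¹ ∈ C := mem_centralizer_singleton_iff.2 (by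
        calc g * x * g⁻¹ * (g * d * g⁻¹) = g * (x * d) * g⁻¹ := by group
          _ = _ := by rw [hEc x hx d hd]; group)
      exact ⟨_, hc' ⟨_, h1⟩ ⟨x, EA x hx, rfl⟩, by simp [mul_assoc]⟩
    · calc c * g * d * (c * g)⁻¹ = c * (g * d * g⁻¹) * (c : K)⁻¹ := by group
        _ = _ := by rw [mem_centralizer_singleton_iff.1 c.2, mul_inv_cancel_right]
  let N := normalizer (A : Set K)
  have AN : A ≤ N := le_normalizer
  have nA : ∀ n ∈ N, ∀ a ∈ A, n * a * n⁻¹ ∈ A := fun n hn a ha => (hn a).1 ha
  have kerA : ∀ n : N, π n = 1 ↔ n.1 ∈ A := fun n => by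
    rw [← MonoidHom.mem_ker, hker, mem_subgroupOf]
  -- the Sylow subgroup
  obtain ⟨P, hP⟩ := (Ap.comap_subtype (K := N)).exists_le_sylow
  have hodd' : ¬ 2 ∣ ((P : Subgroup N).map N.subtype).index := by
    rw [index_map_subtype]
    exact fun h => ((Nat.Prime.dvd_mul Nat.prime_two).1 h).elim P.not_dvd_index hodd
  let S : Sylow 2 K := (P.2.map N.subtype).toSylow hodd'
  have hS : ∀ x : N, x.1 ∈ (S : Subgroup K) ↔ x ∈ (P : Subgroup N) := fun x =>
    mem_map_iff_mem (subtype_injective N)
  have SN : (S : Subgroup K) ≤ N := map_subtype_le _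
  have AS : A ≤ S := fun a ha => (hS ⟨a, AN ha⟩).2 (hP ha)
  have hne : ∃ e, e ∈ E := by
    by_contra h
    have h1 : A = ⊥ := by
      rw [hA, eq_bot_iff]
      exact (closure_le _).2 fun e he => absurd ⟨e, he⟩ h
    obtain ⟨x, hx⟩ := exists_ne (1 : K)
    refine hx (h1.le (hself (mem_centralizer_iff.2 fun a ha => ?_)))
    rw [mem_bot.1 (h1.le ha), one_mul, mul_one]
  obtain ⟨e0, he0⟩ := hne
  have notA : ∀ T : Subgroup K, IsStronglyClosed T (S : Subgroup K) → T ≠ ⊥ →
      ∃ t ∈ T, t ∉ A := by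
    intro T hT hT1
    by_contra h
    push Not at h
    exact hT1 (hG K hK hD8 S T hT fun a ha b hb => Ac a (h a ha) b (h b hb))
  refine ⟨nsc_of_one S fun T hT hT1 => ?_, ofp_of_cent S A AS (fun x hx _ => ?_) fun g hg _ => ?_⟩
  · obtain ⟨t, ht, htA⟩ := notA T hT hT1
    have tN : t ∈ N := SN (hT.1 ht)
    have sc : IsStronglyClosed ((T.subgroupOf N).map π) (P.mapSurjective hπ : Subgroup L) := by
      refine ⟨map_mono fun x hx => (hS x).1 (hT.1 hx), ?_⟩
      rintro _ ⟨x, hx, rfl⟩ g ⟨p, hp, e⟩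
      obtain ⟨n, rfl⟩ := hπ g
      have h1 : π (p⁻¹ * (n * x * n⁻¹)) = 1 := by
        simp only [map_mul, map_inv]
        rw [e, inv_mul_cancel]
      have h3 : n * x * n⁻¹ ∈ (P : Subgroup N) := by
        have := mul_mem hp (hP ((kerA _).1 h1))
        rwa [mul_inv_cancel_left] at this
      exact ⟨n * x * n⁻¹, hT.2 x hx n ((hS _).2 h3), by simp only [map_mul, map_inv]⟩
    have hTS := (hN _ _ sc).resolve_left fun h =>
      htA ((kerA ⟨t, tN⟩).1 (h.le (mem_map_of_mem π (show (⟨t, tN⟩ : N) ∈ T.subgroupOf N from ht))))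
    have T0 : ∀ n ∈ N, ∀ a ∈ A, a ∈ T → n * a * n⁻¹ ∈ T := fun n hn a ha haT =>
      hT.2 a haT n (AS (nA n hn a ha))
    let W : Subgroup N :=
      { carrier := {n | ∀ a ∈ A, n.1 * a * n.1⁻¹ * a⁻¹ ∈ T}
        one_mem' := fun a _ => by simp
        mul_mem' := fun {x y} hx hy a ha => by
          have := mul_mem (hx _ (nA _ y.2 a ha)) (hy a ha)
          convert this using 1
          push_cast
          group
        inv_mem' := fun {x} hx a ha => by
          have := inv_mem (hx _ (nA _ (inv_mem x.2) a ha))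
          convert this using 1
          push_cast
          group }
    have : W.Normal := ⟨fun x hx g a ha => by
      have h1 := nA _ (inv_mem g.2) a ha
      have := T0 _ g.2 _ (mul_mem (nA _ x.2 _ h1) (inv_mem h1)) (hx _ h1)
      convert this using 1
      push_cast
      group⟩
    have hW : W = ⊤ := by
      refine eq_top_of_ker hπ W (fun x hx a ha => ?_) (w := ⟨t, tN⟩) (fun a ha => ?_)
        fun h => htA ((kerA ⟨t, tN⟩).1 h)
      · rw [Ac _ ((kerA x).1 hx) a ha]
        simp
      · have := mul_mem ht (sc_normal hT (AS ha) (inv_mem ht))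
        convert this using 1
        group
    have hA2 : ∀ a ∈ A, a * e0 ∈ T ∨ a ∈ T := by
      intro a ha
      rw [hA] at ha
      induction ha using closure_induction with
      | mem x hx =>
        obtain ⟨n, hn, rfl⟩ := tr e0 he0 x hx
        have := (hW.ge (mem_top (⟨n, hn⟩ : N))) e0 (EA e0 he0)
        rw [inv_eq_of_mul_eq_one_left (E2 e0 he0)] at this
        exact Or.inl this
      | one => exact Or.inr (one_mem T)
      | mul x y hx hy ix iy =>
        rw [← hA] at hx hy
        have c := Ac e0 (EA e0 he0) y hy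
        rcases ix with ix | ix <;> rcases iy with iy | iy
        · right
          have := mul_mem ix iy
          rwa [mul_assoc, ← mul_assoc e0, c, mul_assoc, E2 e0 he0, mul_one] at this
        · left
          have := mul_mem ix iy
          rwa [mul_assoc, c, ← mul_assoc] at this
        · left
          rw [mul_assoc]
          exact mul_mem ix iy
        · exact Or.inr (mul_mem ix iy)
      | inv x hx ix =>
        rw [← hA] at hx
        rwa [inv_eq_of_mul_eq_one_left (A2 x hx)]
    refine (hI K hK.index_ne_two S T hT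
      (index_dvd_two_iff.2 ⟨⟨e0, AS (EA e0 he0)⟩, fun s => ?_⟩)).ge
    obtain ⟨x, hx, e⟩ := hTS.ge (mem_map_of_mem π ((hS ⟨s.1, SN s.2⟩).1 s.2))
    have h1 : π (x⁻¹ * ⟨s.1, SN s.2⟩) = 1 := by rw [map_mul, map_inv, e, inv_mul_cancel]
    refine (hA2 _ ((kerA _).1 h1)).imp (fun h => ?_) fun h => ?_
    · have := mul_mem (show x.1 ∈ T from hx) h
      simpa [mem_subgroupOf, mul_assoc] using this
    · have := mul_mem (show x.1 ∈ T from hx) h
      simpa [mem_subgroupOf, mul_assoc] using this
  · exact hself (mem_centralizer_iff.2 fun y hy => (mul_inv_eq_iff_eq_mul.1 (hx y hy)).symm)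
  · have gN : g ∈ N := wk g S S.2 AS fun e he => hg e (AS (EA e he))
    obtain ⟨t, ht, htA⟩ := notA S ⟨le_rfl, fun _ _ _ h => h⟩ fun h => by
      have h1 := h2 e0 (hE he0)
      rw [mem_bot.1 (h.le (AS (EA e0 he0))), orderOf_one] at h1
      exact absurd h1 (by norm_num)
    let W : Subgroup N := closure {x | Two x}
    have : W.Normal := by
      refine ⟨fun x hx n => ?_⟩
      have h1 : W ≤ W.comap (MulAut.conj n).toMonoidHom :=
        (closure_le _).2 fun y hy => subset_closure (Two.conj hy n)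
      exact h1 hx
    have hW : W = ⊤ := by
      refine eq_top_of_ker hπ W (fun x hx => subset_closure ?_) (w := ⟨t, SN ht⟩)
        (subset_closure ?_) fun h => htA ((kerA ⟨t, SN ht⟩).1 h)
      · exact Two.of_sq (Subtype.ext (A2 _ ((kerA x).1 hx)))
      · exact Two.of_mem P.2 ((hS _).1 ht)
    have h1 : W ≤ (closure {x | (∀ y ∈ A, x * y * x⁻¹ ∈ A) ∧ Two x}).comap N.subtype :=
      (closure_le _).2 fun y hy => subset_closure ⟨nA _ y.2, Two.map hy N.subtype⟩
    exact h1 (hW.ge (mem_top (⟨g, gN⟩ : N)))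

end Cfsg.Agent.H70.FkLe
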