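import Cfsg.Agent.H70.RecTab
import Cfsg.Agent.Eqn.Cfsg_Agent_H70_Fm_P

set_option autoImplicit false
set_option maxRecDepth 1000000
set_option linter.all false
set_option Elab.async false

namespace Cfsg.Agent.H70.TQ
open Cfsg.Agent.H44

noncomputable def rT0 : Tr :=
 (.leaf (nat_lit 0x291b33d4b7a285d592d0178f71468b3285576016d2d715cbca0e84b015662a2512de58e2c01452043f11a676e4489afc04dfcb2d13212bce4e55021edde23975c4a0aa023f444495692d78f402084067d3c1191a880f6f40687ffb59dc1d8c130075a45370384d84b6ca003ac86891575792f3c030c808f877391190e16ae00922c9cfc602b576400af79a8a050e496250096abe0991ce71dac92c0411009ecec71361181c7b009b5aeb35f834ecf200bbf3aba061c55cdc00e656a0b3646169fe00ac014003f9e8ea70358187e001f0f4783b028e872001c0dc6c041a8d06600190c40630178b85a0016008562a148a04e00008984a24118884200))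
noncomputable def gT0 : Tr :=
 (.leaf (nat_lit 0))
/-- The relators. -/
def R : List (List ℕ) := [[1, 1],
  [2, 2],
  [3, 3],
  [4, 4],
  [5, 5],
  [6, 6],
  [6, 1, 6, 1],
  [1, 2, 1, 2, 6],
  [1, 3, 1, 3, 6],
  [1, 4, 1, 4, 6],
  [1, 5, 1, 5, 6],
  [6, 2, 6, 2],
  [2, 3, 2, 3, 6],
  [2, 4, 2, 4, 6],
  [2, 5, 2, 5, 6],
  [6, 3, 6, 3],
  [3, 4, 3, 4, 6],
  [3, 5, 3, 5, 6],
  [6, 4, 6, 4],
  [4, 5, 4, 5, 6],
  [6, 5, 6, 5],
  [1, 2, 3, 4, 5]]
/-- The subgroup generators. -/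
def S : List (List ℕ) := []
def Wr : List (List ℕ) := [[1, 1],
  [2, 2],
  [3, 3],
  [4, 4],
  [5, 5],
  [6, 6],
  [5, 1, 5, 6, 1],
  [4, 1, 4, 6, 1],
  [5, 4, 5, 4, 6],
  [5, 3, 6, 5, 3],
  [1, 6, 1, 6],
  [2, 6, 1, 2, 1],
  [6, 2, 1, 2, 1],
  [4, 5, 1, 2, 3],
  [5, 4, 6, 5, 4],
  [3, 5, 3, 5, 6],
  [3, 4, 6, 3, 4],
  [4, 3, 2, 1, 5],
  [2, 6, 2, 6],
  [3, 6, 1, 3, 1],
  [5, 6, 5, 6],
  [6, 3, 1, 3, 1],
  [3, 6, 2, 3, 2],
  [4, 5, 4, 5, 6],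
  [6, 3, 2, 3, 2],
  [2, 4, 6, 2, 4],
  [5, 1, 2, 3, 4],
  [1, 5, 6, 1, 5],
  [4, 6, 5, 4, 5],
  [3, 6, 3, 6],
  [4, 6, 1, 4, 1],
  [6, 4, 1, 4, 1],
  [3, 4, 5, 1, 2],
  [4, 6, 2, 4, 2],
  [6, 1, 2, 1, 2],
  [1, 3, 6, 1, 3],
  [4, 6, 3, 4, 3],
  [6, 2, 3, 2, 3],
  [2, 5, 6, 2, 5],
  [3, 5, 6, 3, 5],
  [4, 6, 4, 6],
  [2, 3, 4, 5, 1],
  [5, 6, 1, 5, 1],
  [6, 5, 1, 5, 1],
  [1, 2, 6, 1, 2],
  [5, 6, 2, 5, 2],
  [2, 3, 6, 2, 3],
  [5, 6, 3, 5, 3],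
  [6, 1, 3, 1, 3],
  [1, 4, 6, 1, 4],
  [5, 6, 4, 5, 4],
  [6, 1, 4, 1, 4]]
def Wn : List (List ℕ) := []
def cr : List (ℕ × ℕ × ℕ) := [(0, 0, 0), (0, 0, 0), (0, 0, 0), (0, 0, 0), (0, 0, 0), (0, 0, 0), (1, 10, 1), (1, 9, 1), (2, 19, 1), (2, 17, 3), (1, 6, 1), (1, 7, 3), (2, 7, 0), (1, 21, 3), (2, 19, 3), (1, 17, 0), (1, 16, 2), (2, 21, 1), (1, 11, 1), (1, 8, 3), (1, 20, 1), (2, 8, 0), (1, 12, 3), (1, 19, 0), (2, 12, 0), (1, 13, 2), (1, 21, 4), (1, 10, 2), (2, 19, 4), (1, 15, 1), (1, 9, 3), (2, 9, 0), (1, 21, 2), (1, 13, 3), (1, 7, 4), (1, 8, 2), (1, 16, 3), (1, 12, 4), (1, 14, 2), (1, 17, 2), (1, 18, 1), (1, 21, 1), (1, 10, 3), (2, 10, 0), (1, 7, 2), (1, 14, 3), (1, 12, 2), (1, 17, 3), (1, 8, 4), (1, 9, 2), (1, 19, 3), (1, 9, 4)]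
def cn : List (ℕ × ℕ × ℕ) := []
noncomputable def rT : Tr := rT0
noncomputable def gT : Tr := gT0
noncomputable def rC (i : ℕ) : ℕ := rT.get (nat_lit 0) i
noncomputable def gC (i : ℕ) : ℕ := gT.get (nat_lit 0) i
noncomputable def row (p : ℕ) : ℕ := rec2 rC (nat_lit 6) (nat_lit 63) (nat_lit 63) (nat_lit 0x7fffffffffffffff) p
noncomputable def gf (p : ℕ) : ℕ := rec2 gC (nat_lit 8) (nat_lit 255) (nat_lit 17) (nat_lit 131071) p
noncomputable def gw (c : ℕ) : List ℕ := nth [] Wr c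
noncomputable def wn (c : ℕ) : ℕ := pack (nat_lit 3) (nth [] Wn c) (nat_lit 0)
noncomputable def C : Cert :=
  { n := (nat_lit 32), na := (nat_lit 0), M := (nat_lit 0), nc := (nat_lit 6), W := (nat_lit 5), EB := (nat_lit 9),
    LB := (nat_lit 3), nreg := (nat_lit 52), ivT := (nat_lit 0x1ac688), base := (nat_lit 0),
    row := row, gf := gf, gw := gw, wn := wn }
theorem masks : Masks C (nat_lit 31) (nat_lit 511) (nat_lit 7) (nat_lit 13) (nat_lit 8191) :=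
  ⟨by decide +kernel, by decide +kernel, by decide +kernel, by decide +kernel, by decide +kernel⟩
noncomputable def rchk : ℕ → ℕ → ℕ → Bool :=
  rowChk row gf gw (nat_lit 32) (nat_lit 0) (nat_lit 6) (nat_lit 5) (nat_lit 31) (nat_lit 9) (nat_lit 511) (nat_lit 3) (nat_lit 7) (nat_lit 13) (nat_lit 8191) (nat_lit 52) (nat_lit 0x1ac688) (nat_lit 1) (nat_lit 1) (nat_lit 8) (nat_lit 255)
noncomputable def fchk : ℕ → ℕ → ℕ → Bool :=
  auxRun row gf wn (nat_lit 32) (nat_lit 0) (nat_lit 0) (nat_lit 6) (nat_lit 5) (nat_lit 31) (nat_lit 9) (nat_lit 511) (nat_lit 3) (nat_lit 7) (nat_lit 13) (nat_lit 0x1ac688) (nat_lit 0) (nat_lit 3) (nat_lit 7)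
theorem rows_of {lo hi : ℕ} {t : JL} (h : t.run rchk (nat_lit 48) hi lo = true) : C.RowsOK lo hi :=
  rowsOK_of_run masks h
theorem facts_of {lo hi : ℕ} {t : JL} (h : t.run fchk (nat_lit 20) hi lo = true) : C.FactsOK lo hi :=
  factsOK_of_run masks h
theorem words_ok : wordsChk 32 6 5 3 52 1754760 0 R S Wr Wn cr cn = true := by
  decide +kernel
noncomputable def j0 : JL :=
(.cons (nat_lit 16) (nat_lit 0x60012110201060500100201060f0e0002010d0504030c0000050403020b060004030201060a00030201060908000201060704030001000504030201060004030201060500030201060504000201060504030001060504030200060504030201) (nat_lit 0)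
(.cons (nat_lit 16) (nat_lit 0x15291e130b343300111a3231300e002f24232e0421002d2c2b04032a000005291e130b06000428271c26052500022423052221000120051f0302000005041e130b06001d031a1c061b00031a0119051817000116150414020000050403130b) (nat_lit 0)
.nil))
theorem t0 : C.RowsOK (nat_lit 0) (nat_lit 32) :=
  rows_of (t := j0) (by decide +kernel)
theorem checked : Checked C R S :=
  ⟨⟨Wr, Wn, cr, cn, fun _ => rfl, fun _ => rfl, words_ok⟩, t0,
    fun _ _ h => absurd h (Nat.not_lt_zero _)⟩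

/-- In any group whose elements `g 1, …, g 6` satisfy the relators `R`, a subgroup containing the words
of `S` has index at most 32 in the subgroup generated by these elements. -/
theorem idxLe {G : Type*} [Group G] {g : ℕ → G} (hg : Sat g R) {H : Subgroup G}
    (hS : ∀ s ∈ S, ev g s ∈ H) : IdxLe H (gen g 6) 32 :=
  checked.idxLe hg hS

end Cfsg.Agent.H70.TQ

namespace Cfsg.Agent.H70.TQ
open Cfsg.Agent.H44 Cfsg.Agent.H70

noncomputable def T : Tb :=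
  { row := row, EB := (nat_lit 9), mE := (nat_lit 511), mW := (nat_lit 31), LB := (nat_lit 3),
    mL := (nat_lit 7), n := (nat_lit 32), nc := (nat_lit 6), fuel := (nat_lit 3) }
theorem isTb : IsTb T C := ⟨rfl, rfl, by decide +kernel, by decide +kernel, rfl, rfl⟩
theorem names {G : Type*} [Group G] {g : ℕ → G} (hg : Sat g R) : ∃ d, Names T g d :=
  exists_names checked isTb hg
theorem words : allN T.wdOk T.n = true := by decide +kernel
theorem reg {G : Type*} [Group G] {g : ℕ → G} (hg : Sat g R) (hf : Finite (gen g 6))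
    (hc : 32 ≤ Nat.card (gen g 6)) : Reg T g := ⟨hf, hc, names hg, words⟩
def φ_inv : Fm := (.imp (.eq [0, 0] []) (.or (.eq [0] []) (.or (.eq [0] [6]) (.or (.eq [0] [1]) (.or (.eq [0] [1, 6]) (.or (.eq [0] [2]) (.or (.eq [0] [2, 6]) (.or (.eq [0] [3]) (.or (.eq [0] [3, 6]) (.or (.eq [0] [4]) (.or (.eq [0] [4, 6]) (.or (.eq [0] [5]) (.eq [0] [5, 6])))))))))))))
def W_inv : ℕ := (nat_lit 0)
theorem chk_inv_0 : T.allW φ_inv W_inv (nat_lit 5) (nat_lit 0) (nat_lit 32) = true := by decide +kernel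
theorem inv {G : Type*} [Group G] {g : ℕ → G} (h : Reg T g) :
    ∀ y ∈ gen g 6, y * y = 1 → (y = 1 ∨ y = g 6 ∨ y = g 1 ∨ y = g 1 * g 6 ∨ y = g 2 ∨ y = g 2 * g 6 ∨ y = g 3 ∨ y = g 3 * g 6 ∨ y = g 4 ∨ y = g 4 * g 6 ∨ y = g 5 ∨ y = g 5 * g 6) := by
  intro y hy
  obtain ⟨k, hk, e⟩ := h.all_ex (φ := φ_inv) (by decide) ((T.upto_zero _ _ _).step chk_inv_0 (hi := (nat_lit 32)) rfl) y hy
  simpa only [φ_inv, Fm.P, ev_cons, ev_nil, ext2, mul_one, ← mul_assoc, ↓reduceIte, Nat.reduceEqDiff, OfNat.ofNat_ne_zero, one_ne_zero, ne_eq] using e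
def φ_ps : Fm := (.eq [2, 3, 1, 4, 5] [])
theorem ps {G : Type*} [Group G] {g : ℕ → G} (h : Reg T g) :
    g 2 * g 3 * g 1 * g 4 * g 5 = 1 := by
  simpa only [φ_ps, Fm.P, ev_cons, ev_nil, ext2, mul_one, ← mul_assoc, ↓reduceIte, Nat.reduceEqDiff, OfNat.ofNat_ne_zero, one_ne_zero, ne_eq] using h.closed (φ := φ_ps) (by decide) (by decide +kernel)
def φ_pt : Fm := (.eq [4, 5, 3, 1, 2] [])
theorem pt {G : Type*} [Group G] {g : ℕ → G} (h : Reg T g) :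
    g 4 * g 5 * g 3 * g 1 * g 2 = 1 := by
  simpa only [φ_pt, Fm.P, ev_cons, ev_nil, ext2, mul_one, ← mul_assoc, ↓reduceIte, Nat.reduceEqDiff, OfNat.ofNat_ne_zero, one_ne_zero, ne_eq] using h.closed (φ := φ_pt) (by decide) (by decide +kernel)

end Cfsg.Agent.H70.TQ

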