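import Mathlib
import Cfsg.Agent.H42.HtDefs

/-! The normal closure of the standard subgroup. -/

set_option autoImplicit false

namespace Cfsg.Agent.H70.HtKS

open Cfsg Cfsg.Agent.H63 Cfsg.Agent.H63.SL Cfsg.Agent.H63.AN Cfsg.Agent.H42.HT Subgroup
open scoped commutatorElement

universe u

theorem perf8 (ff : FF) : Group.IsPerfect A8 := by
  obtain ⟨e⟩ := ff.iso8
  have : Group.IsPerfect (alternatingGroup (Fin 8)) :=
    ⟨commutator_alternatingGroup_eq_top (by simp)⟩
  exact Group.IsPerfect.ofSurjective (f := e.symm.toMonoidHom) e.symm.surjective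

theorem ks : KsStmt.{u} := by
  intro ff G _ _ β τ w r md _ H _ f q Y sy
  have p8 := perf8 ff
  let L := normalClosure (β.range : Set G)
  have hA : β.range ≤ L := le_normalClosure
  have gen : ∀ S : Subgroup G, S.Normal → β.range ≤ S → L ≤ S := fun S _ h =>
    normalClosure_le_normal h
  have img : L ≤ Y.comap f := gen _ (sy.nrm.comap f) (by
    rintro _ ⟨σ, rfl⟩
    exact sy.le ⟨σ, rfl⟩)
  have c1 : ∀ n, f n = 1 → n ∈ centralizer (L : Set G) := fun n hn =>
    le_centralizer_iff.1 (gen (centralizer (f.ker : Set G)) inferInstance (by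
      rintro _ ⟨σ, rfl⟩
      exact mem_centralizer_iff.2 fun m hm => (q.cA m hm σ).eq)) hn
  have hY : L.map f = Y := by
    have hle : L.map f ≤ Y := map_le_iff_le_comap.2 img
    have hn : (L.map f).Normal := Normal.map inferInstance f q.surj
    have := sy.simple
    rcases (hn.subgroupOf Y).eq_bot_or_eq_top with h | h
    · exfalso
      have : Nontrivial A8 := ⟨w2', 1, fun e => absurd (congrArg Subtype.val e) (by decide)⟩
      refine Group.IsPerfect.not_isMulCommutative (G := A8) ⟨⟨fun a b => md.inj ?_⟩⟩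
      have h1 : f (β a) ∈ L.map f := mem_map_of_mem f (hA ⟨a, rfl⟩)
      have h2 : (⟨f (β a), hle h1⟩ : Y) = 1 := mem_bot.1 (h ▸ h1)
      rw [map_mul, map_mul]
      exact (q.cA _ (congrArg Subtype.val h2) b).eq
    · exact le_antisymm hle (subgroupOf_eq_top.1 h)
  have cen : ∀ n, n ∈ centralizer (L : Set G) ↔ f n = 1 := fun n => ⟨fun h => by
    refine mem_bot.1 (sy.cY ▸ mem_centralizer_iff.2 fun y hy => ?_)
    obtain ⟨k, hk, rfl⟩ := hY.ge hy
    rw [← map_mul, mem_centralizer_iff.1 h k hk, map_mul], c1 n⟩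
  have dec : ∀ n, f n ∈ Y → ∃ k ∈ L, ∃ c, f c = 1 ∧ n = k * c := fun n hn => by
    obtain ⟨k, hk, e⟩ := hY.ge hn
    exact ⟨k, hk, k⁻¹ * n, by rw [map_mul, map_inv, e, inv_mul_cancel], by group⟩
  refine ⟨L, inferInstance, isPerfect_iff.2 (le_antisymm (commutator_le_left _ _)
    (gen _ inferInstance ?_)), hA, gen, cen, ?_, fun k hk => img hk, fun n hn => ?_,
    fun n ⟨a, ha⟩ hn => ?_⟩
  · have : Group.IsPerfect β.range :=
      Group.IsPerfect.ofSurjective (f := β.rangeRestrict) β.rangeRestrict_surjective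
    exact (commutator_eq_self (H := β.range)).ge.trans (commutator_mono hA hA)
  · let g : L →* Y := (f.comp L.subtype).codRestrict Y fun k => img k.2
    have hg : Function.Surjective g := fun y => by
      obtain ⟨k, hk, e⟩ := hY.ge y.2
      exact ⟨⟨k, hk⟩, Subtype.ext e⟩
    have hk : center L = g.ker := by
      ext k
      rw [MonoidHom.mem_ker, Subtype.ext_iff, mem_center_iff]
      refine Iff.trans ?_ (cen k)
      exact ⟨fun h => mem_centralizer_iff.2 fun x hx => congrArg Subtype.val (h ⟨x, hx⟩),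
        fun h x => Subtype.ext (mem_centralizer_iff.1 h x x.2)⟩
    exact ⟨(QuotientGroup.quotientMulEquivOfEq hk).trans
      (QuotientGroup.quotientKerEquivOfSurjective g hg)⟩
  · obtain ⟨k, hk, c, hc, rfl⟩ := dec n hn
    exact Commute.mul_left (mem_centralizer_iff.1 (c1 r q.kr) k hk) (q.cr c hc)
  · obtain ⟨k, hk, c, hc, rfl⟩ := dec n hn
    have kc : Commute k c := mem_centralizer_iff.1 (c1 c hc) k hk
    have h1 : c ^ 2 ^ a ∈ L := by
      rw [kc.mul_pow] at ha
      rw [eq_inv_of_mul_eq_one_right ha]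
      exact inv_mem (pow_mem hk _)
    obtain ⟨b, m, hm, e⟩ := Nat.exists_eq_two_pow_mul_odd (orderOf_pos c).ne'
    obtain ⟨x, y, hxy⟩ := Nat.isCoprime_iff_coprime.2
      (Nat.Coprime.pow_left a (Nat.coprime_two_left.2 hm))
    refine ⟨k * (c ^ 2 ^ a) ^ x, mul_mem hk (zpow_mem h1 _), (c ^ m) ^ y,
      q.two _ (by simp [hc]) ⟨b, ?_⟩, ?_⟩
    · rw [← zpow_natCast, ← zpow_mul, mul_comm, zpow_mul, zpow_natCast, ← pow_mul, mul_comm, ← e,
        pow_orderOf_eq_one, one_zpow]
    · rw [mul_assoc, ← zpow_natCast c, ← zpow_natCast c, ← zpow_mul, ← zpow_mul, ← zpow_add,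
        mul_comm _ x, mul_comm _ y, hxy, zpow_one]

end Cfsg.Agent.H70.HtKS
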