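/-
The Harada–Norton group inside the Monster: the interfaces.
-/
import Cfsg.Agent.H49.Monster3

set_option autoImplicit false

namespace Cfsg.Agent.H70.HN

open Cfsg Subgroup Cfsg.Agent.H48 Cfsg.Agent.H49

variable {G : Type*} [Group G]

/-- What is used about the two classes `D` (2A) and `Z` (2B) of involutions. -/
structure Amb (D Z : Set G) : Prop where
  cD : ∀ g x, x ∈ D → g * x * g⁻¹ ∈ D
  sD : ∀ x ∈ D, x * x = 1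
  nD : (1 : G) ∉ D
  isc : ∀ z ∈ Z, ∀ y, IsConj z y ↔ y ∈ Z
  dj : ∀ x ∈ D, x ∉ Z
  two : ∀ s : G, s * s = 1 → s = 1 ∨ s ∈ D ∨ s ∈ Z
  six : ∀ x ∈ D, ∀ y ∈ D, orderOf (x * y) ≤ 6
  md : ∀ z ∈ Z, ∃ Q θ R, MD Q z θ R ∧ (∀ y ∈ D, z * y ∈ D → y ∈ Q) ∧
    ∀ d ∈ D, ∀ e ∈ D, orderOf (d * e) = 5 → d * z = z * d → e * z = z * e →
      ∃ s ∈ Q, s ∈ Z ∧ s ≠ z ∧ s * (d * e) = d * e * s

/-- A configuration inside `S₁₂ × ⟨c⟩`: with `diag σ` acting on `k` and `k + 6` alike,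
`x = diag (01234)`, `t = ∏ (k, k+6)`, `z = diag (14)(23)`, `q₁ = diag (14)`,
`q₂ = diag (12)(34) * t`, `v = (5 11)`. -/
structure Cfg (D Z : Set G) (x t z q₁ q₂ v c : G) : Prop where
  ox : orderOf x = 5
  tD : t ∈ D
  zZ : z ∈ Z
  dD : z * t ∈ D
  q1D : q₁ ∈ D
  zq1 : z * q₁ ∈ D
  q2D : q₂ ∈ D
  zq2 : z * q₂ ∈ D
  q1t : q₁ * t ∈ D
  q2t : q₂ * t ∈ Z
  nc : q₁ * q₂ ≠ q₂ * q₁
  zx : z * x * z⁻¹ = x⁻¹
  ix : q₁ * q₂ * x * (q₁ * q₂)⁻¹ = x ^ 2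
  vD : v ∈ D
  cD : c ∈ D
  vc : v * c ∈ D
  tv : t * v ∈ Z
  tvc : t * v * c ∈ Z
  tx : t * x = x * t
  vx : v * x = x * v
  cx : c * x = x * c
  vz : v * z = z * v
  cz : c * z = z * c
  vt : v * t = t * v
  ct : c * t = t * c
  vi : v * (q₁ * q₂) = q₁ * q₂ * v
  ci : c * (q₁ * q₂) = q₁ * q₂ * c

end Cfsg.Agent.H70.HN
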