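/-
The Harada–Norton group inside the Monster: the local structure at a 2-central involution.
-/
import Cfsg.Agent.H70.HnDefs
import Cfsg.Agent.H49.Monster4
import Cfsg.Agent.H49.Fix5
import Cfsg.Agent.H49.Simp

set_option autoImplicit false

namespace Cfsg.Agent.H70.HN

open Cfsg Subgroup Cfsg.Agent.H48 Cfsg.Agent.H49 Cfsg.Agent.H42 Cfsg.Agent.H43

variable {G : Type*} [Group G]

/-- The local structure of `Γ = C(x, d)` at an involution `z` of type 2B. -/
structure Loc (D : Set G) (x d z : G) (R : Subgroup G) : Prop where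
  xs : XS R z
  card : Nat.card R = 512
  le : R ≤ centralizer {x, d}
  mem : ∀ y ∈ D, z * y ∈ D → y * x = x * y → y ∈ R
  norm : ∀ g, g * z = z * g → g * x * g⁻¹ ∈ zpowers x → ∀ r ∈ R, g * r * g⁻¹ ∈ R
  cent : ∀ g ∈ centralizer ({x, d} : Set G), (∀ r ∈ R, r * g = g * r) → g ∈ R
  big : 3686400 ≤ Nat.card ↥(centralizer ({x, d} : Set G) ⊓ centralizer {z})
  few : {y | y ∈ R ∧ y ∈ D}.ncard ≤ 120
  simple : ∃ K : Subgroup G, IsSimpleGroup K ∧ R ≤ K ∧ K ≤ centralizer {x, d} ∧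
    ∀ g ∈ centralizer ({x, d} : Set G), ∀ k ∈ K, g * k * g⁻¹ ∈ K

theorem mem_cp {a b k : G} : k ∈ centralizer ({a, b} : Set G) ↔ k * a = a * k ∧ k * b = b * k := by
  rw [centralizer_pair, mem_inf, mem_centralizer_singleton_iff, mem_centralizer_singleton_iff]

theorem inv_zpow' {x d : G} (dx : d * x * d⁻¹ = x⁻¹) (j : ℤ) : d * x ^ j * d⁻¹ = (x ^ j)⁻¹ := by
  rw [← conj_zpow, dx, inv_zpow]

/-- the involutions `d x ^ j` are conjugate under `x` -/
theorem conj_dx {x d : G} (ox : orderOf x = 5) (dx : d * x * d⁻¹ = x⁻¹) (j : ℤ) :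
    (x ^ (3 * j))⁻¹ * d * x ^ (3 * j) = d * x ^ j := by
  have h5 : x ^ (5 * j) = 1 := by
    rw [zpow_mul, show x ^ (5 : ℤ) = 1 by rw [← pow_orderOf_eq_one x, ox, ← zpow_natCast]; rfl, one_zpow]
  rw [← inv_zpow' dx, inv_mul_cancel_right, mul_assoc, ← zpow_add,
    show 3 * j + 3 * j = 5 * j + j by ring, zpow_add, h5, one_mul]

namespace Amb

variable {D Z : Set G} (A : Amb D Z) {x d : G} (ox : orderOf x = 5) (dD : d ∈ D)
  (dx : d * x * d⁻¹ = x⁻¹)
include A

theorem ne_one {y : G} (hy : y ∈ D) : y ≠ 1 := fun e => A.nD (e ▸ hy)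

omit A in
theorem comm {a b : G} (ha : a * a = 1) (hb : b * b = 1) (h : a * b * (a * b) = 1) :
    a * b = b * a := by
  rw [← inv_eq_of_mul_eq_one_right h, mul_inv_rev, inv_eq_of_mul_eq_one_right ha,
    inv_eq_of_mul_eq_one_right hb]

include ox dD dx

theorem dx_mem (j : ℤ) : d * x ^ j ∈ D := by
  have := A.cD (x ^ (3 * j))⁻¹ d dD
  rwa [inv_inv, conj_dx ox dx] at this

/-- products of two members of `D` have order at most six -/
theorem ten [Finite G] {a : G} (ax : a * x = x * a) (a4 : a ^ 4 = 1) (h : a * d ∈ D) : a = 1 := by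
  have h1 := A.six _ h _ (A.dx_mem ox dD dx 1)
  rw [zpow_one, mul_assoc, ← mul_assoc d, A.sD d dD, one_mul] at h1
  have h2 : orderOf a ∣ 4 := orderOf_dvd_of_pow_eq_one a4
  have h3 : (orderOf a).Coprime (orderOf x) := by
    rw [ox]; exact Nat.Coprime.coprime_dvd_left h2 (by norm_num)
  rw [Commute.orderOf_mul_eq_mul_orderOf_of_coprime ax h3, ox] at h1
  have := orderOf_pos a
  exact orderOf_eq_one_iff.1 (by omega)

end Amb

/-- the classes of type four -/
def m4 : ℕ := 0x92a991541e0c30e010a0100230031db00451151000bc00d04a52021c4813116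

/-- every class is a sum of two classes of type four -/
def w4 : ℕ := 0x40d08040801010d020d04010201020104010104040101040802010401020102010808020c02010d010102010404040801010202020201010404040c010102010c0d0c0408020110041e040c02010201171f1e041a0201101f170d0c101a1008021a0401020201011010080c101a0808020201010802010401010102020101010d080d0c0d081f0801042502010201021f0201040d02010401020102200201040c0d0c0c081a080804200404020101010101020204041a0804042504010101020804080c01080c020201020101020102021e08011e100408024008014302010d0101020201048002080102040402012002020101830201041002010801300c01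

theorem m4_ok : allB (fun a => !H42.tb m4 a || n64 f5reps a) 256 = true := by decide +kernel

theorem w4_ok : allB (fun a => H42.tb m4 (fld 8 w4 a) && H42.tb m4 (Nat.xor a (fld 8 w4 a))) 256 =
    true := by decide +kernel

theorem sum4 {a : ℕ} (ha : a < 2 ^ 8) : ∃ b < 2 ^ 8, ∃ c < 2 ^ 8, n64 f5reps b = true ∧
    n64 f5reps c = true ∧ cong (rep f5reps b + rep f5reps c) (rep f5reps a) := by
  have h1 := allB_iff.1 w4_ok a ha
  rw [Bool.and_eq_true] at h1
  have hb : fld 8 w4 a < 2 ^ 8 := fld_lt _ _ _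
  have hc : a ^^^ fld 8 w4 a < 2 ^ 8 := Nat.xor_lt_two_pow ha hb
  have k : ∀ b < 2 ^ 8, H42.tb m4 b = true → n64 f5reps b = true := fun b hb e => by
    simpa [e] using allB_iff.1 m4_ok b hb
  refine ⟨_, hb, _, hc, k _ hb h1.1, k _ hc h1.2, ?_⟩
  rw [cong_iff_kap, kap_add, f5_fs.kap_rep _ hb, f5_fs.kap_rep _ hc, f5_fs.kap_rep _ ha, phi, phi,
    ← xorC_xor, Nat.xor_comm a, ← Nat.xor_assoc, Nat.xor_self, Nat.zero_xor, phi]

/-- the test for type two -/
noncomputable def n32 (a : ℕ) : Bool := (Int.decEq (nrm f5reps a) 32).decide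

theorem n32_cnt : cnt n32 (2 ^ 8) = 60 := by decide +kernel

theorem Amb.loc [Finite G] {D Z : Set G} (A : Amb D Z) {x d z : G} (ox : orderOf x = 5)
    (dD : d ∈ D) (dx : d * x * d⁻¹ = x⁻¹) (hz : z ∈ Z) (zx : z * x = x * z)
    (zd : z * d = d * z) : ∃ R, Loc D x d z R := by
  have : Fact (Nat.Prime 5) := ⟨by norm_num⟩
  have : Fact (Nat.Prime 2) := ⟨Nat.prime_two⟩
  have dd := A.sD d dD
  have x5 : x ^ 5 = 1 := ox ▸ pow_orderOf_eq_one x
  have xo : Odd (orderOf x) := by rw [ox]; decide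
  obtain ⟨Q, θ₀, R₀, h₀, hD, h4⟩ := A.md z hz
  have e0 : d * (d * x) = x := by rw [← mul_assoc, dd, one_mul]
  obtain ⟨s, sQ, sZ, sz, sx⟩ := h4 d dD (d * x) (by simpa using A.dx_mem ox dD dx 1) (e0.symm ▸ ox)
    zd.symm (by rw [mul_assoc, ← zx, ← mul_assoc, ← zd, mul_assoc])
  rw [e0] at sx
  have cs := (A.isc z hz s).2 sZ
  obtain ⟨θ₁, R₁, h₁, r₁⟩ := h₀.exists_twist_e8 sQ cs sz
  obtain ⟨τ, hτ, h2⟩ := h₁.exists_perm r₁ (p := 5) (by decide) ox zx.symm sx.symm
  obtain ⟨i, hi, -, c⟩ := m24_class_of_order hτ [8] (by decide +kernel)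
  obtain rfl : i = 8 := by simpa using hi
  obtain ⟨θ, R, h, -, a⟩ := h2 _ c
  change Ass θ f5x x at a
  clear h2 c hi hτ r₁ h₁ h₀ h4
  have hL := h.hQ
  have cd := f5_cent
  have s1 : s ≠ 1 := fun e => hL.ne (isConj_one_left.1 (e ▸ cs))
  have XR := h.xs_fix xo zx.symm sQ s1 sz sx
  set P := Q ⊓ centralizer (zpowers x : Set G) with hP
  have mP : ∀ y, y ∈ P ↔ y ∈ Q ∧ y * x = x * y := fun y => by
    rw [hP, mem_inf, centralizer_zpowers', mem_centralizer_singleton_iff]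
  have hPQ : P ≤ Q := inf_le_left
  have nrmP : ∀ g, g * z = z * g → g * x * g⁻¹ ∈ zpowers x → ∀ r ∈ P, g * r * g⁻¹ ∈ P := by
    intro g h1 h2 r hr
    have h3 : g ∈ normalizer (zpowers x : Set G) := mem_normalizer_of_conj_mem (by
      rintro _ ⟨j, rfl⟩
      rw [← conj_zpow]
      exact zpow_mem h2 j)
    refine ⟨hL.conj_mem h1 hr.1, fun y hy => ?_⟩
    have h5 := hr.2 _ (conj_mem_of_mem_normalizer (inv_mem h3) hy)
    calc y * (g * r * g⁻¹) = g * (g⁻¹ * y * g⁻¹⁻¹ * r) * g⁻¹ := by group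
      _ = _ := by rw [h5]; group
  have cenE : ∀ e ∈ D, e * z = z * e → e * x * e⁻¹ = x⁻¹ → ∀ r ∈ P, r * e = e * r := by
    intro e eD ez ex r hr
    have h1 : r * (e * r⁻¹ * e⁻¹) ∈ P :=
      mul_mem hr (nrmP e ez (ex ▸ inv_mem (mem_zpowers x)) _ (inv_mem hr))
    have h2 := A.ten ox eD ex ((mP _).1 h1).2 (XR.pow_four h1) (by
      rw [show r * (e * r⁻¹ * e⁻¹) * e = r * e * r⁻¹ by group]; exact A.cD _ _ eD)
    calc r * e = r * (e * r⁻¹ * e⁻¹) * (e * r) := by group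
      _ = e * r := by rw [h2, one_mul]
  set Γ := centralizer ({x, d} : Set G) with hΓ
  have hPΓ : P ≤ Γ := fun r hr => mem_cp.2 ⟨((mP r).1 hr).2, cenE d dD zd.symm dx r hr⟩
  have cent : ∀ {g k}, Ass θ g k → k * x = x * k → g ∈ centralizer ({f5x} : Set Co0) := by
    intro g k ak hk
    have := h.unlift (p := 5) (by decide) (f5_ord ▸ pow_orderOf_eq_one f5x) a ak (k := 1)
      (by rw [hk]; simp)
    rw [pow_one] at this
    exact mem_centralizer_singleton_iff.2 this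
  have memQB : ∀ {g k}, Ass θ g k → k * x = x * k → g ∈ center Co0 ⊔ zpowers f5x →
      ∃ q ∈ P, ∃ j : ℤ, k = q * x ^ j := by
    intro g k ak hk hg
    obtain ⟨c, hc, _, ⟨j, rfl⟩, rfl⟩ := mem_sup_of_normal_left.1 hg
    refine ⟨k * (x ^ j)⁻¹, (mP _).2 ⟨(h.ass_mem_iff (ak.mul (a.zpow j).inv)).2 (by simpa using hc),
      ?_⟩, j, by simp⟩
    exact (Commute.mul_left hk ((Commute.refl x).zpow_left j).inv_left).eq
  have noX : ∀ q ∈ P, ∀ j : ℤ, q * x ^ j ∈ Γ → q * x ^ j ∈ P := by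
    intro q hq j hj
    have h1 : x ^ j ∈ Γ := by simpa using mul_mem (inv_mem (hPΓ hq)) hj
    have h2 := inv_zpow' dx j
    rw [← (mem_cp.1 h1).2, mul_inv_cancel_right] at h2
    have h3 : x ^ j = 1 := eq_one_of_odd_of_sq (A := zpowers x) (by rwa [Nat.card_zpowers])
      (zpow_mem (mem_zpowers x) j) (mul_eq_one_iff_eq_inv.2 h2)
    rwa [h3, mul_one]
  have key : ∀ k, k * x = x * k → (∀ r ∈ P, r * k = k * r) → ∃ q ∈ P, ∃ j : ℤ, k = q * x ^ j := by
    intro k hk hc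
    obtain ⟨g, ag⟩ := exists_ass (θ := θ) (hc z XR.mem).symm
    refine memQB ag hk ?_
    rw [← cd.fix]
    refine ⟨cent ag hk, fun v hv => ?_⟩
    obtain ⟨y, r⟩ := h.ex2 v
    exact h.cong_of_comm r ag (hc y ((mP y).2 ⟨h.mem r, (h.comm_iff_fix xo a r).2 hv⟩)).symm
  have cP : ∀ g ∈ Γ, (∀ r ∈ P, r * g = g * r) → g ∈ P := fun g hg hc => by
    obtain ⟨q, hq, j, rfl⟩ := key g (mem_cp.1 hg).1 hc
    exact noX q hq j hg
  -- adjusting an element of `C(x)` by a power of `x`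
  have adj : ∀ m, m * x = x * m → d * (m * z * m⁻¹) = m * z * m⁻¹ * d →
      ∃ j : ℤ, m * (x ^ j)⁻¹ ∈ Γ := by
    intro m mx md
    have eD := A.cD m⁻¹ d dD
    set e := m⁻¹ * d * m⁻¹⁻¹ with he
    have ez : e * z = z * e := by
      calc e * z = m⁻¹ * (d * (m * z * m⁻¹)) * m := by rw [he]; group
        _ = _ := by rw [md, he]; group
    have ex : e * x * e⁻¹ = x⁻¹ := by
      calc e * x * e⁻¹ = m⁻¹ * (d * (m * x) * m⁻¹ * d⁻¹) * m := by rw [he]; group
        _ = m⁻¹ * (d * x * d⁻¹) * m := by rw [mx]; group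
        _ = (m⁻¹ * (x * m))⁻¹ := by rw [dx]; group
        _ = x⁻¹ := by rw [← mx]; group
    obtain ⟨q, hq, j, e1⟩ := key (d * e) (by
      calc d * e * x = d * (e * x * e⁻¹) * e := by group
        _ = (d * x * d⁻¹)⁻¹ * (d * e) := by rw [ex]; group
        _ = _ := by rw [dx, inv_inv]) (fun r hr => by
      rw [← mul_assoc, cenE d dD zd.symm dx r hr, mul_assoc, cenE e eD ez ex r hr, ← mul_assoc])
    have e2 : e = q * (d * x ^ j) := by
      rw [← mul_assoc, cenE d dD zd.symm dx q hq, mul_assoc, ← e1, ← mul_assoc, dd, one_mul]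
    have e3 : q = 1 := A.ten ox (A.dx_mem ox dD dx j) (by
      rw [mul_inv_rev, mul_assoc d, mul_assoc d, ← mul_assoc (x ^ j * x),
        ← ((Commute.refl x).zpow_right j).eq, mul_inv_cancel_right, ← mul_assoc, dx])
      ((mP q).1 hq).2 (XR.pow_four hq) (e2 ▸ eD)
    rw [e3, one_mul, ← conj_dx ox dx] at e2
    refine ⟨3 * j, mem_cp.2 ⟨(Commute.mul_left mx ((Commute.refl x).zpow_left _).inv_left).eq, ?_⟩⟩
    calc m * (x ^ (3 * j))⁻¹ * d = m * ((x ^ (3 * j))⁻¹ * d * x ^ (3 * j)) * (x ^ (3 * j))⁻¹ := by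
          group
      _ = _ := by rw [← e2, he]; group
  have zΓ : z ∈ Γ := hPΓ XR.mem
  let z' : Γ := ⟨z, zΓ⟩
  let P' := P.subgroupOf Γ
  have X1 : XS P' z' := XS.of_map (f := Γ.subtype) (subtype_injective _)
    (by rw [map_subgroupOf_eq_of_le hPΓ]; exact XR)
  have mC : ∀ k : Γ, k ∈ centralizer ({z'} : Set Γ) ↔ k.1 * z = z * k.1 := fun k => by
    rw [mem_centralizer_singleton_iff, Subtype.ext_iff]; rfl
  have X2 : LX P' z' :=
    { X1 with
      cQ := fun g hg => cP g.1 g.2 fun r hr => congrArg Subtype.val (hg ⟨r, hPΓ hr⟩ hr)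
      nz := fun g hg => mem_normalizer_of_conj_mem fun r hr => nrmP g.1 ((mC g).1 hg)
        (by rw [(mem_cp.1 g.2).1, mul_inv_cancel_right]; exact mem_zpowers x) r.1 hr }
  set C := centralizer ({z'} : Set Γ) with hC
  obtain ⟨ρ, ρs, hρ⟩ := cd.ex
  have ex : ∀ k : C, ∃ g : centralizer ({f5x} : Set Co0), Ass θ g.1 k.1.1 := fun k => by
    obtain ⟨g, ag⟩ := exists_ass (θ := θ) ((mC k).1 k.2)
    exact ⟨⟨g, cent ag (mem_cp.1 k.1.2).1⟩, ag⟩
  have un : ∀ (k : G) (g g' : centralizer ({f5x} : Set Co0)), Ass θ g.1 k → Ass θ g'.1 k →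
      ρ g = ρ g' := by
    intro k g g' a1 a2
    rw [← mul_inv_eq_one, ← map_inv, ← map_mul, hρ]
    exact mem_sup_left ((h.ass_mem_iff (a1.mul a2.inv)).1 (by simp))
  choose f hf using ex
  let β : C →* grp 25 f5_O := MonoidHom.mk' (fun k => ρ (f k)) fun k k' => by
    rw [← map_mul]; exact un _ _ _ (hf (k * k')) ((hf k).mul (hf k'))
  have βs : Function.Surjective β := by
    intro u
    obtain ⟨g, rfl⟩ := ρs u
    obtain ⟨c, ac, e⟩ := h.lift (p := 5) (by decide) x5 a (k := 1) (g := g.1)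
      (by rw [pow_one]; exact mem_centralizer_singleton_iff.1 g.2)
    rw [pow_one, mul_inv_eq_iff_eq_mul] at e
    obtain ⟨j, hj⟩ := adj c e (by rw [ac.comm, mul_inv_cancel_right, zd])
    have a2 := ac.mul (a.zpow j).inv
    let k : C := ⟨⟨_, hj⟩, (mC _).2 a2.comm⟩
    have m1 : f5x ^ j ∈ centralizer ({f5x} : Set Co0) :=
      zpow_mem (mem_centralizer_singleton_iff.2 rfl) j
    refine ⟨k, (un _ _ (g * (⟨_, m1⟩ : centralizer ({f5x} : Set Co0))⁻¹) (hf k) a2).trans ?_⟩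
    rw [map_mul, map_inv, (hρ ⟨_, m1⟩).2 (mem_sup_right (zpow_mem (mem_zpowers _) j)), inv_one,
      mul_one]
  have βk : β.ker = P'.subgroupOf C := by
    ext k
    constructor
    · intro hk
      obtain ⟨q, hq, j, e⟩ := memQB (hf k) (mem_cp.1 k.1.2).1 ((hρ _).1 hk)
      have := noX q hq j (e ▸ k.1.2)
      rwa [← e] at this
    · intro hk
      exact (hρ _).2 (mem_sup_left ((h.ass_mem_iff (hf k)).1 (hPQ hk)))
  have cardP : Nat.card P = 512 := by
    have h2 : (P : Set G) = {y | ∃ i < 2 ^ 8, (fun _ => true) i = true ∧ R (rep f5reps i) y} := by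
      ext y
      rw [SetLike.mem_coe, mP, h.mem_fix_iff xo a f5_fs]
      simp
    rw [← SetLike.coe_sort_coe, Nat.card_coe_set_eq, h2, h.ncard_fix f5_fs, cnt_true]
    rfl
  have hPC : P' ≤ C := X2.le_centralizer
  have cardP' : Nat.card P' = 512 := (Nat.card_congr (subgroupOfEquivOfLe hPΓ).toEquiv).trans cardP
  have cardC : Nat.card C = 3686400 := by
    rw [← β.ker.card_mul_index, index_ker, MonoidHom.range_eq_top.2 βs, card_top, f5o_card, βk,
      Nat.card_congr (subgroupOfEquivOfLe hPC).toEquiv, cardP']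
  have four : ∀ y (hy : y ∈ P), IsConj z y → ∃ m : Γ, m * z' * m⁻¹ = ⟨y, hPΓ hy⟩ := by
    intro y hy hc
    obtain ⟨m, hm, e⟩ := h.exists_conj_cent xo zx.symm (hPQ hy) hc ((mP y).1 hy).2
    obtain ⟨j, hj⟩ := adj m hm (by rw [e]; exact (mem_cp.1 (hPΓ hy)).2.symm)
    refine ⟨⟨_, hj⟩, Subtype.ext ?_⟩
    have h1 := (Commute.zpow_right zx j).eq
    calc m * (x ^ j)⁻¹ * z * (m * (x ^ j)⁻¹)⁻¹ = m * (x ^ j)⁻¹ * (z * x ^ j) * m⁻¹ := by group
      _ = y := by rw [h1, ← e]; group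
  refine ⟨P, XR, cardP, hPΓ, fun y hy h1 h2 => (mP y).2 ⟨hD y hy h1, h2⟩, nrmP, cP, ?_, ?_, ?_⟩
  · have : C = (Γ ⊓ centralizer {z}).subgroupOf Γ := by
      ext k
      rw [mC, mem_subgroupOf, mem_inf, mem_centralizer_singleton_iff]
      exact ⟨fun e => ⟨k.2, e⟩, fun e => e.2⟩
    rw [← Nat.card_congr (subgroupOfEquivOfLe inf_le_left).toEquiv, ← this, cardC]
  · have h1 := h.ncard_fix f5_fs n32
    rw [n32_cnt] at h1
    refine (Set.ncard_le_ncard ?_).trans h1.le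
    rintro y ⟨hy, yD⟩
    obtain ⟨i, hi, r⟩ := (h.mem_fix_iff xo a f5_fs).1 ((mP y).1 hy)
    have := h.norm_eq_32 r (f5_fs.short i hi) (A.ne_one yD) (A.sD y yD)
      fun c => A.dj y yD ((A.isc z hz y).1 c)
    rw [sqNorm_rep (f5_fs.mem i hi)] at this
    exact ⟨i, hi, decide_eq_true this, r⟩
  · obtain ⟨m, hm⟩ := four s ((mP s).2 ⟨sQ, sx⟩) cs
    have m1 : m * z' * m⁻¹ ∈ P' := by rw [hm]; exact (mP s).2 ⟨sQ, sx⟩
    have hN : P' ≤ normalClosure {z'} := by
      have t4 : ∀ b < 2 ^ 8, n64 f5reps b = true → ∃ y, R (rep f5reps b) y ∧ ∃ hy : y ∈ Γ,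
          (⟨y, hy⟩ : Γ) ∈ normalClosure {z'} := by
        intro b hb h64
        obtain ⟨y, r⟩ := h.ex2 (rep f5reps b)
        have hy := (mP y).2 ((h.mem_fix_iff xo a f5_fs).2 ⟨b, hb, r⟩)
        obtain ⟨m, hm⟩ := four y hy ((h.isConj_iff_norm r (f5_fs.short b hb)).2
          (by rw [sqNorm_rep (f5_fs.mem b hb)]; exact of_decide_eq_true h64)).1
        exact ⟨y, r, _, hm ▸ normalClosure_normal.conj_mem _ (subset_normalClosure (s := {z'}) rfl) m⟩
      rintro ⟨y, yΓ⟩ hy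
      obtain ⟨i, hi, r⟩ := (h.mem_fix_iff xo a f5_fs).1 ((mP y).1 hy)
      obtain ⟨b, hb, c, hc, e1, e2, e3⟩ := sum4 hi
      obtain ⟨y1, r1, m1, n1⟩ := t4 b hb e1
      obtain ⟨y2, r2, m2, n2⟩ := t4 c hc e2
      rcases (h.uniq (h.mul r1 r2) r).1 e3 with rfl | rfl
      · exact mul_mem n1 n2
      · exact mul_mem (mul_mem n1 n2) (subset_normalClosure (s := {z'}) rfl)
    have hO : P' = (pCore 2 C).map C.subtype := by
      rw [← map_subgroupOf_eq_of_le hPC]
      congr 1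
      have hn : (P'.subgroupOf C).Normal := βk ▸ inferInstance
      refine le_antisymm (H3.le_pCore (X1.isPGroup.comap_subtype)) fun c hc => ?_
      have := cd.o2 ((pCore 2 C).map β) (Normal.map inferInstance _ βs)
        ((H3.pCore_isPGroup 2 _).map _)
      exact βk ▸ (Subgroup.map_eq_bot_iff _).1 this hc
    have hs := (X2.isSimpleGroup_normalClosure (X2.large_of_mem_cj m1
      (by rw [hm]; exact fun e => sz (congrArg Subtype.val e))
      (X2.mem_cj_of_mem (by rw [cardP']; norm_num) m1)) hO hN).1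
    refine ⟨(normalClosure {z'}).map Γ.subtype,
      (equivMapOfInjective _ _ (subtype_injective _)).symm.isSimpleGroup, fun r hr =>
        ⟨⟨r, hPΓ hr⟩, hN hr, rfl⟩, map_subtype_le _, ?_⟩
    rintro g hg _ ⟨k, hk, rfl⟩
    exact ⟨_, normalClosure_normal.conj_mem _ hk ⟨g, hg⟩, rfl⟩

end Cfsg.Agent.H70.HN
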