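import Cfsg.Agent.H46.J1Defs

/-!
# No equivariant alternating map `V × V → V` for an automorphism of order seven of `2³`
-/

set_option autoImplicit false

namespace Cfsg.Agent.H70.S94HL

universe u

variable {V : Type u} [CommGroup V]

theorem caseA (s : MulAut V) (β : V → V → V) (h2 : ∀ v : V, v * v = 1)
    (hl : ∀ a b c, β (a * b) c = β a c * β b c) (hr : ∀ a b c, β a (b * c) = β a b * β a c)
    (ha : ∀ a, β a a = 1) (hs : ∀ a b, β (s a) (s b) = s (β a b))
    (h3 : ∀ x, s (s (s x)) = x * s x) (x : V) : β x (s x) = 1 ∧ β x (s (s x)) = 1 := by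
  have sy : ∀ a b, β a b = β b a := fun a b => by
    have h1 := ha (a * b)
    rw [hl, hr, hr, ha, ha, one_mul, mul_one] at h1
    rw [eq_inv_of_mul_eq_one_left h1, inv_eq_of_mul_eq_one_left (h2 _)]
  have e1 : β x (s x) = s (β x (s (s x))) := by
    rw [← hs, h3, hr, ha, mul_one, sy]
  have e2 : s (s (β x (s x))) = β x (s (s x)) * s (β x (s x)) := by
    rw [← hs, ← hs, h3, hr, sy (s (s x)) x, sy (s (s x)) (s x)]
  have e3 := congrArg s e2
  rw [h3, map_mul, ← e1] at e3
  have e4 : β x (s x) = s (β x (s x)) := s.injective (mul_left_cancel e3)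
  have e5 := h3 (β x (s x))
  rw [← e4, ← e4, ← e4, h2] at e5
  exact ⟨e5, by rw [e5] at e1; exact s.injective (by rw [← e1, map_one])⟩

theorem caseA' (s : MulAut V) (β : V → V → V) (h2 : ∀ v : V, v * v = 1)
    (hl : ∀ a b c, β (a * b) c = β a c * β b c) (hr : ∀ a b c, β a (b * c) = β a b * β a c)
    (ha : ∀ a, β a a = 1) (hs : ∀ a b, β (s a) (s b) = s (β a b))
    (h3 : ∀ x, s (s (s x)) = x * s x) (x : V) (n : ℕ) : β x ((s ^ n) x) = 1 := by
  have key : ∀ n : ℕ, β x ((s ^ n) x) = 1 ∧ β x (s ((s ^ n) x)) = 1 ∧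
      β x (s (s ((s ^ n) x))) = 1 := by
    intro n
    induction n with
    | zero => exact ⟨ha x, caseA s β h2 hl hr ha hs h3 x⟩
    | succ n ih =>
      rw [pow_succ', MulAut.mul_apply, h3, hr, ih.1, ih.2.1, one_mul]
      exact ⟨rfl, ih.2.2, rfl⟩
  exact (key n).1

theorem orbit [Finite V] (hV : Nat.card V = 8) {s : MulAut V} (h7 : orderOf s = 7) :
    ∃ v : V, (∀ i < 7, ∀ j < 7, (s ^ i) v = (s ^ j) v → i = j) ∧ v ≠ 1 ∧
      ∀ y, y = 1 ∨ ∃ i < 7, y = (s ^ i) v := by
  classical
  obtain ⟨v, hv⟩ : ∃ v, s v ≠ v := by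
    by_contra h
    push Not at h
    rw [show s = 1 from MulEquiv.ext h, orderOf_one] at h7
    exact absurd h7 (by norm_num)
  have v1 : v ≠ 1 := fun e => hv (by rw [e, map_one])
  have key : ∀ i j, i < j → j < 7 → (s ^ i) v ≠ (s ^ j) v := by
    intro i j hij hj e
    obtain ⟨d, rfl⟩ := Nat.exists_eq_add_of_lt hij
    rw [add_assoc, pow_add, MulAut.mul_apply] at e
    have h1 : s ^ (d + 1) ∈ MulAction.stabilizer (MulAut V) v := ((s ^ i).injective e).symm
    obtain ⟨m, hm⟩ := exists_pow_eq_self_of_coprime (x := s) (n := d + 1) (by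
      rw [h7]
      exact (Nat.coprime_of_lt_prime (by omega) (by omega) (by norm_num)).symm)
    exact hv (hm ▸ pow_mem h1 m)
  have inj : ∀ i < 7, ∀ j < 7, (s ^ i) v = (s ^ j) v → i = j := fun i hi j hj e => by
    rcases lt_trichotomy i j with h | h | h
    · exact absurd e (key i j h hj)
    · exact h
    · exact absurd e.symm (key j i h hi)
  refine ⟨v, inj, v1, fun y => ?_⟩
  have := Fintype.ofFinite V
  have h1 : insert 1 ((Finset.range 7).image fun i => (s ^ i) v) = Finset.univ := by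
    refine Finset.eq_univ_of_card _ ?_
    rw [Finset.card_insert_of_notMem, Finset.card_image_of_injOn, Finset.card_range,
      ← Nat.card_eq_fintype_card, hV]
    · exact fun i hi j hj e => inj i (by simpa using hi) j (by simpa using hj) e
    · simp [v1]
  have h2 := h1.ge (Finset.mem_univ y)
  simp only [Finset.mem_insert, Finset.mem_image, Finset.mem_range] at h2
  exact h2.imp_right fun ⟨i, hi, e⟩ => ⟨i, hi, e.symm⟩

theorem rel [Finite V] (hV : Nat.card V = 8) (h2 : ∀ v : V, v * v = 1) {s : MulAut V}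
    (h7 : orderOf s = 7) : (∀ x, s (s (s x)) = x * s x) ∨ ∀ x, s (s (s x)) = x * s (s x) := by
  obtain ⟨v, inj, v1, all⟩ := orbit hV h7
  have cm : ∀ (i : ℕ) x, (s ^ i) (s x) = s ((s ^ i) x) := fun i x => by
    rw [← MulAut.mul_apply, ← MulAut.mul_apply, ← pow_succ, ← pow_succ']
  have ext : ∀ F : V → V → V → V → Prop, F 1 1 1 1 →
      (∀ (i : ℕ) a b c d, F a b c d → F ((s ^ i) a) ((s ^ i) b) ((s ^ i) c) ((s ^ i) d)) →
      F v (s v) (s (s v)) (s (s (s v))) → ∀ x, F x (s x) (s (s x)) (s (s (s x))) := by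
    intro F h1 h3 h4 x
    rcases all x with rfl | ⟨i, -, rfl⟩
    · simpa using h1
    · simpa only [cm] using h3 i _ _ _ _ h4
  have p7 : s (s (s (s (s (s (s v)))))) = v := by
    have : (s ^ 7) v = v := by rw [← h7, pow_orderOf_eq_one]; rfl
    exact this
  have can : ∀ a b c : V, a = b * c → c = a * b := fun a b c e => by
    rw [e, mul_comm b c, mul_assoc, h2, mul_one]
  rcases all (v * s v) with e | ⟨k, hk, e⟩
  · have : s v = v := by rw [can _ _ _ e.symm, one_mul]
    exact absurd (inj 1 (by norm_num) 0 (by norm_num) this) (by norm_num)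
  interval_cases k
  · have : s v = 1 := by rw [can _ _ _ e.symm]; exact h2 v
    exact absurd (s.injective (this.trans (map_one s).symm)) v1
  · have : v * s v = 1 * s v := by rw [one_mul]; exact e
    exact absurd (mul_right_cancel this) v1
  · have e0 : v * s v = s (s v) := e
    have e1 := congrArg s e0
    rw [map_mul, ← e0, mul_comm v, ← mul_assoc, h2, one_mul, mul_comm, e0] at e1
    exact absurd (inj 0 (by norm_num) 3 (by norm_num) e1) (by norm_num)
  · exact Or.inl (ext (fun a b _ d => d = a * b) (by simp)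
      (fun i a b c d h => by rw [h, map_mul]) e.symm)
  · have e0 : v * s v = s (s (s (s v))) := e
    have e1 := congrArg (fun x => s (s (s x))) e0
    simp only [map_mul, p7] at e1
    rw [← e0, mul_comm v, ← mul_assoc] at e1
    have e2 : s (s (s v)) * s v = 1 := by
      apply mul_right_cancel (b := v)
      rw [e1, one_mul]
    have e3 : s v = s (s (s v)) := (can _ _ _ e2.symm).trans (one_mul _)
    exact absurd (inj 1 (by norm_num) 3 (by norm_num) e3) (by norm_num)
  · have e0 : v * s v = s (s (s (s (s v)))) := e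
    have e1 := congrArg (fun x => s (s x)) e0
    simp only [map_mul, p7] at e1
    exact Or.inr (ext (fun a _ c d => d = a * c) (by simp)
      (fun i a b c d h => by rw [h, map_mul]) (can _ _ _ e1.symm))
  · have e0 : v * s v = s (s (s (s (s (s v))))) := e
    have e1 := congrArg s e0
    rw [map_mul, p7] at e1
    have e2 := (can _ _ _ e1.symm).trans e0
    exact absurd (inj 2 (by norm_num) 6 (by norm_num) e2) (by norm_num)

theorem hl : Cfsg.Agent.H46.S94.HLStmt.{u} := by
  intro V _ _ s β hV h2 h7 hl hr ha hs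
  have r1 : ∀ a, β a 1 = 1 := fun a => by
    have := hr a 1 1
    rw [one_mul, h2] at this
    exact this
  have l1 : ∀ a, β 1 a = 1 := fun a => by
    have := hl 1 1 a
    rw [one_mul, h2] at this
    exact this
  have fin : ∀ t : MulAut V, orderOf t = 7 → (∀ a b, β (t a) (t b) = t (β a b)) →
      (∀ x, t (t (t x)) = x * t x) → ∀ a b, β a b = 1 := by
    intro t h7 ht h3 a b
    obtain ⟨v, -, -, all⟩ := orbit hV h7
    rcases all a with rfl | ⟨i, hi, rfl⟩
    · exact l1 b
    rcases all b with rfl | ⟨j, -, rfl⟩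
    · exact r1 _
    have : (t ^ j) v = (t ^ (j + (7 - i))) ((t ^ i) v) := by
      rw [← MulAut.mul_apply, ← pow_add, show j + (7 - i) + i = j + 7 by omega, pow_add, ← h7,
        pow_orderOf_eq_one, mul_one]
    rw [this]
    exact caseA' t β h2 hl hr ha ht h3 _ _
  rcases rel hV h2 h7 with h3 | h3
  · exact fin s h7 hs h3
  · refine fin s⁻¹ (by rw [orderOf_inv, h7]) (fun a b => ?_) fun x => ?_
    · apply s.injective
      rw [← hs]
      simp
    · have := h3 (s⁻¹ (s⁻¹ (s⁻¹ x)))
      simp only [MulAut.apply_inv_self] at this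
      calc s⁻¹ (s⁻¹ (s⁻¹ x)) = s⁻¹ (s⁻¹ (s⁻¹ x)) * s⁻¹ x * s⁻¹ x := by
            rw [mul_assoc, h2, mul_one]
        _ = x * s⁻¹ x := by rw [← this]

end Cfsg.Agent.H70.S94HL
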