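import Cfsg.Agent.H47.B6Defs
import Cfsg.Agent.H60.Cov
import Cfsg.Agent.H49.FiA

/-! The Baby Monster from the centralizer of a transposition: the generation lemma. -/

set_option autoImplicit false

namespace Cfsg.Agent.H70.B6H

open Subgroup Cfsg.Agent.H49 Cfsg.Agent.H47.B6

universe u

section
variable {G : Type*} [Group G] {M Q : Subgroup G} {t : G} {D : Set G}

/-- The elements that centralise `t` and centralise `E` modulo `t`. -/
def Nt (t : G) (ht : t * t = 1) (E : Set G) : Subgroup G where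
  carrier := {g | Commute g t ∧ ∀ d ∈ E, g * d * g⁻¹ = d ∨ g * d * g⁻¹ = d * t}
  one_mem' := ⟨Commute.one_left t, fun d _ => Or.inl (by simp)⟩
  mul_mem' := fun {a b} ha hb => ⟨ha.1.mul_left hb.1, fun d hd => by
    have c : a * (d * t) * a⁻¹ = a * d * a⁻¹ * t := by rw [mul_assoc _ a⁻¹, ha.1.inv_left.eq]; group
    rw [show a * b * d * (a * b)⁻¹ = a * (b * d * b⁻¹) * a⁻¹ by group]
    rcases hb.2 d hd with e | e <;> rw [e]
    · exact ha.2 d hd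
    · rw [c]
      exact (ha.2 d hd).symm.imp (fun e => by rw [e, mul_assoc, ht, mul_one]) fun e => by rw [e]⟩
  inv_mem' := fun {a} ha => ⟨ha.1.inv_left, fun d hd => (ha.2 d hd).imp
    (fun e => by nth_rw 1 [← e]; group) fun e => by
      have : d = a * d * a⁻¹ * t := by rw [e, mul_assoc, ht, mul_one]
      nth_rw 1 [this]
      rw [mul_assoc _ _ a⁻¹⁻¹, mul_assoc _ t, inv_inv, ← ha.1.eq]; group⟩

theorem two_le [Finite G] {P : Subgroup G} (hP : IsPGroup 2 P) {a : G} (h1 : a ∈ P) (h3 : a ∈ M)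
    (uD : ∀ g ∈ P, g * a * g⁻¹ ∈ M → g ∈ M) : P ≤ M := by
  have := hP.isNilpotent
  exact subgroupOf_eq_top.1 (normalizerCondition_iff_only_full_group_self_normalizing.1
    Group.normalizerCondition_of_isNilpotent _ (le_antisymm (fun (g : P) hg => uD g.1 g.2
      ((mem_normalizer_iff.1 hg (⟨a, h1⟩ : P)).1 h3)) le_normalizer))

theorem exists_two [Finite G] {A C : Subgroup G} (hA : IsPGroup 2 A) (le : A ≤ C) {a : G} (ha : a ∈ C) (h4 : a ^ 4 = 1) :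
    ∃ P : Subgroup G, IsPGroup 2 P ∧ A ≤ P ∧ P ≤ C ∧ ∃ c ∈ C, c * a * c⁻¹ ∈ P := by
  obtain ⟨S, hS⟩ := (hA.comap_subtype (K := C)).exists_le_sylow
  obtain ⟨T, hT⟩ := (show IsPGroup 2 (zpowers (⟨a, ha⟩ : C)) from fun x => ⟨2, by
    obtain ⟨_, n, rfl⟩ := x
    refine Subtype.ext (Subtype.ext ?_)
    change (a ^ n) ^ 2 ^ 2 = 1
    rw [← zpow_natCast, ← zpow_mul, mul_comm, zpow_mul, zpow_natCast, show 2 ^ 2 = 4 from rfl, h4,
      one_zpow]⟩).exists_le_sylow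
  obtain ⟨k, rfl⟩ := MulAction.exists_smul_eq C T S
  exact ⟨_, (k • T).2.map C.subtype, fun x hx => ⟨⟨x, le hx⟩, hS hx, rfl⟩, map_subtype_le _, k, k.2, _,
    smul_mem_pointwise_smul _ _ _ (hT (mem_zpowers _)), rfl⟩

section
variable (h : Hy M Q t D)
include h

theorem xs' {x : G} (hx : Commute x t) : XS (cj Q x) t := by
  simpa only [hx.eq, mul_inv_cancel_right] using h.xs.map_conj x

theorem cj_le {x : G} (hx : Commute x t) {E : Set G} (hE : E ⊆ cj Q x) : cj Q x ≤ Nt t h.xs.zz E :=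
  fun g hg => ⟨(xs' h hx).cen g hg, fun _ hd => (xs' h hx).conj hg (hE hd)⟩

variable [Finite G]

theorem lemL {x v : G} (hx : Commute x t) (h1 : v ∈ cj Q x) (h2 : v ∈ M) : v ∈ Q := by
  have hv : Commute v t := (xs' h hx).cen v h1
  obtain ⟨a, a1, a2, a3⟩ := h.fx v h2 hv (h.xs.Z_le ((xs' h hx).sq_mem h1))
  have ha : Commute a t := h.xs.cen a a1
  obtain ⟨P, p1, p2, p4, c, c1, c2⟩ := exists_two (xs' h hx).isPGroup (cj_le h hx (E := {v}) (by simpa using h1)) (a := a)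
    ⟨ha, by
      rintro _ rfl
      refine a3.imp (fun e => ?_) fun e => ?_
      · rw [← mul_inv_eq_iff_eq_mul.1 e, mul_inv_cancel_right]
      · have := mul_inv_eq_iff_eq_mul.1 e
        rw [mul_inv_eq_iff_eq_mul, hv.eq, mul_assoc, this, ← mul_assoc, ← mul_assoc, ← ha.eq, mul_assoc a, h.xs.zz,
          mul_one]⟩ (h.xs.pow_four a1)
  have p3 : P ≤ cj M x := two_le p1 (p2 (conj_mem_cj x a1)) (conj_mem_cj x (h.le a1)) fun g g1 hg =>
    mem_cj.2 (h.uD a a2 (h.le a1) (x⁻¹ * g * x) ((hx.inv_left.mul_left (p4 g1).1).mul_left hx)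
      (by simpa [mul_assoc] using mem_cj.1 hg))
  have m1 := h.uD a a2 (h.le a1) (x⁻¹ * c) (hx.inv_left.mul_left c1.1)
    (by simpa [mul_assoc] using mem_cj.1 (p3 c2))
  have m2 := h.nm _ (inv_mem m1) (hx.inv_left.mul_left c1.1).inv_left _ (mem_cj.1 h1)
  rw [show (x⁻¹ * c)⁻¹ * (x⁻¹ * v * x) * (x⁻¹ * c)⁻¹⁻¹ = c⁻¹ * v * c⁻¹⁻¹ by group] at m2
  rcases (inv_mem c1).2 v rfl with e | e <;> rw [e] at m2
  exacts [m2, (mul_mem_cancel_right h.xs.mem).1 m2]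

omit [Finite G] in
theorem caseA {E : Subgroup G} (hE : E ≤ Q) (hD : ∀ a ∈ D, a ∉ E)
    (H : ∀ a ∈ Q, a ∉ E → ∀ b ∈ Q, b ∉ E → ∃ g ∈ Nt t h.xs.zz E, (g * a * g⁻¹)⁻¹ * b ∈ E) {d : G} (hd : d ∈ E)
    (hc : d ∈ centralizer (E : Set G)) : d = 1 ∨ d = t := by
  by_contra hn
  obtain ⟨y, y1, y2⟩ := h.xs.exists_not_comm (hE hd) (fun e => hn (.inl e)) fun e => hn (.inr e)
  have key : ∀ b ∈ Q, b ∈ D → b * d ≠ d * b := fun b b1 b2 e => by
    obtain ⟨g, g1, g2⟩ := H y y1 (fun y3 => y2 (hc y y3).symm) b b1 (hD b b2)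
    have c1 : Commute (g * y * g⁻¹) d := by
      simpa using (Commute.mul_left (show Commute _ d from hc _ g2) (show Commute b d from e).inv_left).inv_left
    have c2 := c1.conj g⁻¹
    rw [show g⁻¹ * (g * y * g⁻¹) * g⁻¹⁻¹ = y by group] at c2
    rcases (inv_mem g1).2 d hd with e | e <;> rw [e] at c2
    · exact y2 c2.symm
    · exact y2 (by simpa [mul_assoc, h.xs.zz] using (c2.mul_right (show Commute y t from h.xs.cen y y1)).symm.eq)
  obtain ⟨b, b1, b2, b3⟩ := h.odd d (hE hd)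
  exact key b b1 b2 b3

theorem caseB {E : Subgroup G} (hE : E ≤ Q) (ht : t ∈ E) (hD : ∀ a ∈ D, a ∉ E)
    (H : ∀ a ∈ Q, a ∉ E → ∀ b ∈ Q, b ∉ E → ∃ g ∈ Nt t h.xs.zz E, (g * a * g⁻¹)⁻¹ * b ∈ E) : False := by
  have z := fun {d} => caseA h hE hD H (d := d)
  have dec : ∀ q ∈ Q, ∃ e ∈ E, e⁻¹ * q ∈ centralizer (E : Set G) := fun q hq => by
    obtain ⟨e, e1, e2⟩ := h.xs.exists_conj_eq' hE hE (fun u => q * u * q⁻¹) (fun u hu => h.xs.conj hq (hE hu))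
      (fun u _ v _ => by group) fun u u1 u2 => by
        rcases z u1 u2 with rfl | rfl
        exacts [by simp, by rw [h.xs.cen q hq, mul_inv_cancel_right]]
    exact ⟨e, e1, fun u hu => by
      calc u * (e⁻¹ * q) = e⁻¹ * (e * u * e⁻¹) * q := by group
        _ = _ := by rw [e2 u hu]; group⟩
  have cc : ∀ g ∈ Nt t h.xs.zz E, ∀ f ∈ centralizer (E : Set G),
      g * f * g⁻¹ ∈ centralizer (E : Set G) := fun g g1 f f1 u hu => by
    have : g⁻¹ * u * g⁻¹⁻¹ ∈ E := by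
      rcases (inv_mem g1).2 u hu with e | e <;> rw [e]
      exacts [hu, mul_mem hu ht]
    calc u * (g * f * g⁻¹) = g * (g⁻¹ * u * g⁻¹⁻¹ * f) * g⁻¹ := by group
      _ = _ := by rw [f1 _ this]; group
  have sq : ∀ f ∈ Q ⊓ centralizer (E : Set G), f ∉ E → ∀ f' ∈ Q ⊓ centralizer (E : Set G), f' ∉ E →
      f' * f' = f * f := fun f f1 f2 f' f3 f4 => by
    obtain ⟨g, g1, g2⟩ := H f f1.1 f2 f' f3.1 f4
    have c1 := cc g g1 f f1.2
    have c2 : g * (f * f) * g⁻¹ = f * f := by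
      rcases h.xs.sq f1.1 with e | e <;> rw [e]
      exacts [by simp, by rw [g1.1.eq, mul_inv_cancel_right]]
    rw [← c2, ← conj_mul]
    rcases z g2 (mul_mem (inv_mem c1) f3.2) with e | e
    · rw [inv_mul_eq_one.1 e]
    · rw [inv_mul_eq_iff_eq_mul.1 e, mul_assoc, ← mul_assoc t, c1 t ht, mul_assoc _ t, h.xs.zz, mul_one]
  obtain ⟨a, a1, a2⟩ := h.quad
  choose e e1 e2 using fun i => dec _ (a1 i).1
  obtain ⟨f, hf⟩ : ∃ f : Fin 4 → G, ∀ i, f i = (e i)⁻¹ * a i := ⟨_, fun _ => rfl⟩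
  have f1 : ∀ i, f i ∈ Q ⊓ centralizer (E : Set G) := fun i => hf i ▸ mem_inf.2 ⟨mul_mem (inv_mem (hE (e1 i))) (a1 i).1, e2 i⟩
  have f2 : ∀ i, f i ∉ E := fun i hi => hD _ (a1 i).2 ((mul_mem_cancel_left (inv_mem (e1 i))).1 (hf i ▸ hi))
  have nc : ∀ i, ∃ f' ∈ Q ⊓ centralizer (E : Set G), ¬ Commute (f i) f' := fun i => by
    by_contra! c
    refine f2 i ((h.xs.cent _ (f1 i).1 fun q hq => ?_).elim (fun e => e ▸ one_mem _) fun e => e ▸ ht)
    obtain ⟨u, u1, u2⟩ := dec q hq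
    simpa using (Commute.mul_right (show Commute (f i) u from ((f1 i).2 u u1).symm)
      (c _ (mem_inf.2 ⟨mul_mem (inv_mem (hE u1)) hq, u2⟩))).eq
  have f3 : ∀ i j, i ≠ j → (f i)⁻¹ * f j ∉ E := fun i j hij hi => by
    have k0 : (a i)⁻¹ * a j ∈ E := by
      have := (f1 j).2 _ (mul_mem (inv_mem (e1 i)) (e1 j))
      rw [show (a i)⁻¹ * a j = (f i)⁻¹ * ((e i)⁻¹ * e j * f j) by rw [hf, hf]; group, this, ← mul_assoc]
      exact mul_mem hi (mul_mem (inv_mem (e1 i)) (e1 j))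
    obtain ⟨f', k1, k2⟩ := nc i
    obtain ⟨g, g1, g2⟩ := H (a i) (a1 i).1 (hD _ (a1 i).2) f' k1.1 fun c => k2 ((f1 i).2 _ c).symm
    have k3 : g * a i * g⁻¹ ∈ Q := inv_mem_iff.1 ((mul_mem_cancel_right (H := Q) k1.1).1 (hE g2))
    have k4 := a2 i j hij g (h.uD _ (a1 i).2 (h.le (a1 i).1) g g1.1 (h.le k3)) g1.1 (g1.2 _ k0)
    have ta : Commute t (a i) := (h.xs.cen _ (a1 i).1).symm
    have ea : Commute (e i) (a i) := by
      have := (Commute.refl (e i)).mul_right (show Commute (e i) (f i) from (f1 i).2 _ (e1 i))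
      rwa [hf, mul_inv_cancel_left] at this
    have k5 : g * e i * g⁻¹ ∈ E ∧ Commute (g * e i * g⁻¹) (a i) := by
      rcases g1.2 _ (e1 i) with c | c <;> rw [c]
      exacts [⟨e1 i, ea⟩, ⟨mul_mem (e1 i) ht, ea.mul_left ta⟩]
    have k6 : g * f i * g⁻¹ = (g * e i * g⁻¹)⁻¹ * (g * a i * g⁻¹) := by rw [hf]; group
    have k7 : Commute (g * f i * g⁻¹) (a i) := by rw [k6]; exact k5.2.inv_left.mul_left k4
    have k8 : (g * f i * g⁻¹)⁻¹ * f' ∈ E := by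
      rw [k6, mul_inv_rev, inv_inv, mul_assoc, k1.2 _ k5.1, ← mul_assoc]
      exact mul_mem g2 k5.1
    have k9 : Commute f' (a i) := by
      rcases z k8 (mul_mem (inv_mem (cc g g1 _ (f1 i).2)) k1.2) with c | c
      · rw [← inv_mul_eq_one.1 c]; exact k7
      · rw [inv_mul_eq_iff_eq_mul.1 c]; exact k7.mul_left ta
    refine k2 ?_
    rw [hf]
    exact (show Commute (e i) f' from k1.2 _ (e1 i)).inv_left.mul_left k9.symm
  rcases h.xs.sq (f1 0).1 with s | s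
  · have s1 : ∀ x ∈ Q ⊓ centralizer (E : Set G), x * x = 1 := fun x hx => by
      by_cases c : x ∈ E
      · rcases z c hx.2 with rfl | rfl
        exacts [one_mul _, h.xs.zz]
      · exact (sq _ (f1 0) (f2 0) x hx c).trans s
    refine f2 0 ((h.xs.cent _ (f1 0).1 fun q hq => ?_).elim (fun e => e ▸ one_mem _) fun e => e ▸ ht)
    obtain ⟨u, u1, u2⟩ := dec q hq
    simpa using (Commute.mul_right (show Commute (f 0) u from ((f1 0).2 u u1).symm)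
      (comm_of_sq s1 (f1 0) (mem_inf.2 ⟨mul_mem (inv_mem (hE u1)) hq, u2⟩))).eq
  · have s1 := fun x hx c => (sq _ (f1 0) (f2 0) x hx c).trans s
    have s2 : ∀ i j, i ≠ j → (f i)⁻¹ * f j ≠ f j * (f i)⁻¹ := fun i j hij c => h.xs.ne (by
      rw [← s1 _ (mul_mem (inv_mem (f1 i)) (f1 j)) (f3 i j hij), mul_assoc, ← mul_assoc (f j), ← c, mul_assoc,
        s1 _ (f1 j) (f2 j), ← s1 _ (f1 i) (f2 i)]; group)
    have s3 : ∀ i, 0 ≠ i → 1 ≠ i → (f 0)⁻¹ * f 1 * f i ∈ E := fun i h0 h1 => by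
      by_contra c
      have c1 := h.xs.mul_comm_of_ne_of_ne (inv_mem (f1 0).1) (f1 1).1 (f1 i).1 (s2 0 i h0) fun e =>
        s2 1 i h1 (show Commute _ _ from e).inv_left
      have c2 := s1 _ (mul_mem (mul_mem (inv_mem (f1 0)) (f1 1)) (f1 i)) c
      rw [mul_assoc, ← mul_assoc (f i), ← c1, mul_assoc _ (f i), s1 _ (f1 i) (f2 i), ← mul_assoc,
        s1 _ (mul_mem (inv_mem (f1 0)) (f1 1)) (f3 0 1 (by decide)), h.xs.zz] at c2
      exact h.xs.ne c2.symm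
    exact f3 2 3 (by decide) (by
      simpa [mul_assoc] using mul_mem (inv_mem (s3 2 (by decide) (by decide))) (s3 3 (by decide) (by decide)))

theorem main {x : G} (hx : Commute x t) : x ∈ M := by
  by_contra hM
  obtain ⟨x, ⟨hx, hM⟩, mx⟩ := Set.exists_max_image {x | Commute x t ∧ x ∉ M} (fun x => Nat.card ↥(Q ⊓ cj Q x))
    (Set.toFinite _) ⟨x, hx, hM⟩
  have ht : t ∈ Q ⊓ cj Q x := ⟨h.xs.mem, (xs' h hx).mem⟩
  have hE : ∀ n ∈ Nt t h.xs.zz (Q ⊓ cj Q x : Subgroup G), ∀ e ∈ Q ⊓ cj Q x, n * e * n⁻¹ ∈ Q ⊓ cj Q x :=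
    fun n hn e he => by
      rcases hn.2 e he with c | c <;> rw [c]
      exacts [he, mul_mem he ht]
  have k1 : ∀ u ∈ Q, u ∉ Q ⊓ cj Q x → ∀ g ∈ Nt t h.xs.zz (Q ⊓ cj Q x : Subgroup G), g * u * g⁻¹ ∈ M → g ∈ M :=
    fun u u1 u2 g g1 g2 => by
      by_contra c
      have c1 := eq_of_le_of_card_ge (show Q ⊓ cj Q x ≤ Q ⊓ cj Q g from fun d hd =>
        ⟨hd.1, mem_cj.2 (by simpa using (hE _ (inv_mem g1) d hd).1)⟩) (mx g ⟨g1.1, c⟩)
      have c2 := hE _ (inv_mem g1) _ (c1.ge ⟨lemL h g1.1 (conj_mem_cj g u1) g2, conj_mem_cj g u1⟩)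
      exact u2 (by simpa [mul_assoc] using c2)
  refine caseB h inf_le_left ht (fun a a1 a2 => hM (inv_mem_iff.1 (h.uD a a1 (h.le a2.1) x⁻¹ hx.inv_left
    (by simpa using h.le (mem_cj.1 a2.2))))) fun a a1 a2 b b1 b2 => ?_
  by_contra! c
  have sq : ∀ {a}, a ∈ Q → a * a ∈ Q ⊓ cj Q x := fun ha => zpowers_le.2 ht (h.xs.sq_mem ha)
  have c1 := H60.dihE hE inf_le_left h.le (fun g hg => ⟨h.xs.cen g hg, fun _ hd => h.xs.conj hg hd.1⟩)
    (fun m m1 m2 => h.nm m m1 m2.1) a1 b1 (sq a1) (sq b1) c (k1 a a1 a2) (k1 b b1 b2) fun u u1 _ u2 g g1 g2 =>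
      k1 u u1 u2 g g1 (inv_mem_iff.1 ((mul_mem_cancel_right (h.le u1)).1 (h.le g2.1)))
  obtain ⟨d, d1, -⟩ := h.quad
  exact hM (h.uD _ (d1 0).2 (h.le (d1 0).1) x hx (c1 (cj_le h hx (fun _ h => h.2) (conj_mem_cj x (d1 0).1))))

end

end

theorem hy : HyStmt.{u} := fun _ _ _ _ _ _ _ h _ hx => main h hx

end Cfsg.Agent.H70.B6H
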