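import Cfsg.Agent.H47.B6Defs
import Cfsg.Agent.H47.BuBD
import Cfsg.Agent.H49.YtA2
import Cfsg.Agent.H74.MonInvA

/-! The Baby Monster from the centralizer of a transposition: facts on the Leech lattice modulo
two. -/

set_option autoImplicit false
set_option maxRecDepth 200000

namespace Cfsg.Agent.H70.B6

open Cfsg Subgroup Cfsg.Agent.H48 Cfsg.Agent.H49 Cfsg.Agent.H97.Gr Cfsg.Agent.H97.Yt
  Cfsg.Agent.H47.Bu Cfsg.Agent.H47.B6 Cfsg.Agent.H49.Yt Cfsg.Agent.H48.Rec

/-! ### The set `T4600` -/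

theorem nU : sqNorm vU.1 = 32 := sqNorm_leechU

theorem T_sq {w : Lam} (h : w ∈ T4600) : sqNorm w.1 = 32 := h.1

theorem T_norm {w : Lam} (h : w ∈ T4600) : dotInt w.1 w.1 = 32 := by
  rw [← sqNorm_eq_dot]; exact h.1

theorem T_dot {w : Lam} (h : w ∈ T4600) : dotInt vU.1 w.1 = 16 := h.2

theorem UU : dotInt vU.1 vU.1 = 32 := by rw [← sqNorm_eq_dot]; exact nU

theorem T_sub {w : Lam} (h : w ∈ T4600) : vU - w ∈ T4600 := by
  have h1 := T_norm h
  have h2 := T_dot h
  refine ⟨?_, ?_⟩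
  · show sqNorm (vU.1 - w.1) = 32
    rw [sqNorm_sub, nU, sqNorm_eq_dot, h1, h2]; norm_num
  · show dotInt vU.1 (vU.1 - w.1) = 16
    rw [dotInt_sub_right, UU, h2]; norm_num

theorem dot_le {v w : Lam} (hv : v ∈ T4600) (hw : w ∈ T4600) (h : v ≠ w) :
    dotInt v.1 w.1 ≤ 16 := by
  have := lam_min_norm (sub_ne_zero.2 h)
  rw [AddSubgroup.coe_sub, sqNorm_sub, hv.1, hw.1] at this
  omega

theorem dot_sub {v w : Lam} (hv : v ∈ T4600) :
    dotInt v.1 (vU - w).1 = 16 - dotInt v.1 w.1 := by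
  rw [AddSubgroup.coe_sub, dotInt_sub_right, dotInt_comm, T_dot hv]

theorem dot_range {v w : Lam} (hv : v ∈ T4600) (hw : w ∈ T4600) (h : ¬ cong2 v w) :
    0 ≤ dotInt v.1 w.1 ∧ dotInt v.1 w.1 ≤ 16 := by
  refine ⟨?_, dot_le hv hw fun e => h (e ▸ cong2.refl _)⟩
  have := dot_le hv (T_sub hw) fun e => h (e ▸ (cong2_sub_U w).symm)
  rw [dot_sub hv] at this
  omega

/-- the representative of a pair with a given inner product -/
theorem exists_rep {v w : Lam} (hv : v ∈ T4600) (hw : w ∈ T4600) (h : ¬ cong2 v w)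
    (h16 : 16 ∣ dotInt v.1 w.1) (d : ℤ) (hd : d = 0 ∨ d = 16) :
    ∃ w' ∈ T4600, cong2 w w' ∧ dotInt v.1 w'.1 = d := by
  obtain ⟨a, b⟩ := dot_range hv hw h
  by_cases e : dotInt v.1 w.1 = d
  · exact ⟨w, hw, cong2.refl _, e⟩
  · exact ⟨vU - w, T_sub hw, cong2_sub_U w, by rw [dot_sub hv]; omega⟩

theorem T_pu {w : Lam} (h : w ∈ T4600) : PU w := by
  unfold PU
  rw [dotInt_comm, T_dot h]

theorem gst : GStmt := by
  intro w hT h16 hn hx
  have key : ∀ i, i ≠ 0 → ∃ w' ∈ T4600, cong2 (w i) w' ∧ dotInt (w 0).1 w'.1 = 0 := fun i hi =>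
    exists_rep (hT 0) (hT i) (hn 0 i hi.symm) (h16 0 i) 0 (Or.inl rfl)
  have orth : ∀ i j, i ≠ j → ∀ a ∈ T4600, ∀ b ∈ T4600, cong2 (w i) a → cong2 (w j) b →
      dotInt (w 0).1 a.1 = 0 → dotInt (w 0).1 b.1 = 0 → dotInt a.1 b.1 = 0 := by
    intro i j hij a ha b hb ca cb da db
    have n : ¬ cong2 a b := fun c => hn i j hij ((ca.trans c).trans cb.symm)
    obtain ⟨r1, r2⟩ := dot_range ha hb n
    have m1 := ca.dot_mod (T_pu (hT j))
    have m2 := cb.dot_mod (T_pu ha)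
    have m3 := h16 i j
    rw [dotInt_comm b.1, dotInt_comm (w j).1] at m2
    by_contra h0
    have e : dotInt a.1 b.1 = 16 := by omega
    obtain ⟨x, hxT, cx⟩ := hx i j
    have c1 : cong2 x (w 0 + a - b) :=
      (cx.trans (((cong2.refl _).add ca).add cb)).trans (cong2.of (cong_add_sub _ _))
    have nn : sqNorm (w 0 + a - b).1 = 64 := by
      rw [AddSubgroup.coe_sub, AddSubgroup.coe_add, sqNorm_sub, sqNorm_add, dotInt_add_left,
        (hT 0).1, ha.1, hb.1, da, db, e]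
      norm_num
    rcases c1 with c | c
    · have := c.norm_eq (by rw [hxT.1]; norm_num) nn.le
      rw [nn, hxT.1] at this
      norm_num at this
    · have c' : cong (vU - x) (w 0 + a - b) := by
        refine cong.trans ?_ c
        rw [add_comm x]
        exact (cong_add_sub _ _).symm
      have := c'.norm_eq (by rw [(T_sub hxT).1]; norm_num) nn.le
      rw [nn, (T_sub hxT).1] at this
      norm_num at this
  obtain ⟨a, ha, ca, da⟩ := key 1 (by decide)
  obtain ⟨b, hb, cb, db⟩ := key 2 (by decide)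
  obtain ⟨c, hc, cc, dc⟩ := key 3 (by decide)
  have ab := orth 1 2 (by decide) a ha b hb ca cb da db
  have ac := orth 1 3 (by decide) a ha c hc ca cc da dc
  have bc := orth 2 3 (by decide) b hb c hc cb cc db dc
  have e : w 0 + a + b + c - (vU + vU) = 0 := by
    apply Subtype.ext
    apply eq_zero_of_sqNorm
    simp only [AddSubgroup.coe_sub, AddSubgroup.coe_add, sqNorm_sub, sqNorm_add, dotInt_add_left,
      dotInt_add_right, dotInt_comm _ vU.1, T_sq (hT 0), T_sq ha, T_sq hb, T_sq hc, nU, UU, da, db,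
      dc, ab, ac, bc, T_dot (hT 0), T_dot ha, T_dot hb, T_dot hc]
    norm_num
  refine cong2.trans (cong2.of ?_) ((((cong2.refl (w 0)).add ca).add cb).add cc).symm
  rw [sub_eq_zero.1 e]
  exact (cong_add_self _).symm

theorem tt : TTStmt := by
  intro w hw w' hw' v hv v' hv' h16 hn hc
  obtain ⟨a, ha, ca, da⟩ := exists_rep hw hw' hn h16 16 (Or.inr rfl)
  have ny : sqNorm (w - a).1 = 32 := by
    rw [AddSubgroup.coe_sub, sqNorm_sub, hw.1, ha.1, da]; norm_num
  have uy : dotInt vU.1 (w - a).1 = 0 := by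
    rw [AddSubgroup.coe_sub, dotInt_sub_right, T_dot hw, T_dot ha]; norm_num
  have wy : dotInt w.1 (w - a).1 = 16 := by
    rw [AddSubgroup.coe_sub, dotInt_sub_right, T_norm hw, da]; norm_num
  have c1 : cong2 (w - a) (v + v') :=
    ((cong2.of (cong_add_sub _ _)).symm.trans ((cong2.refl w).add ca.symm)).trans hc
  generalize w - a = y at ny uy wy c1
  obtain ⟨b, hb, cb⟩ : ∃ b ∈ T4600, cong y (v - b) := by
    rcases c1 with c | c
    · exact ⟨v', hv', c.trans (cong_add_sub _ _)⟩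
    · refine ⟨vU - v', T_sub hv', ?_⟩
      have := (cong_UU y).symm.trans (c.add (cong_neg vU))
      rwa [show v + v' + -vU = v - (vU - v') by abel] at this
  have vy : dotInt v.1 y.1 = 16 ∨ dotInt v.1 y.1 = -16 := by
    have nb : sqNorm (v - b).1 = 64 - 2 * dotInt v.1 b.1 := by
      rw [AddSubgroup.coe_sub, sqNorm_sub, hv.1, hb.1]; norm_num
    have vb : dotInt v.1 (v - b).1 = 32 - dotInt v.1 b.1 := by
      rw [AddSubgroup.coe_sub, dotInt_sub_right, T_norm hv]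
    rcases cb.cases with e | e | e
    · rw [e] at nb vb
      omega
    · rw [e, AddSubgroup.coe_neg] at nb vb
      rw [sqNorm_neg] at nb
      rw [dotInt_neg_right] at vb
      omega
    · exfalso
      have e' : v = vU - b := by
        by_contra h
        have := dot_le hv (T_sub hb) h
        rw [dot_sub hv] at this
        omega
      have c2 : cong y vU := by
        refine cb.trans ?_
        rw [e', show vU - b - b = vU + (-b + -b) by abel]
        exact cong.symm ⟨_, rfl⟩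
      rcases c2.cases with f | f | f
      · rw [← f, UU] at uy; norm_num at uy
      · rw [show y = -vU by rw [f, neg_neg], AddSubgroup.coe_neg, dotInt_neg_right, UU] at uy
        norm_num at uy
      · rw [ny, nU] at f; norm_num at f
  have fin : ∀ u ∈ T4600, dotInt u.1 y.1 = 16 → dotInt w.1 u.1 ≠ 8 := by
    intro u hu h1 h2
    have nn : sqNorm (w + u - vU - y).1 = 16 := by
      simp only [AddSubgroup.coe_sub, AddSubgroup.coe_add, sqNorm_sub, sqNorm_add, dotInt_add_left,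
        dotInt_sub_left, dotInt_add_right, dotInt_comm _ vU.1, T_sq hw, T_sq hu, nU, ny, h1, h2, wy,
        uy, T_dot hw, T_dot hu]
      norm_num
    have := lam_min_norm (v := w + u - vU - y) fun e => by
      rw [e] at nn; simp [sqNorm] at nn
    omega
  by_contra h
  have n2 : ¬ cong2 w v := fun c => h (by
    have := c.dot_mod (T_pu hw)
    rw [T_norm hw, dotInt_comm] at this
    omega)
  obtain ⟨r1, r2⟩ := dot_range hw hv n2
  have r3 := eight_dvd_dot w.2 v.2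
  rcases vy with e | e
  · exact fin v hv e (by omega)
  · refine fin (vU - v) (T_sub hv) ?_ (by rw [dot_sub hw]; omega)
    rw [AddSubgroup.coe_sub, dotInt_sub_left, uy, e]; norm_num

/-! ### Fixed classes of involutions -/

theorem mem_Fx_conj {h k : Co0} {v : Lam} : k • v ∈ Fx (k * h * k⁻¹) ↔ v ∈ Fx h := by
  rw [mem_Fx, mem_Fx, mul_smul, mul_smul, inv_smul_smul, cong_smul_iff]

theorem Fx_neg (h : Co0) : Fx (h * negEl) = Fx h := by
  ext v
  rw [mem_Fx, mem_Fx, mul_smul, negEl_smul, co_neg]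
  exact ⟨fun c => c.trans (cong_neg _).symm, fun c => c.trans (cong_neg _)⟩

/-- properties of the fixed classes that pass to conjugates in `Co1` -/
theorem of_isConj {P : Co0 → Prop} (h1 : ∀ h k, P h → P (k * h * k⁻¹))
    (h2 : ∀ h, P h → P (h * negEl)) {x g : Co0} (hx : P x) (c : IsConj (mk1 x) (mk1 g)) : P g := by
  obtain ⟨k, hk⟩ := isConj_iff.1 c
  obtain ⟨k, rfl⟩ := mk1_surj k
  rw [← map_inv, ← map_mul, ← map_mul] at hk
  rcases mk1_eq.1 hk.symm with e | e
  · exact e ▸ h1 _ _ hx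
  · exact e ▸ h2 _ (h1 _ _ hx)

/-- there are `128` classes modulo the fixed classes -/
def Big (g : Co0) : Prop := ∃ f : Fin 128 → Lam, ∀ i j, f i + f j ∈ Fx g → i = j

theorem big_of {g : Co0} {R : List (List ℤ)} (hR : IsMat g R) {T : ℕ} (hT : colsB R T = true)
    (hc : H42.allB (fun m => Nat.beq m 0 || !Nat.beq (H74.Mon.nN T m) 0) 128 = true) : Big g := by
  refine ⟨fun i => sumB bas i 24, fun i j h => ?_⟩
  have hi : (i : ℕ) < 2 ^ 7 := i.2
  have hj : (j : ℕ) < 2 ^ 7 := j.2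
  have h1 := cong_iff_kap.1 (mem_Fx.1 h)
  rw [hR.kap_smul hT, kap_add, H74.Mon.kap_sumB_bas (by omega),
    H74.Mon.kap_sumB_bas (by omega)] at h1
  have h2 := H42.of_allB hc (Nat.xor_lt_two_pow hi hj)
  have h3 : H74.Mon.nN T (i ^^^ j) = 0 := by
    rw [H74.Mon.nN, code, ← h1, Nat.xor_self]
  rw [h3] at h2
  have h4 : (i : ℕ) ^^^ j = 0 := by simpa using h2
  exact Fin.ext (Nat.xor_eq_zero_iff.1 h4)

theorem big {g : Co0} (hg : g * g = 1) (hc : g ∉ center Co0) : Big g := by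
  have h1 : ∀ h k : Co0, Big h → Big (k * h * k⁻¹) := fun h k ⟨f, hf⟩ =>
    ⟨fun i => k • f i, fun i j e => hf i j (by rwa [← co_add, mem_Fx_conj] at e)⟩
  have h2 : ∀ h : Co0, Big h → Big (h * negEl) := fun h ⟨f, hf⟩ =>
    ⟨f, fun i j e => hf i j (by rwa [Fx_neg] at e)⟩
  rcases H10.CoI.cases_of_sq hg with e | e | e
  · exact absurd (mem_center_Co0.2 (mk1_eq_one.1 e)) hc
  · exact of_isConj h1 h2 (big_of H74.Mon.mat_zt H74.Mon.cols_zt (by decide +kernel)) e
  · exact of_isConj h1 h2 (big_of H74.Mon.mat_ut H74.Mon.cols_ut (by decide +kernel)) e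

theorem index_twoLam_ne : twoLam.index ≠ 0 := by rw [index_twoLam]; norm_num

theorem Big.index {g : Co0} (h : Big g) : 128 ≤ (Fx g).index := by
  obtain ⟨f, hf⟩ := h
  have h0 : (Fx g).index ≠ 0 := fun e =>
    index_twoLam_ne (Nat.eq_zero_of_zero_dvd (e ▸ AddSubgroup.index_dvd_of_le (twoLam_le_Fx g)))
  have : Finite (Lam ⧸ Fx g) := Nat.finite_of_card_ne_zero h0
  have := Nat.card_le_card_of_injective (fun i => (QuotientAddGroup.mk (f i) : Lam ⧸ Fx g))
    fun i j e => hf i j (by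
      have e' := QuotientAddGroup.eq.1 e
      exact Fx_of_cong e' ((cong_neg _).symm.add (cong.refl _)))
  rwa [Nat.card_fin] at this

/-- the classes whose commutator with `g` is trivial modulo `vU` -/
def Ex (g : Co0) : AddSubgroup Lam where
  carrier := {v | cong2 0 (v + g • v)}
  zero_mem' := by show cong2 0 (0 + g • 0); rw [co_zero, add_zero]; exact cong2.refl 0
  add_mem' := fun {a b} ha hb => by
    show cong2 0 (a + b + g • (a + b))
    have := cong2.add ha hb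
    rwa [add_zero, show a + g • a + (b + g • b) = a + b + g • (a + b) by rw [co_add]; abel] at this
  neg_mem' := fun {a} ha => by
    show cong2 0 (-a + g • (-a))
    rw [co_neg, ← neg_add]
    exact cong2.trans ha (cong2.of (cong_neg _))

theorem Fx_le_Ex (g : Co0) : Fx g ≤ Ex g := fun _ h => cong2.of (cong_iff_add.1 h)

theorem relIndex_Ex (g : Co0) : (Fx g).relIndex (Ex g) ≤ 2 := by
  by_cases h : ∃ a ∈ Ex g, a ∉ Fx g
  · obtain ⟨a, ha, hn⟩ := h
    refine relIndex_le_two _ _ ha fun b hb => ?_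
    have ca : cong (0 + vU) (a + g • a) := ha.resolve_left fun c => hn (cong_iff_add.2 c)
    rcases hb with c | c
    · exact Or.inl (cong_iff_add.2 c)
    · refine Or.inr (cong_iff_add.2 ?_)
      have := ca.add c
      rw [zero_add, show a + g • a + (b + g • b) = a + b + g • (a + b) by
        rw [co_add]; abel] at this
      exact (cong_add_self _).symm.trans this
  · push Not at h
    rw [AddSubgroup.relIndex_eq_one.2 h]
    norm_num

theorem exists_three {A : Type*} [AddCommGroup A] (E B : AddSubgroup A) (h2 : ∀ v, v + v ∈ E)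
    (h : 4 < E.relIndex B) : ∃ a ∈ B, ∃ b ∈ B, ∃ c ∈ B,
      ∀ v ∈ [a, b, c, a + b, a + c, b + c, a + b + c], v ∉ E := by
  classical
  have : Finite (B ⧸ E.addSubgroupOf B) := Nat.finite_of_card_ne_zero (by
    show E.relIndex B ≠ 0; omega)
  have := Fintype.ofFinite (B ⧸ E.addSubgroupOf B)
  have pick : ∀ s : Finset (B ⧸ E.addSubgroupOf B), s.card ≤ 4 → ∃ x : B,
      (QuotientAddGroup.mk x : B ⧸ E.addSubgroupOf B) ∉ s := fun s hs => by
    obtain ⟨q, -, hq⟩ := Finset.exists_mem_notMem_of_card_lt_card (s := s) (t := Finset.univ) (by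
      rw [Finset.card_univ, ← Nat.card_eq_fintype_card]
      exact lt_of_le_of_lt hs h)
    obtain ⟨x, rfl⟩ := QuotientAddGroup.mk_surjective q
    exact ⟨x, hq⟩
  have eqv : ∀ x y : B, x.1 + y.1 ∈ E → (QuotientAddGroup.mk y : B ⧸ E.addSubgroupOf B) =
      QuotientAddGroup.mk x := fun x y e => by
    refine QuotientAddGroup.eq.2 ?_
    show -y.1 + x.1 ∈ E
    have := sub_mem e (h2 y.1)
    rwa [show x.1 + y.1 - (y.1 + y.1) = -y.1 + x.1 by abel] at this
  obtain ⟨a, ha⟩ := pick {QuotientAddGroup.mk 0} (by simp)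
  obtain ⟨b, hb⟩ := pick {QuotientAddGroup.mk 0, QuotientAddGroup.mk a}
    (Finset.card_le_two.trans (by norm_num))
  obtain ⟨c, hc⟩ := pick {QuotientAddGroup.mk 0, QuotientAddGroup.mk a, QuotientAddGroup.mk b,
    QuotientAddGroup.mk (a + b)} Finset.card_le_four
  simp only [Finset.mem_insert, Finset.mem_singleton, not_or] at ha hb hc
  refine ⟨a, a.2, b, b.2, c, c.2, fun v hv e => ?_⟩
  simp only [List.mem_cons, List.not_mem_nil, or_false] at hv
  rcases hv with rfl | rfl | rfl | rfl | rfl | rfl | rfl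
  · exact ha (eqv 0 a (by simpa using e))
  · exact hb.1 (eqv 0 b (by simpa using e))
  · exact hc.1 (eqv 0 c (by simpa using e))
  · exact hb.2 (eqv a b e)
  · exact hc.2.1 (eqv a c e)
  · exact hc.2.2.1 (eqv b c e)
  · exact hc.2.2.2 (eqv (a + b) c e)

theorem l3 : L3Stmt := by
  intro g hg hc B h0 h8
  refine exists_three (Ex g) B (fun v => Fx_le_Ex g (twoLam_le_Fx g
    (mem_twoLam'.2 (cong_add_self v).symm))) ?_
  have h1 := (big hg hc).index
  have h2 := relIndex_Ex g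
  have h3 := AddSubgroup.relIndex_mul_index (Fx_le_Ex g)
  have h4 := AddSubgroup.relIndex_mul_index (inf_le_right : Ex g ⊓ B ≤ B)
  rw [AddSubgroup.inf_relIndex_right] at h4
  have h5 : (Ex g).index ≠ 0 := fun e => by rw [e] at h3; omega
  have h6 : (Ex g).relIndex B ≠ 0 := fun e => h5 (AddSubgroup.index_eq_zero_of_relIndex_eq_zero e)
  have h7 : (Ex g).index ≤ (Ex g ⊓ B).index :=
    Nat.le_of_dvd (by rw [← h4]; positivity) (AddSubgroup.index_dvd_of_le inf_le_left)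
  by_contra h
  have h9 : (Ex g).relIndex B * B.index ≤ 4 * 8 := Nat.mul_le_mul (by omega) h8
  have h10 : (Fx g).relIndex (Ex g) * (Ex g).index ≤ 2 * 32 := Nat.mul_le_mul h2 (by omega)
  omega

/-! ### Squares -/

theorem odd_pair : ∃ a ∈ Fx zt, ∃ b ∈ Fx zt, ¬ 32 ∣ sqNorm a.1 ∧ ¬ 32 ∣ sqNorm b.1 ∧
    ¬ 32 ∣ sqNorm (a + b).1 := by
  have h1 : sqNorm (H74.Mon.rp 17).1 = 80 := by
    rw [sqNorm_eq_dot, H74.Mon.dot_rp (by norm_num) (by norm_num)]; decide +kernel
  have h2 : sqNorm (H74.Mon.rp 35).1 = 144 := by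
    rw [sqNorm_eq_dot, H74.Mon.dot_rp (by norm_num) (by norm_num)]; decide +kernel
  have h3 : dotInt (H74.Mon.rp 17).1 (H74.Mon.rp 35).1 = 88 := by
    rw [H74.Mon.dot_rp (by norm_num) (by norm_num)]; decide +kernel
  refine ⟨H74.Mon.rp 17, (H74.Mon.rep_spec (by norm_num)).2.2, H74.Mon.rp 35,
    (H74.Mon.rep_spec (by norm_num)).2.2, by rw [h1]; norm_num, by rw [h2]; norm_num, ?_⟩
  rw [AddSubgroup.coe_add, sqNorm_add, h1, h2, h3]
  norm_num

theorem Oc.odd {h : Co0} (o : Oc h) : ∃ a ∈ Fx h, ¬ 32 ∣ sqNorm a.1 := by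
  have h1 : ∀ h k : Co0, (∃ a ∈ Fx h, ¬ 32 ∣ sqNorm a.1) →
      ∃ a ∈ Fx (k * h * k⁻¹), ¬ 32 ∣ sqNorm a.1 := fun h k ⟨a, ha, hn⟩ =>
    ⟨k • a, mem_Fx_conj.2 ha, by rwa [co_sqNorm]⟩
  obtain ⟨g, c, hc, h8, e⟩ := o
  obtain ⟨a, ha, -, -, hn, -⟩ := odd_pair
  have := h1 _ g⁻¹ (of_isConj h1 (fun h x => by rwa [Fx_neg]) ⟨a, ha, hn⟩
    ((H10.CoI.conj_z0_iff hc).2 (Or.inl h8)))
  rwa [← e, show g⁻¹ * (g * h * g⁻¹) * g⁻¹⁻¹ = h by group] at this

theorem qq_sq {v : Lam} (h : ¬ 32 ∣ sqNorm v.1) : qq v 1 * qq v 1 = zA := by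
  obtain ⟨Q, θ, R, md, hR⟩ := real_md
  have h1 : qq v 1 * qq v 1 ≠ 1 := fun e => h ((md.sq_iff (hR v)).1 e)
  rw [qq_mul] at h1 ⊢
  generalize 1 + 1 + 1 + be v v = δ at h1 ⊢
  rw [(qq_eq_iff (ε := δ) (δ := δ)).2 ⟨cong_add_self v, rfl⟩] at h1 ⊢
  rcases (by decide : ∀ a : ZMod 2, a = 0 ∨ a = 1) δ with rfl | rfl
  · exact qq_zero_zero
  · exact absurd qq_zero_one h1

theorem sq_zA {s : M} (hs : s ∈ DD) (c : s * zA = zA * s) : ∃ n : M, n * s = s * n ∧ n * n = zA := by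
  by_cases hQ : s ∈ B6b.QQ
  · obtain ⟨r, ε, rfl⟩ := B6b.mem_QQ.1 hQ
    obtain ⟨a, -, b, -, h1, h2, h3⟩ := odd_pair
    have fin : ∀ v : Lam, ¬ 32 ∣ sqNorm v.1 → 16 ∣ dotInt v.1 r.1 →
        ∃ n : M, n * qq r ε = qq r ε * n ∧ n * n = zA := fun v hv hd =>
      ⟨qq v 1, qq_comm_iff.2 (ipL_eq_zero_iff.2 hd), qq_sq hv⟩
    by_cases ha : 16 ∣ dotInt a.1 r.1
    · exact fin a h1 ha
    by_cases hb : 16 ∣ dotInt b.1 r.1
    · exact fin b h2 hb
    refine fin (a + b) h3 ?_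
    have := eight_dvd_dot a.2 r.2
    have := eight_dvd_dot b.2 r.2
    rw [AddSubgroup.coe_add, dotInt_add_left]
    omega
  · obtain ⟨g, o, ov⟩ := exists_oc hs c hQ
    obtain ⟨a, ha, hn⟩ := Oc.odd o
    refine ⟨qq a 1, ov.comm hs (fun hm => ?_) ha 1, qq_sq hn⟩
    obtain ⟨r, -, ε, e⟩ := locL hs hm
    exact hQ (e ▸ B6b.qq_mem r ε)

theorem sq : SqStmt := by
  intro s hs w hw c
  obtain ⟨g, hg⟩ := B6b.exists_z hw
  obtain ⟨n, h1, h2⟩ := sq_zA (mrep.conj g s hs) (by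
    rw [← hg]; exact ((show Commute w s from c).map (MulAut.conj g)).symm)
  refine ⟨g⁻¹ * n * g, ?_, ?_⟩
  · calc g⁻¹ * n * g * s = g⁻¹ * (n * (g * s * g⁻¹)) * g := by group
      _ = s * (g⁻¹ * n * g) := by rw [h1]; group
  · calc g⁻¹ * n * g * (g⁻¹ * n * g) = g⁻¹ * (n * n) * g := by group
      _ = w := by rw [h2, ← hg]; group

end Cfsg.Agent.H70.B6
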