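import Cfsg.Agent.H48.BeDefs

/-! Images of the centralizer of the standard pure four-group: existence and automorphisms. -/

set_option autoImplicit false

namespace Cfsg.Agent.H70.Be

open Cfsg Subgroup Cfsg.Agent.H48 Cfsg.Agent.H49 Cfsg.Agent.H48.Mid Cfsg.Agent.H34.MidA
  Cfsg.Agent.H47.Bu Cfsg.Agent.H47.B6 Cfsg.Agent.H48.Be Cfsg.Agent.H80 Cfsg.Agent.H97.Gr
  Cfsg.Agent.H97.Yt

universe u

section generic

variable {A G : Type*} [Group A] [Group G]

theorem hom_eq_mod (hp : commutator A = ⊤) {f g : A →* G} {S : Subgroup G} (hf : ∀ a, f a ∈ S)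
    (hg : ∀ a, g a ∈ S) (h : ∀ a, (f a)⁻¹ * g a ∈ centralizer (S : Set G)) (a : A) : g a = f a := by
  refine (hp.ge.trans (commutator_le.2 fun a _ b _ => ?_) : ⊤ ≤ g.eqLocus f) (mem_top a)
  have d1 := h a _ (hg b)
  have d2 := h b _ (inv_mem (hf a))
  change g (a * b * a⁻¹ * b⁻¹) = f (a * b * a⁻¹ * b⁻¹)
  simp only [map_mul, map_inv]
  calc _ = f a * ((f a)⁻¹ * g a * g b) * (g a)⁻¹ * (g b)⁻¹ := by group
    _ = f a * f b * ((f b)⁻¹ * g b * (f a)⁻¹) * (g b)⁻¹ := by rw [← d1]; group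
    _ = _ := by rw [← d2]; group

theorem cent_of_mod {L : Subgroup A} (hp : commutator L = ⊤) {n : A}
    (hn : n ∈ normalizer (L : Set A))
    (h : ∀ l ∈ L, l⁻¹ * (n * l * n⁻¹) ∈ centralizer (L : Set A)) {l : A} (hl : l ∈ L) :
    n * l = l * n :=
  mul_inv_eq_iff_eq_mul.1 (hom_eq_mod hp (f := L.subtype) (S := L)
    (g := L.subtype.comp (L.normalizerMonoidHom ⟨n, hn⟩).toMonoidHom) (fun a => a.2)
    (fun a => (L.normalizerMonoidHom ⟨n, hn⟩ a).2) (fun a => h a a.2) ⟨l, hl⟩)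

/-- the pairs `(c, n)` such that `c` acts on the image of `α` like `n` -/
def Like {L W : Subgroup A} (hW : W ≤ normalizer (L : Set A)) (α : L →* G) : Subgroup (G × A) where
  carrier := {p | p.2 ∈ W ∧ ∀ l l' : L, l'.1 = p.2 * l * p.2⁻¹ → α l' = p.1 * α l * p.1⁻¹}
  one_mem' := ⟨one_mem _, fun l l' e => by rw [show l' = l from Subtype.ext (by simpa using e)]; simp⟩
  mul_mem' := fun {p q} hp hq => ⟨mul_mem hp.1 hq.1, fun l l' e => by
    have m := (mem_normalizer_iff.1 (hW hq.1) l).1 l.2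
    rw [hp.2 ⟨_, m⟩ l' (by rw [e, Prod.snd_mul]; group), hq.2 l ⟨_, m⟩ rfl, Prod.fst_mul]; group⟩
  inv_mem' := fun {p} hp => ⟨inv_mem hp.1, fun l l' e => by
    rw [hp.2 l' l (by rw [e, Prod.snd_inv]; group), Prod.fst_inv]; group⟩

variable {L W : Subgroup A} {hW : W ≤ normalizer (L : Set A)} {α : L →* G}

theorem Like.mem {c : G} {n : A} (h : (c, n) ∈ Like hW α) (l : L) : n * l * n⁻¹ ∈ L :=
  (mem_normalizer_iff.1 (hW h.1) l).1 l.2

theorem Like.eq {c : G} {n : A} (h : (c, n) ∈ Like hW α) (l : L) :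
    α ⟨_, Like.mem h l⟩ = c * α l * c⁻¹ := h.2 l _ rfl

theorem Like.self (hL : L ≤ W) (l : L) : (α l, l.1) ∈ Like hW α :=
  ⟨hL l.2, fun m m' e => by
    rw [show m' = l * m * l⁻¹ from Subtype.ext e, map_mul, map_mul, map_inv]⟩

theorem Like.of_cent {c : G} (hc : c ∈ centralizer (α.range : Set G)) : (c, (1 : A)) ∈ Like hW α :=
  ⟨one_mem _, fun l l' e => by
    rw [show l' = l from Subtype.ext (by simpa using e), ← hc _ ⟨l, rfl⟩, mul_inv_cancel_right]⟩

theorem Like.cent (hL : L ≤ W) {c : G} {l : L} (h : (c, l.1) ∈ Like hW α) :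
    (α l)⁻¹ * c ∈ centralizer (α.range : Set G) := by
  rintro _ ⟨m, rfl⟩
  have := (mul_mem (inv_mem (Like.self hL l)) h).2 m m (by simp)
  exact eq_mul_inv_iff_mul_eq.1 this

end generic

section md

variable {A : Type} [Group A] [Finite A] {s y : A}

theorem norm_le (s y : A) : normalizer (closure ({s, y} : Set A) : Set A) ≤
    normalizer (centralizer ({s, y} : Set A) : Set A) :=
  centralizer_closure ({s, y} : Set A) ▸ norm_le_norm_cent _

omit [Finite A] in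
theorem L_le (s y : A) :
    centralizer ({s, y} : Set A) ≤ normalizer (closure ({s, y} : Set A) : Set A) :=
  centralizer_closure ({s, y} : Set A) ▸ centralizer_le_normalizer _

omit [Finite A] in
theorem V_cent {v : A} (hv : v ∈ closure ({s, y} : Set A)) :
    v ∈ centralizer (centralizer ({s, y} : Set A) : Set A) := fun l hl => by
  rw [← centralizer_closure] at hl
  exact (hl v hv).symm

omit [Finite A] in
theorem ker_V {v : A} (hv : v = 1 ∨ v = s) : v ∈ closure ({s, y} : Set A) := by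
  rcases hv with rfl | rfl
  exacts [one_mem _, subset_closure (by simp)]

omit [Finite A] in
theorem vec_of (f4 : Four s y) {v : A} (hv : v ∈ closure ({s, y} : Set A)) (h1 : v ≠ 1) :
    ∃ i, v = ![s, y, s * y] i := by
  rcases (f4.mem_closure.1 hv).resolve_left h1 with e | e | e
  exacts [⟨0, e⟩, ⟨1, e⟩, ⟨2, e⟩]

variable {Q : Subgroup A} {z : A} {θ : centralizer ({z} : Set A) →* Spor.Co1} {R : Lam → A → Prop}
  (hM : MD Q z θ R) (fl : Fl R s y)
include hM fl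

theorem perf_L : commutator (centralizer ({s, y} : Set A)) = ⊤ ∧
    ∀ l : centralizer ({s, y} : Set A), l ∈ center _ → l.1 ∈ closure ({s, y} : Set A) := by
  let _ : Fintype (GaloisField 2 2) := Fintype.ofFinite _
  obtain ⟨σ, -, s2, s3, s4⟩ := exists_proj hM fl (GaloisField 2 2) (by
    rw [← Nat.card_eq_fintype_card, GaloisField.card 2 2 two_ne_zero]; rfl)
  exact ⟨s4, fun l hl => (s3.trans s2).le hl⟩

theorem aut_norm (e : centralizer ({s, y} : Set A) ≃* centralizer ({s, y} : Set A)) :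
    ∃ n ∈ normalizer (closure ({s, y} : Set A) : Set A), ∀ l, (e l).1 = n * l * n⁻¹ := by
  have f4 := fl_four hM fl
  have k : ∀ v (hv : v ∈ closure ({s, y} : Set A)), v ≠ 1 →
      ∃ i, (e ⟨v, le_cent hM fl hv⟩).1 = ![s, y, s * y] i := fun v hv h1 =>
    vec_of f4 ((perf_L hM fl).2 _ (mem_center_iff.2 fun g => by
      obtain ⟨g, rfl⟩ := e.surjective g
      rw [← map_mul, ← map_mul]
      exact congrArg e (Subtype.ext (V_cent hv g g.2)))) fun c =>
      h1 (congrArg Subtype.val (e.map_eq_one_iff.1 (Subtype.ext c)))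
  obtain ⟨i, hi⟩ := k s (subset_closure (by simp)) f4.z1
  obtain ⟨j, hj⟩ := k y (subset_closure (by simp)) f4.x1
  obtain ⟨n, hn, n1, n2⟩ := exists_norm hM fl (i := i) (j := j) (by
    rintro rfl
    exact f4.ne (congrArg Subtype.val (e.injective (Subtype.ext (hj.trans hi.symm)))))
  let δ := (centralizer ({s, y} : Set A)).normalizerMonoidHom ⟨n, norm_le s y hn⟩
  have d : ∀ a, (δ a).1 = n * a * n⁻¹ := fun _ => rfl
  obtain ⟨l, hl⟩ := aut A Q z θ R hM s y fl (e.trans δ.symm) (by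
    rintro c (a | a) <;> rw [MulEquiv.trans_apply, MulEquiv.symm_apply_eq]
    · rw [show c = ⟨s, mem_c2.2 ⟨rfl, f4.comm⟩⟩ from Subtype.ext a]
      exact Subtype.ext (hi.trans n1.symm)
    · rw [show c = ⟨y, mem_c2.2 ⟨f4.comm.symm, rfl⟩⟩ from Subtype.ext a]
      exact Subtype.ext (hj.trans n2.symm))
  refine ⟨n * l, mul_mem hn (L_le s y l.2), fun a => ?_⟩
  have := hl a
  rw [MulEquiv.trans_apply, MulEquiv.symm_apply_eq] at this
  rw [this, d]; simp only [coe_mul, coe_inv]; group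

variable {G : Type u} [Group G] {α : centralizer ({s, y} : Set A) →* G}
  (hα : ∀ l, α l = 1 → l.1 = 1 ∨ l.1 = s)
include hα

omit hM fl [Finite A] in
theorem V_of_eq {a b : centralizer ({s, y} : Set A)} (e : α a = α b) :
    a.1⁻¹ * b ∈ closure ({s, y} : Set A) :=
  ker_V (hα (a⁻¹ * b) (by rw [map_mul, map_inv, e, inv_mul_cancel]))

theorem Like.comm {c : G} {n : A} (h : (c, n) ∈ Like (norm_le s y) α)
    (hc : c ∈ centralizer (α.range : Set G)) {l : A} (hl : l ∈ centralizer ({s, y} : Set A)) :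
    n * l = l * n :=
  cent_of_mod (perf_L hM fl).1 (norm_le s y h.1) (fun l hl => V_cent (V_of_eq hα
    (a := ⟨l, hl⟩) (b := ⟨_, Like.mem h ⟨l, hl⟩⟩) (by
      rw [Like.eq h, ← hc _ ⟨_, rfl⟩, mul_inv_cancel_right]))) hl

theorem mem_K {l : centralizer ({s, y} : Set A)} :
    α l ∈ centralizer (α.range : Set G) ↔ l.1 ∈ closure ({s, y} : Set A) :=
  ⟨fun h => (perf_L hM fl).2 l (mem_center_iff.2 fun g => Subtype.ext
    (Like.comm hM fl hα (Like.self (L_le s y) l) h g.2).symm), fun h => by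
    rintro _ ⟨m, rfl⟩
    rw [← map_mul, ← map_mul]
    exact congrArg α (Subtype.ext (V_cent h m m.2))⟩

theorem exists_like {c : G} (hc : c ∈ normalizer (α.range : Set G)) :
    ∃ n, (c, n) ∈ Like (norm_le s y) α := by
  have f4 := fl_four hM fl
  let _ : Fintype (GaloisField 2 2) := Fintype.ofFinite _
  have hF : Fintype.card (GaloisField 2 2) = 4 := by
    rw [← Nat.card_eq_fintype_card, GaloisField.card 2 2 two_ne_zero]; rfl
  obtain ⟨σ, s1, s2, s3, s4⟩ := exists_proj hM fl _ hF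
  have : Group.IsPerfect (centralizer ({s, y} : Set A)) := ⟨s4⟩
  have k1 : ∀ a, σ a = 1 ↔ a.1 ∈ closure ({s, y} : Set A) := fun a => by
    rw [← mem_subgroupOf, ← s2, MonoidHom.mem_ker]
  choose f f2 using fun a : centralizer ({s, y} : Set A) =>
    (mem_normalizer_iff.1 hc (α a)).1 ⟨a, rfl⟩
  have k2 : ∀ a b : centralizer ({s, y} : Set A), α a = α b → σ a = σ b := fun a b e => by
    rw [← inv_mul_eq_one, ← map_inv, ← map_mul, k1]
    exact V_of_eq hα e
  let σ' : centralizer ({s, y} : Set A) →* Lie.twistedE6 (GaloisField 2 2) 2 :=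
    MonoidHom.mk' (fun a => σ (f a)) fun a b => by
      rw [← map_mul]
      exact k2 _ _ (by rw [f2, map_mul, map_mul, f2, f2, conj_mul])
  have hK : c ∈ normalizer (centralizer (α.range : Set G) : Set G) := mem_normalizer_iff.2 fun k =>
    ⟨fun hk g hg => by
      have := hk _ ((mem_normalizer_iff''.1 hc g).1 hg)
      calc _ = c * (c⁻¹ * g * c * k) * c⁻¹ := by group
        _ = _ := by rw [this]; group,
    fun hk g hg => by
      have := hk _ ((mem_normalizer_iff.1 hc g).1 hg)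
      rwa [conj_mul, conj_mul, mul_left_inj, mul_right_inj] at this⟩
  have k3 : σ'.ker = σ.ker := by
    ext a
    change σ _ = 1 ↔ σ _ = 1
    rw [k1, k1, ← mem_K hM fl hα, ← mem_K hM fl hα, f2]
    exact (mem_normalizer_iff.1 hK _).symm
  have k4 : ∀ a, σ a = 1 → a * a = 1 := fun a ha => Subtype.ext (by
    rcases f4.mem_closure.1 ((k1 a).1 ha) with e | e | e | e <;> rw [coe_mul, e]
    exacts [mul_one _, f4.zz, f4.xx, f4.zxzx])
  obtain ⟨γ, a1, a2⟩ := exists_over (σ := σ') (ξ := σ) (S2109.result hF) ⟨fun x => by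
      obtain ⟨a, rfl⟩ := s1 x
      obtain ⟨b, e⟩ := (mem_normalizer_iff''.1 hc (α a)).1 ⟨a, rfl⟩
      exact ⟨b, k2 _ _ (by rw [f2, e]; group)⟩, k3 ▸ s3.ge⟩ ⟨s1, s3.ge⟩
    (fun a ha => k4 a (k3.le ha)) k4
    (by rw [k3, s2, Nat.card_congr (subgroupOfEquivOfLe (le_cent hM fl)).toEquiv, f4.card_closure])
  have a3 : ∀ a, c * α a * c⁻¹ = α (γ a) :=
    hom_eq_mod s4 (f := α.comp γ) (g := (MulAut.conj c).toMonoidHom.comp α) (S := α.range)
      (fun a => ⟨_, rfl⟩) (fun a => ⟨_, f2 a⟩) fun a => by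
        have := (mem_K hM fl hα).2 ((k1 ((γ a)⁻¹ * f a)).1 (by
          rw [map_mul, map_inv, a2]; exact inv_mul_cancel _))
        rwa [map_mul, map_inv, f2] at this
  obtain ⟨n, hn, e⟩ := aut_norm hM fl (MulEquiv.ofBijective γ (Finite.injective_iff_bijective.1
    (Finite.injective_iff_surjective.2 a1)))
  exact ⟨n, hn, fun l l' e' => by rw [a3, show l' = γ l from Subtype.ext (e'.trans (e l).symm)]⟩

end md

theorem act : ActStmt.{u} := fun _ _ _ _ _ _ _ hM _ _ rx ry _ _ _ _ hα _ hc =>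
  exists_like hM (fl_std hM rx ry) hα hc

theorem ex : ExStmt.{u} := by
  intro A _ _ Q z θ R hM s y rx ry G _ _ N F _ _ hF pf π p1 p2 p3 p4
  have fl := fl_std hM rx ry
  have f4 := fl_four hM fl
  obtain ⟨σ, s1, s2, s3, s4⟩ := exists_proj hM fl _ hF
  have : Group.IsPerfect N := ⟨pf⟩
  have : Group.IsPerfect (centralizer ({s, y} : Set A)) := ⟨s4⟩
  have k1 : ∀ a, σ a = 1 ↔ a.1 = 1 ∨ a.1 = s ∨ a.1 = y ∨ a.1 = s * y := fun a => by
    rw [← f4.mem_closure, ← mem_subgroupOf, ← s2, MonoidHom.mem_ker]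
  obtain ⟨α, a1, a2⟩ := exists_over (S2109.result hF) ⟨s1, s3.ge⟩ ⟨p1, p2⟩
    (fun a ha => Subtype.ext (by
      rcases (k1 a).1 ha with e | e | e | e <;> rw [coe_mul, e]
      exacts [mul_one _, f4.zz, f4.xx, f4.zxzx])) p3
    (by rw [s2, Nat.card_congr (subgroupOfEquivOfLe (le_cent hM fl)).toEquiv, f4.card_closure])
  let a : centralizer ({s, y} : Set A) := ⟨s, mem_c2.2 ⟨rfl, f4.comm⟩⟩
  let b : centralizer ({s, y} : Set A) := ⟨y, mem_c2.2 ⟨f4.comm.symm, rfl⟩⟩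
  have k2 : ∀ l, σ l = 1 → l = 1 ∨ l = a ∨ l = b ∨ l = a * b := fun l hl =>
    ((k1 l).1 hl).imp Subtype.ext (Or.imp Subtype.ext (Or.imp Subtype.ext Subtype.ext))
  have k3 : ¬ (α a = 1 ∧ α b = 1) := fun ⟨e1, e2⟩ => p4 (eq_bot_iff.2 fun m hm => by
    obtain ⟨l, rfl⟩ := a1 m
    rcases k2 l ((a2 l).symm.trans hm) with rfl | rfl | rfl | rfl <;> simp [e1, e2])
  obtain ⟨i, hi⟩ : ∃ i, ∀ l, α l = 1 → l.1 = 1 ∨ l.1 = ![s, y, s * y] i := by
    have k4 := fun l (hl : α l = 1) => k2 l (by rw [← a2, hl, map_one])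
    by_cases e1 : α a = 1
    · refine ⟨0, fun l hl => ?_⟩
      rcases k4 l hl with rfl | rfl | rfl | rfl
      exacts [Or.inl rfl, Or.inr rfl, absurd ⟨e1, hl⟩ k3,
        absurd ⟨e1, by rwa [map_mul, e1, one_mul] at hl⟩ k3]
    by_cases e2 : α b = 1
    · refine ⟨1, fun l hl => ?_⟩
      rcases k4 l hl with rfl | rfl | rfl | rfl
      exacts [Or.inl rfl, absurd hl e1, Or.inr rfl, absurd (by rwa [map_mul, e2, mul_one] at hl) e1]
    · refine ⟨2, fun l hl => ?_⟩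
      rcases k4 l hl with rfl | rfl | rfl | rfl
      exacts [Or.inl rfl, absurd hl e1, absurd hl e2, Or.inr rfl]
  obtain ⟨n, hn, n1, -⟩ := exists_norm hM fl ((by decide : ∀ i : Fin 3, i ≠ i + 1) i)
  let δ := (centralizer ({s, y} : Set A)).normalizerMonoidHom ⟨n, norm_le s y hn⟩
  refine ⟨(N.subtype.comp α).comp δ.toMonoidHom, le_antisymm ?_ fun m hm => ?_, fun l hl => ?_⟩
  · rintro _ ⟨l, rfl⟩; exact (α _).2
  · obtain ⟨l, hl⟩ := (a1.comp δ.surjective) ⟨m, hm⟩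
    exact ⟨l, congrArg Subtype.val hl⟩
  · have := hi (δ l) (Subtype.ext hl)
    rw [← n1] at this
    exact this.imp conj_eq_one_iff.1 fun e => mul_left_cancel (mul_right_cancel e)

theorem good : GoodStmt.{u} := by
  intro G _ _ N t F _ _ hF pf t1 tN π p1 p2 hn hC
  obtain ⟨T, Q, θ, R, -, -, -, hM, rx, ry, d1, d2, -⟩ := exists_data
  set y := T 6
  have fl := fl_std hM rx ry
  have f4 := fl_four hM fl
  have ct : ∀ n ∈ N, t * n = n * t := (hC t).2 (Or.inr rfl)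
  have tt : t * t = 1 := ((p2 (⟨t, tN⟩ * ⟨t, tN⟩)).1 (by
    rw [map_mul, (p2 _).2 (Or.inr rfl), one_mul])).resolve_right fun e => t1 (by simpa using e)
  obtain ⟨α, a1, hα⟩ := ex M Q zA θ R hM tU y rx ry G N F hF pf π p1 (fun m hm =>
    mem_center_iff.2 fun g => Subtype.ext ((hC m).2 ((p2 m).1 hm) g g.2).symm)
    (fun a ha => Subtype.ext (by rcases (p2 a).1 ha with e | e <;> simp [e, tt])) fun e =>
    t1 (congrArg Subtype.val (mem_bot.1 (e.le (x := ⟨t, tN⟩) ((p2 _).2 (Or.inr rfl)))))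
  subst a1
  have ms : tU ∈ centralizer ({tU, y} : Set M) := mem_c2.2 ⟨rfl, f4.comm⟩
  have my : y ∈ centralizer ({tU, y} : Set M) := mem_c2.2 ⟨f4.comm.symm, rfl⟩
  have k1 : ∀ l : centralizer ({tU, y} : Set M), l.1 ∈ closure ({tU, y} : Set M) → l.1 ≠ 1 →
      l.1 ≠ tU → α l = t := fun l hl h1 h2 =>
    ((hC _).1 fun n hn => ((mem_K hM fl hα).2 hl n hn).symm).resolve_left fun e =>
      (hα l e).elim h1 h2
  have e1 : α ⟨y, my⟩ = t := k1 _ (subset_closure (by simp)) f4.x1 f4.ne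
  have e2 : α ⟨tU, ms⟩ = 1 := by
    have := k1 (⟨tU, ms⟩ * ⟨y, my⟩) (f4.mem_closure.2 (by simp)) f4.zx1 f4.zx_ne_z
    rwa [map_mul, e1, mul_eq_right] at this
  have k2 : ∀ a, a * t = t * a → ∃ n, (a, n) ∈ Like (norm_le tU y) α ∧ Commute n tU ∧
      (n * y * n⁻¹ = y ∨ n * y * n⁻¹ = y * tU) := fun a ha => by
    obtain ⟨n, h⟩ := exists_like hM fl hα (hn (mem_centralizer_singleton_iff.2 ha))
    refine ⟨n, h, mul_inv_eq_iff_eq_mul.1 ((hα ⟨_, Like.mem h ⟨tU, ms⟩⟩ (by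
      rw [Like.eq h, e2, mul_one, mul_inv_cancel])).resolve_left fun e =>
        f4.z1 (conj_eq_one_iff.1 e)), ?_⟩
    refine (hα (⟨y, my⟩⁻¹ * ⟨_, Like.mem h ⟨y, my⟩⟩) (by
      rw [map_mul, map_inv, Like.eq h, e1, ha, mul_inv_cancel_right, inv_mul_cancel])).imp
      (fun e => (inv_mul_eq_one.1 e).symm) inv_mul_eq_iff_eq_mul.1
  classical
  let f : M → G := fun a => if h : a ∈ centralizer ({tU, y} : Set M) then α ⟨a, h⟩ else 1
  have hf : ∀ a h, f a = α ⟨a, h⟩ := fun a h => dif_pos h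
  refine ⟨y, d1, d2, f, f4.zz, f4.comm, fun a ha b hb => ?_, fun a ha => ?_, (hf y my).trans e1,
    fun g => ⟨?_, ?_⟩, fun a b ha hb => ?_⟩
  · rw [hf _ (mul_mem ha hb), hf a ha, hf b hb, ← map_mul]; rfl
  · rw [hf a ha]
    refine ⟨hα _, ?_⟩
    rintro (rfl | rfl)
    exacts [map_one α, e2]
  · rintro ⟨l, rfl⟩; exact ⟨l, l.2, hf _ _⟩
  · rintro ⟨l, hl, rfl⟩; exact ⟨_, (hf l hl).symm⟩
  · obtain ⟨n, n1, n2, n3⟩ := k2 a⁻¹ (Commute.inv_left ha).eq
    obtain ⟨m, m1, m2, m3⟩ := k2 b⁻¹ (Commute.inv_left hb).eq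
    have c : n * m * y * (n * m)⁻¹ = m * n * y * (m * n)⁻¹ := by
      rw [show n * m * y * (n * m)⁻¹ = n * (m * y * m⁻¹) * n⁻¹ by group,
        show m * n * y * (m * n)⁻¹ = m * (n * y * n⁻¹) * m⁻¹ by group]
      rcases n3 with e | e <;> rcases m3 with e' | e' <;>
        simp only [e, e', ← conj_mul, mul_inv_eq_iff_eq_mul.2 n2.eq, mul_inv_eq_iff_eq_mul.2 m2.eq]
    have l : n⁻¹ * m⁻¹ * n * m ∈ centralizer ({tU, y} : Set M) := mem_c2.2
      ⟨(((n2.inv_left.mul_left m2.inv_left).mul_left n2).mul_left m2).eq, by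
        calc _ = (m * n)⁻¹ * (n * m * y * (n * m)⁻¹) * (n * m) := by group
          _ = _ := by rw [c]; group⟩
    have r := mul_mem (mul_mem (mul_mem (inv_mem n1) (inv_mem m1)) n1) m1
    simp only [Prod.inv_mk, Prod.mk_mul_mk, inv_inv] at r
    have := (hC _).1 fun k hk => (Like.cent (L_le tU y) (l := ⟨_, l⟩) r k hk).symm
    rw [inv_mul_eq_one, inv_mul_eq_iff_eq_mul] at this
    rcases this with e | e
    exacts [⟨_, e⟩, e ▸ mul_mem ⟨_, rfl⟩ tN]

end Cfsg.Agent.H70.Be
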