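import Cfsg.Agent.H70.BeMod

/-! The local data lift through a central kernel of odd order. -/

set_option autoImplicit false

namespace Cfsg.Agent.H70.Be

open Cfsg Subgroup Cfsg.Agent.H48 Cfsg.Agent.H48.Be Cfsg.Agent.H80
open scoped commutatorElement

universe u

theorem exists_lift_two {X H : Type*} [Group X] [Finite X] [Group H] {π : X →* H}
    (hπ : Function.Surjective π) {U : Subgroup H} (hU : IsPGroup 2 U) :
    ∃ P : Subgroup X, IsPGroup 2 P ∧ P.map π = U := by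
  have : Fact (Nat.Prime 2) := ⟨Nat.prime_two⟩
  obtain ⟨S⟩ : Nonempty (Sylow 2 (U.comap π)) := inferInstance
  have hs : Function.Surjective (π.subgroupComap U) := π.subgroupComap_surjective_of_surjective U hπ
  have e := (S.mapSurjective hs).is_maximal' (hU.to_subgroup ⊤) le_top
  refine ⟨S.1.map (Subgroup.subtype _), S.isPGroup'.map _, le_antisymm ?_ fun u hu => ?_⟩
  · rintro _ ⟨_, ⟨x, -, rfl⟩, rfl⟩; exact x.2
  · obtain ⟨x, hx, e⟩ := e.le (mem_top ⟨u, hu⟩)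
    exact ⟨x, ⟨x, hx, rfl⟩, congrArg Subtype.val e⟩

theorem E2.conj {G : Type*} [Group G] {c : G} (h : E2 c) (g : G) : E2 (g * c * g⁻¹) :=
  h.imp fun n e => by rw [conj_pow, e, mul_one, mul_inv_cancel]

theorem E2.of_sq {G : Type*} [Group G] {c : G} (h : c * c = 1) : E2 c := ⟨1, by rw [pow_one, sq, h]⟩

section

variable {G : Type*} [Group G] {A : Subgroup G} {H : Type*} [Group H]
  {π : normalizer (A : Set G) →* H} (hO : Odd (Nat.card π.ker))
  (hk : ∀ k, π k = 1 → k.1 ∈ A ⊓ centralizer (A : Set G))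
include hk

theorem keyA {x : normalizer (A : Set G)} : π x ∈ (A.subgroupOf _).map π ↔ x.1 ∈ A :=
  ⟨fun ⟨a, ha, e⟩ => (mul_mem_cancel_left (inv_mem ha)).1
    (hk (a⁻¹ * x) (by rw [map_mul, map_inv, e, inv_mul_cancel])).1, fun h => ⟨x, h, rfl⟩⟩

theorem keyK (pf : ⁅A, A⁆ = A) {x : normalizer (A : Set G)} :
    π x ∈ centralizer ((A.subgroupOf _).map π : Set H) ↔ x.1 ∈ centralizer (A : Set G) := by
  refine ⟨fun h l hl => (cent_of_mod (map_injective A.subtype_injective (by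
    rw [map_subtype_commutator, pf, ← MonoidHom.range_eq_map, range_subtype])) x.2
    (fun l hl => ?_) hl).symm, fun h => ?_⟩
  · refine (hk (⟨l, le_normalizer hl⟩⁻¹ * (x * ⟨l, le_normalizer hl⟩ * x⁻¹)) ?_).2
    rw [map_mul, map_mul, map_mul, map_inv, map_inv, ← h _ ⟨_, hl, rfl⟩, mul_inv_cancel_right,
      inv_mul_cancel]
  · rintro _ ⟨a, ha, rfl⟩
    rw [← map_mul, ← map_mul]
    exact congrArg π (Subtype.ext (h _ ha))

theorem pow_ker {x y : normalizer (A : Set G)} (hx : x.1 ∈ A) (e : π x = π y) :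
    ∃ k : π.ker, Commute x k ∧ y = x * k :=
  have h : π (x⁻¹ * y) = 1 := by rw [map_mul, map_inv, e, inv_mul_cancel]
  ⟨⟨_, h⟩, Subtype.ext ((hk _ h).2 x hx), (mul_inv_cancel_left _ _).symm⟩

include hO

theorem eq2 {x y : normalizer (A : Set G)} (hx : x.1 ∈ A) (h1 : E2 x.1) (h2 : E2 y.1)
    (e : π x = π y) : x.1 = y.1 := by
  obtain ⟨k, c, rfl⟩ := pow_ker hk hx e
  obtain ⟨n, h1⟩ := h1
  obtain ⟨m, h2⟩ := h2
  have h3 : (x * k) ^ 2 ^ (n + m) = 1 := Subtype.ext (by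
    rw [coe_pow, add_comm, pow_add, pow_mul, h2, one_pow, coe_one])
  rw [c.mul_pow, show x ^ 2 ^ (n + m) = 1 from Subtype.ext (by
    rw [coe_pow, pow_add, pow_mul, h1, one_pow, coe_one]), one_mul] at h3
  rw [show k = 1 from orderOf_eq_one_iff.1 (Nat.eq_one_of_dvd_coprimes
    ((Nat.coprime_two_left.2 hO).pow_left _) (orderOf_dvd_of_pow_eq_one (Subtype.ext h3))
    (orderOf_dvd_natCard k)), coe_one, mul_one]

theorem comm2 {x c : normalizer (A : Set G)} (hx : x.1 ∈ A) (h1 : E2 x.1)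
    (e : π c * π x = π x * π c) : c.1 * x = x * c :=
  mul_inv_eq_iff_eq_mul.1 (eq2 hO hk (y := c * x * c⁻¹) hx h1 (E2.conj h1 _) (by
    rw [map_mul, map_mul, map_inv, e, mul_inv_cancel_right])).symm

theorem card_im {B : Subgroup G} (hB : B ≤ A) (h : ∀ b ∈ B, E2 b) :
    Nat.card ((B.subgroupOf _).map π) = Nat.card B := by
  rw [← Nat.card_congr (subgroupOfEquivOfLe (hB.trans le_normalizer)).toEquiv, eq_comm]
  exact Nat.card_congr (Equiv.ofBijective (π.subgroupMap _) ⟨fun a b e => Subtype.ext (Subtype.ext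
    (eq2 hO hk (hB a.2) (h _ a.2) (h _ b.2) (congrArg Subtype.val e))), π.subgroupMap_surjective _⟩)

theorem exists_sub [Finite G] (hπ : Function.Surjective π) {U : Subgroup H} (hA : U ≤ (A.subgroupOf _).map π)
    (hU : IsPGroup 2 U) : ∃ P ≤ A, (P.subgroupOf _).map π = U ∧
      ∀ x : normalizer (A : Set G), x.1 ∈ P ↔ π x ∈ U ∧ E2 x.1 := by
  obtain ⟨P, h1, rfl⟩ := exists_lift_two hπ hU
  have k : ∀ x ∈ P, E2 x.1 := fun x hx => (h1 ⟨x, hx⟩).imp fun n e => congrArg (·.1.1) e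
  refine ⟨P.map (Subgroup.subtype _), ?_, by
    rw [subgroupOf, comap_map_eq_self_of_injective (subtype_injective _)], fun x => ⟨?_, ?_⟩⟩
  · rintro _ ⟨x, hx, rfl⟩; exact (keyA hk).1 (hA ⟨x, hx, rfl⟩)
  · rintro ⟨y, hy, e⟩
    rw [← show y = x from Subtype.ext e]
    exact ⟨⟨y, hy, rfl⟩, k y hy⟩
  · rintro ⟨⟨y, hy, e⟩, h⟩
    exact ⟨y, hy, eq2 hO hk ((keyA hk).1 (hA ⟨y, hy, rfl⟩)) (k y hy) h e⟩

end

theorem lift : LiftStmt.{u} := by
  intro G _ _ A pf H _ π hπ hO hk Z' Q' z' h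
  have kA := @keyA _ _ _ _ _ _ hk
  have kK := @keyK _ _ _ _ _ _ hk pf
  have e2 := @eq2 _ _ _ _ _ _ hO hk
  have c2 := @comm2 _ _ _ _ _ _ hO hk
  have hQ : IsPGroup 2 Q' := fun a => ⟨2, Subtype.ext (by
    rw [coe_pow, show 2 ^ 2 = 2 * 2 from rfl, pow_mul, sq, sq]
    rcases h.sq a a.2 with e | e <;> rw [e]
    exacts [mul_one _, h.zz])⟩
  obtain ⟨Q, QA, mapQ, mQ⟩ := exists_sub hO hk hπ h.QA hQ
  obtain ⟨Z, ZA, mapZ, mZ⟩ := exists_sub hO hk hπ (h.ZQ.trans h.QA) (hQ.to_le h.ZQ)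
  obtain ⟨z, zQ, rfl⟩ := mapQ.ge h.zQ
  change z.1 ∈ Q at zQ
  have hn : ((A.subgroupOf _).map π).Normal := Normal.map inferInstance π hπ
  have nt : ∀ c, c ∈ normalizer ((A.subgroupOf _).map π : Set H) := fun c =>
    le_normalizer_of_normal (mem_top c)
  have Q2 : ∀ a ∈ Q, E2 a := fun a ha => ((mQ ⟨a, le_normalizer (QA ha)⟩).1 ha).2
  have iQ : ∀ {x y : normalizer (A : Set G)}, x.1 ∈ Q → y.1 ∈ Q → π x = π y → x.1 = y.1 :=
    fun hx hy => e2 (QA hx) (Q2 _ hx) (Q2 _ hy)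
  have cm : ∀ {x y : normalizer (A : Set G)}, x.1 * y = y * x → π x * π y = π y * π x := fun e => by
    rw [← map_mul, ← map_mul]; exact congrArg π (Subtype.ext e)
  have cz : ∀ {c : normalizer (A : Set G)}, π c * π z = π z * π c → c.1 * z = z * c :=
    c2 (QA zQ) (Q2 _ zQ)
  have ZQ : Z ≤ Q := fun a ha => (mQ ⟨a, le_normalizer (ZA ha)⟩).2
    (((mZ ⟨a, le_normalizer (ZA ha)⟩).1 ha).imp_left fun e => h.ZQ e)
  have zz : z.1 * z = 1 := iQ (x := z * z) (y := 1) (mul_mem zQ zQ) (one_mem _) (by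
    rw [map_mul, h.zz, map_one])
  have toZ : ∀ {x : normalizer (A : Set G)}, x.1 ∈ Q → π x ∈ Z' → x.1 ∈ Z := fun hx e =>
    (mZ _).2 ⟨e, Q2 _ hx⟩
  have fin : ∀ {c : normalizer (A : Set G)}, (∃ q ∈ Q', q⁻¹ * π c ∈
      centralizer ((A.subgroupOf _).map π : Set H)) → ∃ q ∈ Q, q⁻¹ * c ∈ centralizer (A : Set G) := by
    rintro c ⟨q, hq, e⟩
    obtain ⟨q, hq', rfl⟩ := mapQ.ge hq
    rw [← map_inv, ← map_mul, kK] at e
    exact ⟨q, hq', e⟩
  have kS : ∀ (U : Subgroup G) (x : normalizer (A : Set G)), π x ∈ (U.subgroupOf _).map π ⊔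
      centralizer ((A.subgroupOf _).map π : Set H) → x.1 ∈ U ⊔ centralizer (A : Set G) := by
    intro U x hx
    obtain ⟨_, ⟨a, ha, rfl⟩, k, hk, e⟩ := mem_sup_of_normal_right.1 hx
    rw [eq_inv_mul_iff_mul_eq.2 e, ← map_inv, ← map_mul, kK] at hk
    exact (mul_mem_cancel_left (x := a.1⁻¹) (inv_mem (mem_sup_left ha))).1 (mem_sup_right hk)
  refine ⟨Z, Q, z, fun a ha => ?_, fun a ha => ?_, ?_, fun a ha h1 h2 => ?_, ZQ, zQ, QA, zz,
    mt kK.2 h.zK, fun a ha => ?_, fun a ha b hb => ?_, fun a ha => ?_, fun a ha c => ?_, ?_,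
    fun c hc e q hq => ?_, fun c hc e => ?_, fun P hP h2 => ?_, fun c hc e1 e2 e3 => ?_,
    fun c hc e1 e2 B hB h8 e3 => ?_, ?_, ?_, fun D hD h2 hn => ?_, fun f hf h2 => ?_⟩
  · lift a to normalizer (A : Set G) using le_normalizer (ZA ha)
    exact kK.1 (h.ZK ((mZ a).1 ha).1)
  · lift a to normalizer (A : Set G) using le_normalizer (ZA ha)
    exact iQ (x := a * a) (y := 1) (ZQ (mul_mem ha ha)) (one_mem _) (by
      rw [map_mul, h.Zsq _ ((mZ a).1 ha).1, map_one])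
  · rw [← card_im hO hk ZA fun b hb => Q2 b (ZQ hb), mapZ]; exact h.Zc
  · lift a to normalizer (A : Set G) using le_normalizer ha
    exact (mZ a).2 ⟨h.ztwo _ (kA.2 ha) (kK.2 h1) (h2.imp fun n e => by
      rw [← map_pow, show a ^ 2 ^ n = 1 from Subtype.ext e, map_one]), h2⟩
  · lift a to normalizer (A : Set G) using le_normalizer (QA ha)
    exact (h.sq _ ((mQ a).1 ha).1).imp
      (fun e => iQ (x := a * a) (y := 1) (mul_mem ha ha) (one_mem _) (by rw [map_mul, e, map_one]))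
      fun e => iQ (x := a * a) (mul_mem ha ha) zQ (by rw [map_mul, e])
  · lift a to normalizer (A : Set G) using le_normalizer (QA ha)
    lift b to normalizer (A : Set G) using le_normalizer (QA hb)
    exact (h.cm _ ((mQ a).1 ha).1 _ ((mQ b).1 hb).1).imp (c2 (QA hb) (Q2 _ hb)) fun e =>
      iQ (x := a * b) (y := b * a * z) (mul_mem ha hb) (mul_mem (mul_mem hb ha) zQ) (by
        simp only [map_mul, e])
  · lift a to normalizer (A : Set G) using le_normalizer (QA ha)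
    exact cz (h.cz _ ((mQ a).1 ha).1)
  · lift a to normalizer (A : Set G) using le_normalizer (QA ha)
    refine (h.cen _ ((mQ a).1 ha).1 fun b hb => ?_).imp (toZ ha) fun e =>
      toZ (x := a * z) (mul_mem ha zQ) (map_mul π a z ▸ e)
    obtain ⟨b, hb', rfl⟩ := mapQ.ge hb
    exact cm (c _ hb')
  · rw [← card_im hO hk QA Q2, mapQ]; exact h.big
  · lift q to normalizer (A : Set G) using le_normalizer (QA hq)
    lift c to normalizer (A : Set G) using hc
    refine (mQ (c * q * c⁻¹)).2 ⟨?_, E2.conj (Q2 _ hq) _⟩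
    rw [map_mul, map_mul, map_inv]
    exact h.nor _ (nt _) (cm e) _ ((mQ q).1 hq).1
  · lift c to normalizer (A : Set G) using hc
    refine cz (h.ne _ (nt _) ?_)
    rwa [← map_inv, ← map_mul, ← map_mul, ← map_mul, kK]
  · obtain ⟨_, ⟨c, hc, rfl⟩, e⟩ := h.syl ((P.subgroupOf _).map π) (fun c _ => nt c)
      (h2.comap_subtype.map _)
    refine ⟨c, hc, fun p hp => c2 (x := c * z * c⁻¹) (c := ⟨p, hP hp⟩)
      (mul_mem (mul_mem hc (QA zQ)) (inv_mem hc)) (E2.conj (Q2 _ zQ) _) ?_⟩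
    rw [map_mul, map_mul, map_inv]
    exact e _ ⟨_, hp, rfl⟩
  · lift c to normalizer (A : Set G) using hc
    refine fin (h.rk1 _ (nt _) (cm e1) (fun v hv => ?_) fun b hb => ?_)
    · obtain ⟨v, hv', rfl⟩ := mapZ.ge hv
      exact cm (e2 _ hv')
    · obtain ⟨b, hb', rfl⟩ := mapQ.ge hb
      simp only [← map_inv, ← map_mul]
      exact (e3 _ hb').imp (fun e => ((mZ _).1 e).1) fun e => ((mZ _).1 e).1
  · lift c to normalizer (A : Set G) using hc
    refine fin (h.rk8 _ (nt _) (cm e1) (e2.imp fun n e => by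
      rw [← map_pow, show c ^ 2 ^ n = 1 from Subtype.ext e, map_one]) ((B.subgroupOf _).map π)
      (mapQ ▸ map_mono (comap_mono hB)) ?_ ?_)
    · rwa [← mapQ, card_im hO hk QA Q2, card_im hO hk (hB.trans QA) fun b hb => Q2 b (hB hb)]
    · rintro _ ⟨b, hb, rfl⟩; exact cm (e3 _ hb)
  · have := h.out
    rw [normalizer_eq_top_iff.2 hn, relIndex_top_right, ← index_comap_of_surjective _ hπ] at this
    exact (index_dvd_of_le fun x hx => kS A x hx).trans this
  · obtain ⟨X, h1, h2, h3⟩ := h.xp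
    have e : (⁅X.comap π, X.comap π⁆).map π = X := by
      rw [map_commutator, map_comap_eq_self_of_surjective hπ, h2]
    have l := commutator_le_self (X.comap π)
    have lA : ∀ x ∈ X.comap π, x.1 ∈ A := fun x hx => kA.1 (h1 hx).1
    have k : ∀ g ∈ X.comap π, ∃ x ∈ ⁅X.comap π, X.comap π⁆, ∃ k : π.ker, g = x * k := fun g hg => by
      obtain ⟨x, hx, e⟩ := e.ge hg
      obtain ⟨k, -, e⟩ := pow_ker hk (lA x (l hx)) e
      exact ⟨x, hx, k, e⟩
    have kc : ∀ k : π.ker, ∀ g ∈ X.comap π, Commute k.1 g := fun k g hg =>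
      Subtype.ext ((hk k k.2).2 g (lA g hg)).symm
    refine ⟨(⁅X.comap π, X.comap π⁆).map (Subgroup.subtype _), ?_, ?_, fun a ha e1 ⟨n, e2⟩ => ?_⟩
    · rintro _ ⟨x, hx, rfl⟩
      exact ⟨lA x (l hx), mem_centralizer_singleton_iff.2
        (cz (mem_centralizer_singleton_iff.1 (h1 (l hx)).2))⟩
    · rw [← map_commutator]
      refine congrArg _ (le_antisymm (commutator_le_self _) (commutator_le.2 fun a ha b hb => ?_))
      obtain ⟨x, hx, k1, rfl⟩ := k a ha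
      obtain ⟨y, hy, k2, rfl⟩ := k b hb
      convert commutator_mem_commutator hx hy using 1
      simp only [commutatorElement_def]
      calc _ = x * (k1 * (y * k2) * k1.1⁻¹) * x⁻¹ * (y * k2)⁻¹ := by group
        _ = x * y * (k2 * x⁻¹ * k2.1⁻¹) * y⁻¹ := by rw [(kc k1 _ hb).eq]; group
        _ = _ := by rw [(kc k2 _ (inv_mem (l hx))).eq, mul_inv_cancel_right]
    · lift a to normalizer (A : Set G) using le_normalizer ha
      have e3 : a ^ 2 ^ n = 1 := Subtype.ext e2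
      obtain ⟨x, hx, k, e4⟩ := k a (h3 _ (kA.2 ha) (cm e1) ⟨n, by rw [← map_pow, e3, map_one]⟩)
      obtain ⟨m, hm⟩ := exists_pow_eq_self_of_coprime (x := a) (n := Nat.card π.ker)
        (Nat.Coprime.coprime_dvd_right (orderOf_dvd_of_pow_eq_one e3)
          ((Nat.coprime_two_right.2 hO).pow_right _))
      refine ⟨a, hm ▸ pow_mem ?_ _, rfl⟩
      rw [e4, (kc k x (l hx)).symm.mul_pow, ← coe_pow, pow_card_eq_one', coe_one, mul_one]
      exact pow_mem hx _
  · have k : A ⊔ centralizer (A : Set G) ≤ (((A.subgroupOf _).map π ⊔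
        centralizer ((A.subgroupOf _).map π : Set H)).comap π).map (Subgroup.subtype _) :=
      sup_le (fun a ha => ⟨⟨a, le_normalizer ha⟩, mem_sup_left (kA.2 ha), rfl⟩) fun a ha =>
        ⟨⟨a, centralizer_le_normalizer _ ha⟩, mem_sup_right (kK.2 ha), rfl⟩
    have := h.o2 ((D.subgroupOf _).map π) (by
      rintro _ ⟨d, hd, rfl⟩
      obtain ⟨x, hx, e⟩ := k (hD hd).1
      exact ⟨(Subtype.ext e : x = d) ▸ hx, mem_centralizer_singleton_iff.2
        (cm (mem_centralizer_singleton_iff.1 (hD hd).2))⟩) (h2.comap_subtype.map _) (by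
      rintro _ ⟨c, hc, rfl⟩ e _ ⟨d, hd, rfl⟩
      exact ⟨c * d * c⁻¹, hn c hc (cz e) d hd, by simp⟩)
    intro d hd
    obtain ⟨x, -, rfl⟩ := k (hD hd).1
    exact kS Q x (mapQ ▸ this ⟨x, hd, rfl⟩)
  · lift f to normalizer (A : Set G) using le_normalizer hf
    obtain ⟨e, c⟩ := h.inv _ (kA.2 hf) (map_mul π f f ▸ ((mZ (f * f)).1 h2).1)
    have ff : f.1 * f = 1 := iQ (x := f * f) (y := 1) (ZQ h2) (one_mem _) (by
      rw [map_mul, e, map_one])
    have k : ∀ a : normalizer (A : Set G), (π a)⁻¹ * π f * π a ∈ Q' → a.1⁻¹ * f * a ∈ Q :=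
      fun a ha => (mQ (a⁻¹ * f * a)).2 ⟨by rwa [map_mul, map_mul, map_inv], by
        simpa using E2.conj (E2.of_sq ff) a.1⁻¹⟩
    refine ⟨ff, c.imp (fun c => (mZ f).2 ⟨c, E2.of_sq ff⟩) (Or.imp ?_ ?_)⟩
    · rintro ⟨_, ⟨c, hc, rfl⟩, e⟩
      exact ⟨c, hc, toZ (x := c⁻¹ * f * c * z) (mul_mem (k c ((mul_mem_cancel_right h.zQ).1
        (h.ZQ e))) zQ) (by rwa [map_mul, map_mul, map_mul, map_inv])⟩
    · rintro ⟨_, ⟨a, ha, rfl⟩, _, ⟨b, hb, rfl⟩, _, ⟨c, hc, rfl⟩, e, e1, e3, e4⟩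
      refine ⟨a, ha, b, hb, c, hc, ?_, k a e1, k b e3, k c e4⟩
      have s : ∀ a : normalizer (A : Set G), a * z * a⁻¹ * (a * z * a⁻¹) = 1 := fun a => by
        rw [conj_mul, show z * z = 1 from Subtype.ext zz, mul_one, mul_inv_cancel]
      have m : ∀ a : normalizer (A : Set G), (a * z * a⁻¹).1 ∈ A := fun a =>
        (mem_normalizer_iff.1 a.2 z).1 (QA zQ)
      simp only [← map_inv, ← map_mul] at e
      have c1 : a * z * a⁻¹ * (b * z * b⁻¹) = b * z * b⁻¹ * (a * z * a⁻¹) :=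
        Subtype.ext (c2 (m b) (E2.of_sq (congrArg Subtype.val (s b))) (by
          rw [← map_mul, ← map_mul, e, ← inv_eq_of_mul_eq_one_right (s c), map_inv, ← e, ← map_inv,
            mul_inv_rev, inv_eq_of_mul_eq_one_right (s a), inv_eq_of_mul_eq_one_right (s b)]))
      exact (e2 (m c) (E2.of_sq (congrArg Subtype.val (s c))) (E2.of_sq (congrArg Subtype.val
        (show a * z * a⁻¹ * (b * z * b⁻¹) * (a * z * a⁻¹ * (b * z * b⁻¹)) = 1 by
          rw [(show Commute _ _ from c1).symm.mul_mul_mul_comm, s, s, mul_one]))) e.symm).symm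

theorem six_aux : ∀ b : Multiplicative (ZMod 3 × ZMod 2 × ZMod 2), (b * b) ^ 3 = 1 := by decide

theorem ld : LDStmt.{u} := by
  intro G _ _ A F _ _ hF pf π p1 p2 ev
  have : Fact (Nat.Prime 2) := ⟨Nat.prime_two⟩
  have : Fact (Nat.Prime 3) := ⟨Nat.prime_three⟩
  have : Group.IsPerfect A := ⟨pf⟩
  obtain ⟨f, hf⟩ := exists_surjective_ker_of_stem (S2109.result hF)
    (isStemExtension_of_perfect ⟨p1, p2.le⟩)
  have six : ∀ a, π a = 1 → (a * a) ^ 3 = 1 := fun a ha => by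
    obtain ⟨b, e⟩ := hf ⟨a, ha⟩
    have : (f b * f b) ^ 3 = 1 := by
      rw [← map_mul, ← map_pow, six_aux, map_one]
    rw [e] at this
    exact congrArg Subtype.val this
  let O : Subgroup (normalizer (A : Set G)) :=
    { carrier := {n | n.1 ∈ A ⊓ centralizer (A : Set G) ∧ n ^ 3 = 1}
      one_mem' := ⟨one_mem _, one_pow _⟩
      mul_mem' := fun {a b} ha hb => ⟨mul_mem ha.1 hb.1, by
        rw [(show Commute a b from Subtype.ext (hb.1.2 a ha.1.1)).mul_pow, ha.2, hb.2, mul_one]⟩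
      inv_mem' := fun {a} ha => ⟨inv_mem ha.1, by rw [inv_pow, ha.2, inv_one]⟩ }
  have : O.Normal := ⟨fun n hn g => ⟨⟨(mem_normalizer_iff.1 g.2 n).1 hn.1.1,
    (normal_subgroupOf_centralizer_normalizer (A : Set G)).conj_mem n hn.1.2 g⟩, by
      rw [conj_pow, hn.2, mul_one, mul_inv_cancel]⟩⟩
  have hO : IsPGroup 3 O := fun a => ⟨1, Subtype.ext a.2.2⟩
  let ρ : A →* (A.subgroupOf (normalizer (A : Set G))).map (QuotientGroup.mk' O) :=
    ((QuotientGroup.mk' O).comp (inclusion le_normalizer)).codRestrict _ fun a => ⟨_, a.2, rfl⟩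
  have r1 : Function.Surjective ρ := by
    rintro ⟨_, a, ha, rfl⟩; exact ⟨⟨a, ha⟩, rfl⟩
  have r2 : ∀ a, ρ a = 1 ↔ a ∈ center A ∧ a ^ 3 = 1 := fun a => by
    rw [Subtype.ext_iff]
    refine (QuotientGroup.eq_one_iff (inclusion le_normalizer a)).trans ⟨fun h => ⟨mem_center_iff.2
      fun g => Subtype.ext (h.1.2 g g.2), Subtype.ext (congrArg Subtype.val h.2 :)⟩, fun h =>
      ⟨⟨a.2, fun g hg => congrArg Subtype.val (mem_center_iff.1 h.1 ⟨g, hg⟩)⟩,
        Subtype.ext (congrArg Subtype.val h.2 :)⟩⟩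
  let π' := ρ.liftOfSurjective r1 ⟨π, fun a ha => p2.ge ((r2 a).1 ha).1⟩
  have e : ∀ a, π' (ρ a) = π a := fun a => ρ.liftOfRightInverse_comp_apply _ _ _ a
  obtain ⟨T, Q, θ, R, -, -, -, hM, rx, ry, -⟩ := H47.B6.exists_data
  obtain ⟨α, a1, hα⟩ := ex _ Q _ θ R hM _ _ rx ry _ _ F hF
    (Group.IsPerfect.ofSurjective r1).commutator_eq_top π'
    (fun x => (p1 x).elim fun a ha => ⟨_, (e a).trans ha⟩) (fun m hm => by
      obtain ⟨a, rfl⟩ := r1 m
      refine mem_center_iff.2 fun g => ?_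
      obtain ⟨g, rfl⟩ := r1 g
      rw [← map_mul, ← map_mul, mem_center_iff.1 (p2.le ((e a).symm.trans hm)) g]) (fun m hm => by
      obtain ⟨a, rfl⟩ := r1 m
      have := (e a).symm.trans hm
      rw [← map_mul, r2]
      exact ⟨mul_mem (p2.le this) (p2.le this), six a this⟩) fun c => by
      obtain ⟨t, ht⟩ := exists_prime_orderOf_dvd_card' 2 ev.two_dvd
      have h1 := ((r2 t).1 (mem_bot.1 (c.le ((e t).trans (p2.ge t.2))))).2
      have h2 := orderOf_dvd_of_pow_eq_one (x := t) (Subtype.ext h1)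
      rw [ht] at h2
      omega
  refine lift G A (by rw [← map_subtype_commutator, pf, ← MonoidHom.range_eq_map, range_subtype]) _
    (QuotientGroup.mk' O) (QuotientGroup.mk'_surjective O) ?_
    (fun k hk => ((QuotientGroup.eq_one_iff k).1 hk).1) _ _ _
    (a1 ▸ mod _ Q _ θ R hM _ _ rx ry _ α hα (z_mem hM rx ry))
  obtain ⟨n, hn⟩ := IsPGroup.iff_card.1 hO
  rw [QuotientGroup.ker_mk', hn]
  exact Odd.pow (by decide)

end Cfsg.Agent.H70.Be
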