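import Cfsg.Agent.H56.ZCDefs
import Cfsg.Agent.H57.ONS

/-!
Primitive groups with a doubly transitive subconstituent: the product action case.
-/

set_option autoImplicit false

namespace Cfsg.Agent.H70.ZCPa

open Subgroup Cfsg.Agent.H56.FS Cfsg.Agent.H56.ZC Cfsg.Agent.H57

universe u v

theorem pa (h : HamStmt.{u,v}) : PaStmt.{u,v} := by
  intro G Ω _ _ _ _ α β hP N hN hne T _ _ hT m hm e K hK
  have := hN.1
  have : Finite T := Finite.of_injective (fun t => e.symm fun _ => t)
    fun a b h => congrFun (e.symm.injective h) ⟨0, by omega⟩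
  have : Nontrivial (Fin m) := Fin.nontrivial_iff_two_le.2 hm
  let Y : Fin m → Subgroup N := fun j =>
    { carrier := {n | ∀ i ≠ j, e n i = 1}
      one_mem' := fun i _ => by simp
      mul_mem' := fun ha hb i hi => by simp [ha i hi, hb i hi]
      inv_mem' := fun ha i hi => by simp [ha i hi] }
  have hM : ∀ j (n : N), (n : G) ∈ (Y j).map N.subtype ↔ ∀ i ≠ j, e n i = 1 := fun j n =>
    mem_map_iff_mem N.subtype_injective
  have single : ∀ j t, ((e.symm (Pi.mulSingle j t) : N) : G) ∈ (Y j).map N.subtype := fun j t =>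
    (hM _ _).2 fun i hi => by simp [hi]
  refine h G Ω α β hP N hN hne m (fun j => (Y j).map N.subtype) (fun j => map_subtype_le _)
    (fun j => ?_) (fun j k => ?_) (fun g _ i => ?_) (fun g hg => ?_) ?_
  · have : (Y j).Normal := ⟨fun a ha g i hi => by simp [ha i hi]⟩
    intro g hg
    refine mem_normalizer_fintype ?_
    rintro _ ⟨a, ha, rfl⟩
    exact ⟨_, this.conj_mem a ha ⟨g, hg⟩, rfl⟩
  · obtain ⟨i, hi⟩ := exists_ne j
    obtain ⟨t, ht⟩ := exists_ne (1 : T)
    have := (hM j (e.symm (Pi.mulSingle i t))).1 (k.ge (SetLike.coe_mem _)) i hi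
    exact ht (by simpa using this)
  · obtain ⟨σ, hσ⟩ := exists_perm_coordRel hT (e.symm.trans ((MulAut.conjNormal g).trans e))
    have key : ∀ n : N, (∀ k ≠ i, e n k = 1) ↔ ∀ k ≠ σ i, e (MulAut.conjNormal g n) k = 1 := by
      intro n
      rw [σ.surjective.forall (p := fun k => k ≠ σ i → _)]
      refine forall_congr' fun k => imp_congr σ.injective.ne_iff.symm ?_
      obtain ⟨φ, hφ⟩ := hσ k
      have := hφ (e n)
      simp only [MulEquiv.trans_apply, MulEquiv.symm_apply_apply] at this
      rw [this, MulEquiv.map_eq_one_iff]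
    refine ⟨σ i, le_antisymm (cj_le_iff.2 ?_) ?_⟩
    · rintro _ ⟨a, ha, rfl⟩
      exact ⟨_, (key a).1 ha, rfl⟩
    · rintro _ ⟨a, ha, rfl⟩
      obtain ⟨a, rfl⟩ := (MulAut.conjNormal g : MulAut N).surjective a
      exact conj_mem_cj ⟨a, (key a).2 ha, rfl⟩
  · have := pi_mem_of_mulSingle_mem (H := (⨆ i, (Y i).map N.subtype ⊓ MulAction.stabilizer G α).comap
      (N.subtype.comp e.symm.toMonoidHom)) (e ⟨g, hg.1⟩) fun i =>
        mem_iSup_of_mem (S := fun i => (Y i).map N.subtype ⊓ MulAction.stabilizer G α) i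
          ⟨single i _, (hK _).2 fun k => by
            by_cases e' : k = i
            · subst e'
              simpa using (hK ⟨g, hg.1⟩).1 hg.2 k
            · simp [e']⟩
    simpa using this
  · rintro i j k hij _ ⟨x, hx, rfl⟩ _ ⟨y, hy, rfl⟩ _ ⟨w, hw, rfl⟩ hs
    have ij : i ≠ j := fun e => hij (by rw [e])
    have h1 := (hK (w⁻¹ * (x * y))).1 hs
    by_cases e' : k = i
    · subst e'
      refine Or.inr ((hK y).2 fun l => ?_)
      by_cases e'' : l = j
      · subst e''
        simpa [hx l ij.symm, hw l ij.symm] using h1 l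
      · simp [hy l e'']
    · refine Or.inl ((hK x).2 fun l => ?_)
      by_cases e'' : l = i
      · subst e''
        simpa [hy l ij, hw l (Ne.symm e')] using h1 l
      · simp [hx l e'']

end Cfsg.Agent.H70.ZCPa
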