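import Cfsg.Agent.H70.TSd1

/-!
# TSTC1: the start for `²Dₙ(2)`
-/

set_option autoImplicit false
set_option linter.unusedSectionVars false

namespace Cfsg.Agent.H70.TSD

open Cfsg Cfsg.Agent.H63 Cfsg.Agent.H63.SL Cfsg.Agent.H34 Cfsg.Agent.H40 Cfsg.Agent.H34.TW
  Cfsg.Agent.H40.LF Cfsg.Agent.H70.SL Cfsg.Agent.H70.TS Subgroup Equiv
open Cfsg.Agent.H37.Kit (diag_pair diag_pos diag_ht diag_top ht_sum)
open Cfsg.Agent.H8 (IsSylowIn)
open Cfsg.Agent.H35.D2 (FY1 Sta1 FYMStmt TStc1Stmt bet S1)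
open scoped commutatorElement

universe u v w

variable {ι Φ : Type} [Fintype ι] [DecidableEq ι] {R : RS ι Φ} {γ : Perm Φ}
  {F E : Type v} [Field F] [Field E] [Finite F] [Finite E] {i : F →+* E} {σ : E ≃+* E}
  {G : Type u} [Group G] [Finite G] {M : Type w} [Group M] [Finite M] {L : Subgroup G}
  {xl : Φ → F → G} {xs : Φ → E → G} {x : Φ → E → M} {τ : M} {π : G → M} {α β δ : Φ} {j : ι} {t : G}
  {W : Type v} [AddCommGroup W] [Module F W] {p : G → W} {B : W →ₗ[F] W →ₗ[F] F} {Qf : W → F}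
  {ι0 Φ0 : Type} [Fintype ι0] [DecidableEq ι0] {R0 : RS ι0 Φ0} {e : Φ0 → Φ} {h : G} {χ : Φ → E}

set_option hygiene false in
local notation "𝐐" => TU γ xl xs {s | 0 < RS.pair R α s}
set_option hygiene false in
local notation "𝐙" => XR xl α
set_option hygiene false in
local notation "𝐘" => YZ L (XR xl α)
set_option hygiene false in
local notation "𝐔" => TU γ xl xs {r | RS.Pos R r}
set_option hygiene false in
local notation "𝐕" => TU γ xl xs {s | 0 ≤ RS.pair R α s ∧ s ≠ δ ∧ s ≠ RS.neg R δ}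

theorem act_comm' {Q Z : Subgroup G} {ζ : F → G} (h : Heis L Q Z ζ p B Qf) {a b : G}
    {S T : W →ₗ[F] W} (hS : Act Q p a S) (hT : Act Q p b T)
    (hc : ∀ y ∈ Q, Commute ⁅a, b⁆ y) (w : W) : S (T w) = T (S w) := by
  have h1 := hT.mul h hS
  have h2 : Act Q p (a * b) (T ∘ₗ S + S + T) := fun y hy => by
    have e : a * b = ⁅a, b⁆ * (b * a) := by simp only [commutatorElement_def]; group
    rw [e, SL.mul_comm', commutatorElement_eq_one_iff_commute.mpr (hc y hy), mul_one,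
      (hc _ (h1 y hy).1).eq, mul_inv_cancel_right]
    exact h1 y hy
  have := LinearMap.congr_fun ((hS.mul h hT).uniq h h2) w
  simp only [LinearMap.add_apply, LinearMap.comp_apply] at this
  rw [add_assoc, add_assoc, add_comm (T w)] at this
  exact add_right_cancel this

namespace Cy

variable (c : Cy R γ i σ L xl xs x τ π α β δ j t p B Qf) (hT : Tor γ L xl xs h χ)
include c hT

theorem reg : Reg γ L xl xs (zpowers h) := by
  refine ⟨zpowers_le.mpr hT.mem, ?_, fun r hr a => memCT.mpr (hT.cl r hr a).symm, fun g hg ρ hρ => ?_,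
    fun ρ hρ => ⟨h, mem_zpowers h, fun e => ?_⟩⟩
  · rw [Nat.card_zpowers]
    have h1 := c.zodd (pow_mem hT.mem 3) (c.tor_cube hT)
    have h2 : orderOf h ∣ 3 * orderOf (h ^ 3) :=
      orderOf_dvd_of_pow_eq_one (by rw [pow_mul, pow_orderOf_eq_one])
    exact (Odd.mul (by decide) h1).of_dvd_nat h2
  · obtain ⟨n, rfl⟩ := (mem_powers_iff_mem_zpowers.mpr hg)
    exact ⟨χ ρ ^ n, hT.pow hρ n⟩
  · rw [hT.cs ρ hρ, mul_one] at e
    exact hT.ne ρ hρ (c.s_inj hρ e)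

/-- A root element of `L` centralizing the torus is a root element of `L0`. -/
theorem root0 {y : G} (hy : RR L xl α β y) (hc : Commute y h) :
    ∃ u ∈ 𝐔, Commute u h ∧ ∃ s, γ s = s ∧ y = u * xl s 1 * u⁻¹ := by
  obtain ⟨l, hl, e1⟩ := c.RR_root hy
  obtain ⟨u0, hu0, s, hs, e2⟩ := c.kit.rs β c.lb l (le_normalizer hl)
  have h1 : u0⁻¹ * y * u0 ∈ XR xl s := by
    rw [← H37.Kit.mem_cj, ← e2, H37.Kit.mem_cj, e1]
    convert x_mem_XR (x := xl) β 1 using 1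
    group
  have h2 : XR xl s ≤ zpowers (xl s 1) := (closure_le _).mpr (by
    rintro _ ⟨a, rfl⟩
    rcases two_cases c.two a with rfl | rfl
    · rw [c.l0 hs]; exact one_mem _
    · exact mem_zpowers _)
  have h3 : u0 * xl s 1 * u0⁻¹ = y := by
    obtain ⟨n, hn⟩ := mem_powers_iff_mem_zpowers.mpr (h2 h1)
    have hn' : xl s 1 ^ n = u0⁻¹ * y * u0 := hn
    rcases Nat.even_or_odd' n with ⟨k, rfl | rfl⟩
    · rw [pow_mul, pow_two, (c.mod.lmem s 1).2, one_pow, eq_comm, conj_inv_eq_one_iff, e1,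
        conj_eq_one_iff] at hn'
      exact absurd (hn' ▸ one_mem _) c.b_notMem
    · rw [pow_succ, pow_mul, pow_two, (c.mod.lmem s 1).2, one_pow, one_mul] at hn'
      rw [hn']; group
  let S : Set G := {u | u ∈ 𝐔 ∧ u * xl s 1 * u⁻¹ = y}
  have hcard : Nat.card S = Nat.card ↥(𝐔 ⊓ C1[xl s 1]) := Nat.card_congr
    ⟨fun u => ⟨u0⁻¹ * u, mem_inf.mpr ⟨mul_mem (inv_mem hu0) u.2.1, memC1.mpr
        (mul_inv_eq_iff_eq_mul.mp (by
          calc _ = u0⁻¹ * (u * xl s 1 * (u : G)⁻¹) * u0 := by group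
            _ = _ := by rw [u.2.2, ← h3]; group))⟩⟩,
      fun u => ⟨u0 * u, mul_mem hu0 u.2.1, by
        rw [mul_assoc u0, (memC1.mp u.2.2).eq, ← h3]; group⟩,
      fun y => Subtype.ext (mul_inv_cancel_left _ _), fun y => Subtype.ext (inv_mul_cancel_left _ _)⟩
  have : Fact (Nat.Prime 3) := ⟨Nat.prime_three⟩
  obtain ⟨u, hu, e3⟩ := fix_lemma S (fun u => h * u * h⁻¹) (p := 3) (n := 1)
    (fun u hu => ⟨conjN (hT.norm _) hu.1, by
      calc _ = h * (u * (h⁻¹ * xl s 1 * h) * u⁻¹) * h⁻¹ := by group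
        _ = _ := by
          rw [mul_assoc h⁻¹, ← (hT.cl s hs 1).eq, inv_mul_cancel_left, hu.2, ← hc.eq,
            mul_inv_cancel_right]⟩)
    (fun u hu => by
      rw [iter_conj, pow_one, (memC.mp (c.tor_cube hT) u (c.kit.syl.le hu.1)).eq,
        mul_inv_cancel_right])
    (by rw [hcard]; exact not_three_dvd (c.kit.syl.isPGroup.to_le inf_le_left))
  exact ⟨u, hu.1, (Commute.symm (mul_inv_eq_iff_eq_mul.mp e3)), s, hs, hu.2.symm⟩

variable (s : Sub R γ R0 e)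
include s

theorem pin0 : Pin R0 (x0 hT s) where
  two := c.qf.twoF
  add r a b := Subtype.ext (c.tp.addl _ (Sub.long s r) a b)
  com r r' h0 a b := Subtype.ext
    (c.tp.ll0 _ _ (Sub.long s r) (Sub.long s r') (by rw [s.pair]; exact h0) a b).eq
  rel r r' k h0 a b := Subtype.ext (c.tp.ll1 _ _ _ (Sub.long s r) (Sub.long s r') (by
    have hR := H80.SL.root R0 s.lace
    obtain ⟨k', hk'⟩ := ex_sum c.tl (r := e r) (s := e r')
      (by rw [s.pair]; exact (hR.sum r r').mpr ⟨k, h0⟩)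
    have := padd c.tl (e k) hk'
    rw [s.pair, s.pair, ← hR.pair_add k r r' k h0, R0.pair_self] at this
    rw [← eq2 c.tl this.ge, hk']) a b)
  inj r a h0 := c.tp.injl _ (Sub.long s r) a (congrArg Subtype.val h0)

theorem mod0 : Mod R0 (UU (x0 hT s) Set.univ) (x0 hT s) := H35.PinM.mod_UU s.lace (c.pin0 hT s)

theorem mem_U0 {y : C[zpowers h]} : y ∈ Up R0 (x0 hT s) ↔ (y : G) ∈ 𝐔 := by
  rw [Up, mem_UU0 hT s (S := {r | R.Pos r}) (S0 := {r | R0.Pos r}) fun r => (s.pos r).symm,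
    ← c.kit.fu _ (c.reg hT) {r | R.Pos r} (fun _ h => h) (fun r hr => diag_pos c.tl.diag hr)
      (H37.Kit.ideal_clo H37.Kit.ideal_pos)]
  exact and_iff_left y.2

variable {α0 : Φ0} (h0 : e α0 = α)
include h0

theorem mem_Q0 {y : C[zpowers h]} : y ∈ QR R0 (x0 hT s) α0 ↔ (y : G) ∈ 𝐐 := by
  rw [QR, mem_UU0 hT s (S := {r | 0 < R.pair α r}) fun r => by
      rw [← h0]; simp only [Set.mem_ofPred_eq, s.pair],
    ← c.kit.fu _ (c.reg hT) {r | 0 < R.pair α r} (fun _ h => pos_of c.tl c.top h)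
      (fun r hr => by simpa only [Set.mem_ofPred_eq, lpair c.tl c.la] using hr)
      (lin_pair α).clo_pos]
  exact and_iff_left y.2

omit hT in
theorem top0 : Top R0 α0 :=
  ⟨(s.pos _).mp (h0 ▸ c.top.1), fun r hr => by
    rw [← s.pair, h0]; exact c.top.2 _ ((s.pos r).mpr hr)⟩

theorem root_conj {g y : C[zpowers h]} (hg : (g : G) ∈ N[𝐕]) (hy : y ∈ QR R0 (x0 hT s) α0)
    (hr : y ∈ Root (UU (x0 hT s) Set.univ) (x0 hT s)) :
    g * y * g⁻¹ ∈ Root (UU (x0 hT s) Set.univ) (x0 hT s) := by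
  have := s.lace.fin
  have hM := c.mod0 hT s
  have hR := H80.SL.root R0 s.lace
  have ht := c.top0 s h0
  obtain ⟨u, hu, r, a, ha, e1⟩ := H37.Kit.root_eq hM hR
    (nn_of_pin H80.SL.pin s.lace hM.pin) ht hr
  obtain rfl := (two_cases c.two a).resolve_left ha
  have h1 : 0 < R0.pair α0 r := H37.Kit.lead hR hM (H89.SLH.ideal_Q hR ht) ha hu (e1 ▸ hy)
  rcases H89.SLH.pos_cases hR h1 with rfl | h2
  · rw [← (H37.Kit.top_comm hM.pin ht hu 1).eq, mul_inv_cancel_right] at e1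
    have : g * y * g⁻¹ = y := Subtype.ext (by
      have h3 : (y : G) = xl α 1 := by rw [e1, ← h0]; rfl
      simp only [coe_mul, coe_inv]
      rw [h3, (memC.mp (c.NYZ hg) _ (ζZ c.heis 1)).eq, mul_inv_cancel_right])
    rwa [this]
  · have h3 : RR L xl α β (y : G) := by
      rw [e1]
      exact c.RR_Y (c.RR_long (Sub.long s r) (by rw [← h0, s.pair, h2]))
        (c.UY ((c.mem_U0 hT s).mp hu))
    obtain ⟨v, hv, hv', r', hr', e2⟩ := c.root0 hT (c.RR_conj h3 hg) (memCT.mp (g * y * g⁻¹).2)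
    obtain ⟨r0, rfl⟩ := (s.rng r').mp hr'
    exact ⟨⟨v, memCT.mpr hv'⟩, UU_sub ((c.mem_U0 hT s (y := ⟨v, memCT.mpr hv'⟩)).mpr hv)
      fun _ _ => trivial, r0, 1, one_ne_zero, Subtype.ext e2⟩

theorem stc0 (hS : StcStmt.{u, v}) {g : G} (hg : Commute g h) (hgz : Commute g (xl α 1))
    (e1 : g * t * g⁻¹ = t * xl α 1) :
    ∃ g, Commute g h ∧ (∀ y ∈ 𝐐, Commute y h → Commute g y) ∧ g * t * g⁻¹ = t * xl α 1 := by
  have hM := c.mod0 hT s
  let t0 : C[zpowers h] := ⟨t, memCT.mpr (memC.mp c.tc.tc h hT.mem)⟩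
  have hz : ((x0 hT s α0 1 : C[zpowers h]) : G) = xl α 1 := by rw [← h0]; rfl
  obtain ⟨g0, h1, h2⟩ := hS R0 s.lace s.gam _ _ hM (H37.Kit.kit R0 s.lace _ _ hM) c.two t0
    (memC.mpr fun y hy => commute_UU (fun r _ a => Subtype.ext
      (memC.mp c.tc.tc _ (c.mod.xl_mem (e r) a)).eq) hy) α0 (c.top0 s h0) (fun g hg e2 => by
      have h1 : (g : G) ∈ N[𝐕] := c.sta.s3 g
        (memC1.mpr (hz ▸ congrArg Subtype.val (memC1.mp hg).eq))
        (hz ▸ congrArg Subtype.val e2)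
      refine ⟨mem_normalizer_iff.mpr fun y => ?_, fun y hy => ⟨c.root_conj hT s h0 h1 hy, fun hr => ?_⟩⟩
      · rw [c.mem_Q0 hT s h0, c.mem_Q0 hT s h0]
        exact mem_normalizer_iff.mp (c.NYQ h1) y
      · have := c.root_conj hT s h0 (g := g⁻¹) (inv_mem h1)
          ((c.mem_Q0 hT s h0).mpr (conjN (c.NYQ h1) ((c.mem_Q0 hT s h0).mp hy))) hr
        simpa only [inv_inv, mul_assoc, inv_mul_cancel_left, inv_mul_cancel, mul_one] using this)
    ⟨⟨g, memCT.mpr hg⟩, memC1.mpr (Subtype.ext (by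
      simp only [coe_mul]
      rw [hz]
      exact hgz.eq)), Subtype.ext (by simp only [coe_mul, coe_inv]; rw [hz]; exact e1)⟩
  refine ⟨g0, memCT.mp g0.2, fun y hy hc => ?_, hz ▸ congrArg Subtype.val h2⟩
  exact congrArg Subtype.val
    (memC.mp h1 ⟨y, memCT.mpr hc⟩ ((c.mem_Q0 hT s h0).mpr hy)).eq

theorem cn0 {k : G} (hk : k ∈ N[L]) (hc : Commute k h) (hQ : ∀ y ∈ 𝐐, Commute y h → Commute k y) :
    ∃ u ∈ 𝐐, Commute u h ∧ ∃ k' ∈ C[L0 γ xl], k = u * k' := by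
  have := s.lace.fin
  have hM := c.mod0 hT s
  have hL : ∀ y : C[zpowers h], y ∈ UU (x0 hT s) Set.univ ↔ (y : G) ∈ L0 γ xl := fun y => by
    rw [mem_UU0 hT s (S := Set.univ) (S0 := Set.univ) fun _ => Iff.rfl]
    simp only [L0, Set.mem_univ, true_and]
  have hN := c.kit.fc _ (c.reg hT) k ⟨hk, memCT.mpr hc⟩
  obtain ⟨u, hu, k', hk', e1⟩ := cn (H80.SL.root R0 s.lace) hM (nn_of_pin H80.SL.pin s.lace hM.pin)
    (lin_pair α0) ⟨α0, by rw [R0.pair_self]; decide⟩ (g := ⟨k, memCT.mpr hc⟩)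
    (mem_normalizer_iff.mpr fun y => by
      rw [hL, hL]; exact mem_normalizer_iff.mp hN y) fun r hr a => by
      have h1 := hQ _ ((c.mem_Q0 hT s h0).mp (x_mem_UU (A := {s | 0 < R0.pair α0 s}) hr a))
        (memCT.mp (x0 hT s r a).2)
      rw [commutatorElement_eq_one_iff_commute.mpr (Subtype.ext h1.eq)]
      exact one_mem _
  refine ⟨u, (c.mem_Q0 hT s h0).mp hu, memCT.mp u.2, k', memC.mpr fun y hy => ?_,
    congrArg Subtype.val e1⟩
  refine commute_UU (fun r hr a => ?_) hy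
  obtain ⟨r0, rfl⟩ := (s.rng r).mp hr
  exact congrArg Subtype.val (memC.mp hk' _ (x_mem_UU (Set.mem_univ r0) a)).eq

end Cy

namespace Cy

variable (c : Cy R γ i σ L xl xs x τ π α β δ j t p B Qf) (hT : Tor γ L xl xs h χ)
include c hT

omit hT in
theorem slev {ρ : Φ} (hρ : γ ρ ≠ ρ) (h0 : 0 < R.pair α ρ) : R.pair α ρ = 1 :=
  (c.lev h0).resolve_left fun e => hρ (e ▸ c.la)

omit hT in
theorem p_add {ρ : Φ} (hρ : γ ρ ≠ ρ) (h1 : R.pair α ρ = 1) (a b : E) :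
    p (xs ρ (a + b)) = p (xs ρ a) + p (xs ρ b) := by
  rw [c.tp.adds ρ hρ, c.heis.πmul _ (c.sQ hρ h1 a) _ (c.sQ hρ h1 b)]

theorem chi_ne {ρ : Φ} (hρ : γ ρ ≠ ρ) : χ ρ + 1 ≠ 0 := fun e => hT.ne ρ hρ (by
  have := c.qf.add_self 1
  linear_combination e - this)

theorem hN : h ∈ N[L] ⊓ C[𝐙] := ⟨le_normalizer hT.mem, c.CZ (hT.cl α c.la 1)⟩

theorem Sh {S : W →ₗ[F] W} (hS : Act 𝐐 p h S) {ρ : Φ} (hρ : γ ρ ≠ ρ) (h1 : R.pair α ρ = 1) (b : E) :
    S (p (xs ρ b)) = p (xs ρ ((χ ρ + 1) * b)) := by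
  have := hS.conj c.heis (c.sQ hρ h1 b)
  rw [hT.cs ρ hρ] at this
  rw [add_mul, one_mul, c.p_add hρ h1, this, add_assoc, w2 c.heis, add_zero]

theorem fix_short {u : G} (hu : u ∈ 𝐐) (hc : Commute u h) {ρ : Φ} (hρ : γ ρ ≠ ρ)
    (h1 : R.pair α ρ = 1) (b : E) : Commute u (xs ρ b) := by
  obtain ⟨S, hS⟩ := exists_act c.heis (c.hN hT)
  have h2 := hS.presB c.heis (c.hN hT) (p u) (p (xs ρ (b / (χ ρ + 1))))
  rw [hS.ker_of c.heis hu (commutatorElement_eq_one_iff_commute.mpr hc.symm ▸ one_mem _), zero_add,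
    map_add, c.Sh hT hS hρ h1, mul_div_cancel₀ _ (c.chi_ne hT hρ)] at h2
  exact (commuteQ c.heis hu (c.sQ hρ h1 b)).mpr (add_eq_right.mp h2)

variable (s : Sub R γ R0 e) {α0 : Φ0} (h0 : e α0 = α) {g : G} (hg : g ∈ N[𝐕]) (hc : Commute g h)
  (hQ : ∀ y ∈ 𝐐, Commute y h → Commute g y) (ht : g * t * g⁻¹ = t * xl α 1)
include s h0 hg hc hQ ht

theorem comm_m {m : Φ} (hm : γ m = m) (h1 : R.pair α m = 0) :
    ∀ y ∈ 𝐐, Commute ⁅g, xl m 1⁆ y := by
  have hY := c.lY hm h1.ge 1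
  have hx := (hT.cl m hm 1).symm
  have hk : ⁅g, xl m 1⁆ ∈ N[L] := by
    refine mul_mem (c.tc.cN (memC1.mpr ?_)) (inv_mem (le_normalizer (c.YL hY)))
    have a1 := (memC.mp c.tc.tc _ (c.YL hY)).symm.map (MulAut.conj g)
    have a2 := (memC.mp (c.YC hY) _ (ζZ c.heis 1)).map (MulAut.conj g)
    simp only [MulAut.conj_apply] at a1 a2
    rw [(memC.mp (c.NYZ hg) _ (ζZ c.heis 1)).eq, mul_inv_cancel_right] at a2
    have := a1.mul_right a2.inv_right
    rwa [ht, mul_inv_cancel_right] at this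
  have kh : Commute ⁅g, xl m 1⁆ h := ((hc.mul_left hx).mul_left hc.inv_left).mul_left hx.inv_left
  have kQ : ∀ y ∈ 𝐐, Commute y h → Commute ⁅g, xl m 1⁆ y := fun y hy hy' => by
    have h2 := (hQ _ (conjN (c.NYQ (c.YV (inv_mem hY))) hy)
      ((hx.inv_left.mul_left hy').mul_left hx.inv_left.inv_left)).inv_left.map
      (MulAut.conj (xl m 1))
    simp only [MulAut.conj_apply, inv_inv, mul_assoc, mul_inv_cancel_left, mul_inv_cancel,
      mul_one] at h2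
    have := (hQ y hy hy').mul_left h2
    simpa only [commutatorElement_def, mul_assoc] using this
  obtain ⟨u, hu, uh, k, hk', e1⟩ := c.cn0 hT s h0 hk kh kQ
  have kl : ∀ r, γ r = r → ∀ a, Commute k (xl r a) := fun r hr a =>
    memC.mp hk' _ (x_mem_UU (x := xl) (A := {r | γ r = r}) hr a)
  have hu' : u ∈ 𝐙 := mem_Z_of c.heis hu fun y hy => commute_TU (fun r hr e2 a => by
    have := (kQ _ (xl_mem_TU hr e2 a) (hT.cl r e2 a).symm).mul_left (kl r e2 a).inv_left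
    rwa [e1, mul_inv_cancel_right] at this)
    (fun r hr e2 a => c.fix_short hT hu uh e2 (c.slev e2 hr) a) hy
  have e2 : k = u⁻¹ * ⁅g, xl m 1⁆ := by rw [e1]; group
  have kL : k ∈ N[L] := e2 ▸ mul_mem (inv_mem (le_normalizer (c.heis.QL hu))) hk
  have ku : Commute k u := by
    obtain ⟨a, rfl⟩ := (c.heis.ζmem _).mp hu'
    exact kl α c.la a
  have xu : Commute (xl m 1) u := memC.mp (c.YC hY) u hu'
  have k2 : k * k = 1 := by
    have h2 : (u * k * xl m 1) ^ 2 = 1 := by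
      rw [← e1, ← conj_eq, conj_pow, pow_two, (c.mod.lmem m 1).2]; group
    rwa [(xu.symm.mul_left (kl m hm 1)).mul_pow, ku.symm.mul_pow, pow_two u, pow_two (xl m 1),
      Zsq c.heis hu', (c.mod.lmem m 1).2, one_mul, mul_one, pow_two] at h2
  have k1 : k ∈ C[L] := c.kit.fr _ (c.reg hT) k
    ⟨kL, memCT.mpr (e2 ▸ uh.inv_left.mul_left kh)⟩ (is2_of_sq k2) hk'
  intro y hy
  rw [e1]
  exact (Zcomm c.heis hu' hy).mul_left (memC.mp k1 y (c.heis.QL hy))

/-- `g` acts on the image of a short root subgroup as a scalar. -/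
theorem scalar {ρ : Φ} (hρ : γ ρ ≠ ρ) (h1 : R.pair α ρ = 1) {S : W →ₗ[F] W} (hS : Act 𝐐 p g S) :
    ∃ l : E, l ^ 3 = 1 ∧ ∀ b, S (p (xs ρ b)) + p (xs ρ b) = p (xs ρ (l * b)) := by
  have H := c.heis
  have h4 : Nat.card E = 4 := by rw [c.qf.card, c.two]; rfl
  obtain ⟨κ, hκ⟩ := c.tl.exists_diff (r := α) (s := γ ρ) (by rw [lpair c.tl c.la, h1])
  have sκ : γ κ ≠ κ := fun e => c.tl.short_add e (c.tl.short_γ hρ) (hκ.trans (add_comm _ _)) c.la
  have pκ : R.pair α κ = 1 := by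
    have := padd c.tl α hκ
    rw [R.pair_self, lpair c.tl c.la] at this
    omega
  have hκ' : R.rc α = R.rc ρ + R.rc (γ κ) := by
    have := c.tl.γ_sum hκ
    rwa [c.la, c.tl.sq] at this
  obtain ⟨m, hm⟩ := c.tl.exists_diff (r := ρ) (s := κ) (by
    have := padd c.tl ρ hκ
    rw [sym c.tl ρ α, c.tl.orth ρ hρ] at this
    omega)
  have hm' := hm.trans (add_comm _ _)
  have lm : γ m = m := R.rc_inj (by
    have := c.tl.γ_sum hm
    linear_combination hκ' - hκ - this + hm)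
  have pm : R.pair α m = 0 := by have := padd c.tl α hm; omega
  have hY := c.lY lm pm.ge 1
  obtain ⟨Sx, hSx⟩ := exists_act H (c.YN hY)
  obtain ⟨Sh, hSh⟩ := exists_act H (c.hN hT)
  have cx := act_comm' H hS hSx (c.comm_m hT s h0 hg hc hQ ht lm pm)
  have ch := act_comm H hS hSh (commutatorElement_eq_one_iff_commute.mpr hc ▸ one_mem _)
  have v0 : p (xs ρ 0) = 0 := by
    have := c.p_add hρ h1 0 0
    rwa [add_zero, w2 H] at this
  have xrel : ∀ κ' k, γ κ' ≠ κ' → R.pair α κ' = 1 → R.rc k = R.rc m + R.rc κ' →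
      ∀ b, Sx (p (xs κ' b)) = p (xs k b) := fun κ' k a1 a2 a3 b => by
    obtain ⟨n, hn⟩ := c.qf.exists_norm b
    obtain ⟨m', hm'⟩ := c.tl.exists_ls lm a1 a3
    have a4 := padd c.tl α a3
    have a5 : m' = α := eq2 c.tl (by rw [padd c.tl α hm', lpair c.tl c.la]; omega)
    rw [← (hSx _ (c.sQ a1 a2 b)).2, c.tp.ls1 _ _ _ _ lm a1 a3 hm' 1 b n
      (by rw [map_one, one_mul, hn]), map_one, one_mul, a5,
      πmulζ H (c.sQ (c.tl.short_add lm a1 a3) (by omega) b)]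
  have im : ∀ w, ∃ b, Sx (Sh w) = p (xs ρ b) := fun w => by
    obtain ⟨y, hy, rfl⟩ := H.πsurj w
    induction hy using closure_induction with
    | mem y hy =>
      obtain ⟨r, hr, e1, a, rfl⟩ | ⟨r, hr, e1, a, rfl⟩ := hy
      · exact ⟨0, by rw [hSh.ker_of H (xl_mem_TU hr e1 a)
          (commutatorElement_eq_one_iff_commute.mpr (hT.cl r e1 a) ▸ one_mem _), map_zero, v0]⟩
      · have a1 := c.slev e1 hr
        rw [c.Sh hT hSh e1 a1]
        by_cases a2 : 0 ≤ R.pair m r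
        · exact ⟨0, by rw [hSx.ker_of H (c.sQ e1 a1 _) (commutatorElement_eq_one_iff_commute.mpr
            (c.tp.ls0 m r lm e1 a2 1 _) ▸ one_mem _), v0]⟩
        · have a3 := neg_one_le_pair (rf c.tl) (r := m) (s := r)
            fun e => e1 (e ▸ long_neg c.tl lm)
          obtain ⟨k, hk⟩ := ex_sum c.tl (r := m) (s := r) (by omega)
          rw [xrel r k e1 a1 hk]
          have b1 := padd c.tl α hk
          have b2 := padd c.tl m hk
          have b3 := padd c.tl k hκ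
          have b4 := padd c.tl k hm
          have b5 := c.tl.not_pp hρ (c.tl.short_add lm e1 hk)
          rw [R.pair_self] at b2
          rw [sym c.tl k α] at b3
          rw [sym c.tl k m, sym c.tl k ρ] at b4
          rw [← gpair' c.tl, sym c.tl (γ ρ)] at b5
          by_cases d1 : k = ρ
          · exact ⟨_, by rw [d1]⟩
          · by_cases d2 : γ ρ = k
            · refine ⟨σ ((χ r + 1) * a), ?_⟩
              rw [← d2, ← c.tp.sym ρ hρ, c.qf.sq]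
            · have := pair_le_one (rf c.tl) d1
              have := pair_le_one (rf c.tl) d2
              omega
    | one => exact ⟨0, by rw [π1 H, map_zero, map_zero, v0]⟩
    | mul a b ha hb h2 h3 =>
      obtain ⟨a', h2⟩ := h2
      obtain ⟨b', h3⟩ := h3
      exact ⟨a' + b', by rw [H.πmul a ha b hb, map_add, map_add, h2, h3, c.p_add hρ h1]⟩
    | inv a ha h2 => rwa [πinv H ha]
  have vinj : ∀ a b, p (xs ρ a) = p (xs ρ b) → a = b := fun a b e1 => by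
    have h2 : xs ρ (a + b) ∈ 𝐙 := by
      rw [← H.πker _ (c.sQ hρ h1 _), c.p_add hρ h1, e1, w2 H]
    by_contra hne
    have h3 : a + b ≠ 0 := fun e2 => hne (by
      have := c.qf.add_self b
      linear_combination e2 - this)
    obtain ⟨ω, hω⟩ := c.qf.exists_tr 1
    have sγ := c.tl.short_γ sκ
    have h5 := c.tp.ss2 ρ (γ κ) α hρ sγ hκ' ((c.tl.ss_cases hρ sγ hκ').resolve_left fun e =>
      c.tl.short_ss hρ sγ hκ' e c.la) (a + b) (ω / (a + b)) 1 (by rw [mul_div_cancel₀ _ h3, hω])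
    rw [commutatorElement_eq_one_iff_commute.mpr (Zcomm H h2
      (c.sQ sγ (by rw [lpair c.tl c.la, pκ]) _))] at h5
    exact one_ne_zero (H.ζinj 1 h5.symm)
  have hf : ∀ b, ∃ b', S (p (xs ρ b)) = p (xs ρ b') := fun b => by
    have := xrel κ ρ sκ pκ hm' b
    rw [← mul_div_cancel₀ b (c.chi_ne hT sκ), ← c.Sh hT hSh sκ pκ, mul_div_cancel₀ b (c.chi_ne hT sκ)] at this
    rw [← this, cx, ch]
    exact im _
  choose f hf using hf
  have fadd : ∀ a b, f (a + b) = f a + f b := fun a b =>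
    vinj _ _ (by rw [← hf, c.p_add hρ h1, map_add, hf, hf, c.p_add hρ h1])
  have fmul : ∀ b, f ((χ ρ + 1) * b) = (χ ρ + 1) * f b := fun b =>
    vinj _ _ (by rw [← hf, ← c.Sh hT hSh hρ h1, ch, hf, c.Sh hT hSh hρ h1])
  have flin : ∀ b, f b = f 1 * b := fun b => by
    have f1 := fmul 1
    rw [mul_one] at f1
    rcases four_cases h4 c.qf.two (hT.ne ρ hρ) (hT.cube ρ) b with e1 | e1 | e1 | e1 <;> rw [e1]
    · have := fadd 0 0
      rw [add_zero, c.qf.add_self] at this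
      rw [this, mul_zero]
    · rw [mul_one]
    · rw [f1, mul_comm]
    · rw [fadd, f1]; ring
  have key : ∀ b, S (p (xs ρ b)) + p (xs ρ b) = p (xs ρ ((f 1 + 1) * b)) := fun b => by
    rw [hf, ← c.p_add hρ h1, flin b, add_mul, one_mul]
  refine ⟨f 1 + 1, cube_one h4 fun e1 => ?_, key⟩
  have h2 := key 1
  rw [e1, zero_mul, v0, ← hS.conj H (c.sQ hρ h1 1), H.πker _ (hS.conjQ H (c.sQ hρ h1 1)),
    ← mem_normalizer_iff.mp (C_le_N _ (c.NYZ hg)), ← H.πker _ (c.sQ hρ h1 1), ← v0] at h2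
  exact one_ne_zero (vinj _ _ h2)

theorem cube_triv {y : G} (hy : y ∈ 𝐐) : ⁅g ^ 3, y⁆ ∈ 𝐙 := by
  have H := c.heis
  obtain ⟨S, hS⟩ := exists_act2 H (c.NYQ hg) (c.NYZ hg)
  induction hy using closure_induction with
  | mem y hy =>
    obtain ⟨r, hr, e1, a, rfl⟩ | ⟨r, hr, e1, a, rfl⟩ := hy
    · rw [commutatorElement_eq_one_iff_commute.mpr
        ((hQ _ (xl_mem_TU hr e1 a) (hT.cl r e1 a).symm).pow_left 3)]
      exact one_mem _
    · have h1 := c.slev e1 hr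
      obtain ⟨l, l3, hl⟩ := c.scalar hT s h0 hg hc hQ ht e1 h1 hS
      have q0 := c.sQ e1 h1 a
      have q1 := hS.conjQ H q0
      have q2 := hS.conjQ H q1
      have q3 := hS.conjQ H q2
      have e2 : ⁅g ^ 3, xs r a⁆ = g * (g * (g * xs r a * g⁻¹) * g⁻¹) * g⁻¹ * (xs r a)⁻¹ := by
        simp only [commutatorElement_def, pow_succ, pow_zero]; group
      rw [e2, ← H.πker _ (mul_mem q3 (inv_mem q0)), H.πmul _ q3 _ (inv_mem q0), πinv H q0,
        hS.conj H q2, hS.conj H q1, hS.conj H q0, hl, hl, hl,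
        show l * (l * (l * a)) = l ^ 3 * a by ring, l3, one_mul, w2 H]
  | one => rw [commutatorElement_one_right]; exact one_mem _
  | mul a b ha _ h1 h2 => exact c.UZ ha h1 h2
  | inv a ha h1 =>
    have : ⁅g ^ 3, a⁻¹⁆ = a⁻¹ * ⁅g ^ 3, a⁆⁻¹ * a⁻¹⁻¹ := by
      simp only [commutatorElement_def]; group
    rw [this]
    exact conjN (C_le_N _ (c.YC (c.UY (c.QU (inv_mem ha))))) (inv_mem h1)

end Cy

open Cfsg.Agent.H66.Dn in
theorem tstc1 (hY : FYMStmt.{u, v, w}) : TStc1Stmt.{u, v, w} := by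
  intro m F E _ _ _ _ i σ G _ _ M _ _ L xl xs x τ π hm two cx t3 t tc sta ⟨g, hg, e1⟩
  have hH : THeisStmt.{u, v, w} := H89.TWH.theis TW.tpin H38.TW.tkit
  obtain ⟨α, top, -⟩ := cx.kit.top
  obtain rfl := eq_top (by omega) top
  obtain ⟨W, _, _, p, B, Qf, heis, -, -⟩ := hH _ _ i σ L xl xs x τ π cx _ top
  have hj := pair_top (m := m) (by omega)
  obtain ⟨β, hβ⟩ := cx.tl.exists_diff (aj cx.tl top hj)
  have a1 : (R m).pair (bet m) (H66.Dn.top m) = 0 := by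
    rw [bet, H66.Dn.top, pair_rt]
    simp [ip, Fin.ext_iff]
  have a2 : (R m).pair (bet m) ((R m).simple ⟨m, by omega⟩) = -1 := by
    rw [bet, simple_eq, pair_rt]
    have b1 : max m 1 = m := by omega
    have b2 : m + 1 ≠ m - 1 := by omega
    have b3 : m ≠ m - 1 := by omega
    simp [ip, Fin.ext_iff, s1, s2, b1, b2, b3]
  have c : Cy (R m) (γ m) i σ L xl xs x τ π (H66.Dn.top m) β (bet m) ⟨m, by omega⟩ t p B Qf :=
    ⟨cx.tl, cx.qf, cx.mod, cx.tkit, two, t3, top, tc, hY m i σ L xl xs x τ π hm two cx, sta, heis,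
      hj, hβ, (long_rt _).2 ⟨by simp [Fin.ext_iff], by simp [Fin.ext_iff]; omega⟩,
      (pos_rt (by simp [Fin.lt_def])).2 rfl, by rw [sym cx.tl, a1], by
        have := padd cx.tl (bet m) hβ
        omega⟩
  obtain ⟨h, χ, hT, g1, h1, h2, h3⟩ := c.exists_g (sta.s3 g hg e1) e1
  obtain ⟨ι0, Φ0, _, _, R0, e, s⟩ := cx.tl.sub
  obtain ⟨α0, h0⟩ := (s.rng _).mp c.la
  obtain ⟨g2, h4, h5, h6⟩ := c.stc0 hT s h0 H75.SLQ.stc h1 h2 h3
  have h7 : Commute g2 (xl (H66.Dn.top m) 1) := h5 _ (ζQ heis 1) (hT.cl _ c.la 1).symm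
  have h8 := sta.s3 g2 (memC1.mpr h7) h6
  obtain ⟨y, hy, h9⟩ := inner heis two (pow_mem (c.NYZ h8) 3)
    fun y hy => c.cube_triv hT s h0 h8 h4 h5 h6 hy
  refine ⟨g2 ^ 3 * y, h9, ?_⟩
  rw [← pow_move h6 h7 c.z2 (m := 3) (by decide), mul_assoc (g2 ^ 3),
    ← (memC.mp tc.tc y (heis.QL hy)).eq]
  group

end Cfsg.Agent.H70.TSD
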