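import Mathlib
import Cfsg.Agent.H97.BcDefs

/-!
Piece ALPHA of project BC: the automorphism of order three of `C ⟨a, b⟩`.
-/

set_option autoImplicit false

namespace Cfsg.Agent.H70.BcA

open Cfsg Cfsg.Agent.H97 Cfsg.Agent.H97.Bc Subgroup

section nf
variable {G : Type*} [Group G] {C : Subgroup G} {a b ζ : G}

/-- normal form in `C ⟨a, b⟩` -/
def NF (C : Subgroup G) (a b q : G) : Prop :=
  ∃ h ∈ C, q = h ∨ q = h * a ∨ q = h * b ∨ q = h * (a * b)

theorem nf_of_mem (zC : ζ ∈ C) (aa : a * a = ζ) (bb : b * b = ζ) (ba : b * a = ζ * (a * b))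
    (ca : ∀ h ∈ C, Commute h a) (cb : ∀ h ∈ C, Commute h b) {q : G}
    (hq : q ∈ C ⊔ closure {a, b}) : NF C a b q := by
  have mC : ∀ q c, c ∈ C → NF C a b q → NF C a b (q * c) := by
    rintro q c hc ⟨h, hh, e⟩
    refine ⟨h * c, C.mul_mem hh hc, ?_⟩
    rcases e with rfl | rfl | rfl | rfl
    · exact Or.inl rfl
    · exact Or.inr (Or.inl (by rw [mul_assoc, ← (ca c hc).eq, mul_assoc]))
    · exact Or.inr (Or.inr (Or.inl (by rw [mul_assoc, ← (cb c hc).eq, mul_assoc])))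
    · exact Or.inr (Or.inr (Or.inr (by
        rw [mul_assoc, ← ((ca c hc).mul_right (cb c hc)).eq, mul_assoc h c])))
  have ma : ∀ q, NF C a b q → NF C a b (q * a) := by
    rintro q ⟨h, hh, e⟩
    rcases e with rfl | rfl | rfl | rfl
    · exact ⟨q, hh, Or.inr (Or.inl rfl)⟩
    · exact ⟨h * ζ, C.mul_mem hh zC, Or.inl (by rw [mul_assoc, aa])⟩
    · exact ⟨h * ζ, C.mul_mem hh zC, Or.inr (Or.inr (Or.inr (by rw [mul_assoc, ba, mul_assoc])))⟩
    · refine ⟨h * ζ * ζ, C.mul_mem (C.mul_mem hh zC) zC, Or.inr (Or.inr (Or.inl ?_))⟩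
      calc h * (a * b) * a = h * (a * (b * a)) := by simp only [mul_assoc]
        _ = h * ((a * ζ) * a * b) := by rw [ba]; simp only [mul_assoc]
        _ = h * ζ * (a * a) * b := by rw [← (ca ζ zC).eq]; simp only [mul_assoc]
        _ = h * ζ * ζ * b := by rw [aa]
  have mb : ∀ q, NF C a b q → NF C a b (q * b) := by
    rintro q ⟨h, hh, e⟩
    rcases e with rfl | rfl | rfl | rfl
    · exact ⟨q, hh, Or.inr (Or.inr (Or.inl rfl))⟩
    · exact ⟨h, hh, Or.inr (Or.inr (Or.inr (mul_assoc _ _ _)))⟩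
    · exact ⟨h * ζ, C.mul_mem hh zC, Or.inl (by rw [mul_assoc, bb])⟩
    · refine ⟨h * ζ, C.mul_mem hh zC, Or.inr (Or.inl ?_)⟩
      rw [mul_assoc, mul_assoc, bb, ← (ca ζ zC).eq, mul_assoc]
  have ms : ∀ q y, y ∈ (C : Set G) ∪ {a, b} → NF C a b q → NF C a b (q * y) := by
    rintro q y (hy | rfl | rfl) h
    exacts [mC q y hy h, ma q h, mb q h]
  rw [← Subgroup.closure_eq C, ← Subgroup.closure_union] at hq
  induction hq using closure_induction_right with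
  | one => exact ⟨1, C.one_mem, Or.inl rfl⟩
  | mul_right x _ y hy ih => exact ms x y hy ih
  | mul_inv_cancel x _ y hy ih =>
    rcases hy with hy | rfl | rfl
    · exact mC x _ (C.inv_mem hy) ih
    · have : y⁻¹ = y * ζ⁻¹ := by rw [← aa]; group
      rw [this, ← mul_assoc]
      exact mC _ _ (C.inv_mem zC) (ma x ih)
    · have : y⁻¹ = y * ζ⁻¹ := by rw [← bb]; group
      rw [this, ← mul_assoc]
      exact mC _ _ (C.inv_mem zC) (mb x ih)

end nf

section main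
variable {G : Type*} [Group G] {Q C : Subgroup G} {a b ζ : G}

theorem nf (h : AD Q C a b ζ) {q : G} (hq : q ∈ Q) : NF C a b q :=
  nf_of_mem h.zC h.aa h.bb h.ba h.ca h.cb (h.eq ▸ hq)

theorem CQ (h : AD Q C a b ζ) : C ≤ Q := h.eq ▸ le_sup_left

theorem aQ (h : AD Q C a b ζ) : a ∈ Q :=
  h.eq ▸ mem_sup_right (subset_closure (by simp))

theorem bQ (h : AD Q C a b ζ) : b ∈ Q :=
  h.eq ▸ mem_sup_right (subset_closure (by simp))

theorem bab (h : AD Q C a b ζ) : b * (a * b) = a := by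
  rw [← mul_assoc, h.ba, mul_assoc, mul_assoc, h.bb, ← (h.ca ζ h.zC).eq, ← mul_assoc, h.zz, one_mul]

theorem abab (h : AD Q C a b ζ) : a * b * (a * b) = ζ := by
  rw [mul_assoc, bab h, h.aa]

theorem central (h : AD Q C a b ζ) {c : G} (hc : c ∈ C) {q : G} (hq : q ∈ Q) : Commute c q := by
  obtain ⟨k, hk, rfl | rfl | rfl | rfl⟩ := nf h hq
  · exact h.cc c hc _ hk
  · exact (h.cc c hc _ hk).mul_right (h.ca c hc)
  · exact (h.cc c hc _ hk).mul_right (h.cb c hc)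
  · exact (h.cc c hc _ hk).mul_right ((h.ca c hc).mul_right (h.cb c hc))

theorem gen_ext (h : AD Q C a b ζ) {f g : G → G} (hf : HomOn Q f) (hg : HomOn Q g)
    (e1 : ∀ c ∈ C, f c = g c) (e2 : f a = g a) (e3 : f b = g b) : ∀ x ∈ Q, f x = g x := by
  intro x hx
  have ha := aQ h
  have hb := bQ h
  obtain ⟨k, hk, rfl | rfl | rfl | rfl⟩ := nf h hx
  · exact e1 _ hk
  · rw [hf _ (CQ h hk) _ ha, hg _ (CQ h hk) _ ha, e1 _ hk, e2]
  · rw [hf _ (CQ h hk) _ hb, hg _ (CQ h hk) _ hb, e1 _ hk, e3]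
  · rw [hf _ (CQ h hk) _ (Q.mul_mem ha hb), hg _ (CQ h hk) _ (Q.mul_mem ha hb), hf _ ha _ hb,
      hg _ ha _ hb, e1 _ hk, e2, e3]

theorem exists_alpha (h : AD Q C a b ζ) :
    ∃ α : MulAut Q, (∀ c ∈ C, ext α c = c) ∧ ext α a = b ∧ ext α b = a * b := by
  let C' : Subgroup (G × G) := C.map ((MonoidHom.id G).prod (MonoidHom.id G))
  have mC : ∀ {d : G × G}, d ∈ C' ↔ ∃ c ∈ C, d = (c, c) :=
    ⟨fun ⟨c, hc, e⟩ => ⟨c, hc, e.symm⟩, fun ⟨c, hc, e⟩ => ⟨c, hc, e.symm⟩⟩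
  let D : Subgroup (G × G) := C' ⊔ closure {(a, b), (b, a * b)}
  have d0 : ∀ c ∈ C, (c, c) ∈ D := fun c hc => mem_sup_left (mC.2 ⟨c, hc, rfl⟩)
  have d1 : (a, b) ∈ D := mem_sup_right (subset_closure (by simp))
  have d2 : (b, a * b) ∈ D := mem_sup_right (subset_closure (by simp))
  have d3 : (a * b, a) ∈ D := by
    have := D.mul_mem d1 d2
    rwa [Prod.mk_mul_mk, bab h] at this
  have key : ∀ d ∈ D, ∃ c ∈ C, d = (c, c) ∨ d = (c * a, c * b) ∨ d = (c * b, c * (a * b)) ∨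
      d = (c * (a * b), c * a) := by
    intro d hd
    obtain ⟨k, hk, e⟩ := nf_of_mem (C := C') (ζ := (ζ, ζ)) (mC.2 ⟨ζ, h.zC, rfl⟩)
      (by rw [Prod.mk_mul_mk, h.aa, h.bb]) (by rw [Prod.mk_mul_mk, h.bb, abab h])
      (by
        rw [Prod.mk_mul_mk, Prod.mk_mul_mk, Prod.mk_mul_mk, bab h, h.ba, mul_assoc a b b, h.bb,
          (h.ca ζ h.zC).eq])
      (fun k hk => by
        obtain ⟨c, hc, rfl⟩ := mC.1 hk
        exact Prod.ext (h.ca c hc).eq (h.cb c hc).eq)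
      (fun k hk => by
        obtain ⟨c, hc, rfl⟩ := mC.1 hk
        exact Prod.ext (h.cb c hc).eq ((h.ca c hc).mul_right (h.cb c hc)).eq) hd
    obtain ⟨c, hc, rfl⟩ := mC.1 hk
    refine ⟨c, hc, ?_⟩
    simpa only [Prod.mk_mul_mk, bab h] using e
  have ha := aQ h
  have hb := bQ h
  have hab := Q.mul_mem ha hb
  have n1 : ∀ c ∈ C, ∀ w, w ∉ C → c * w ≠ 1 := fun c hc w hw e =>
    hw (by rw [eq_inv_of_mul_eq_one_right e]; exact C.inv_mem hc)
  obtain ⟨θ, θ', hθ, e⟩ := exists_gIso_of_graph (S := Q) (S' := Q) D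
    (fun x => ⟨fun hx => by
      obtain ⟨k, hk, rfl | rfl | rfl | rfl⟩ := nf h hx
      exacts [⟨_, d0 _ hk⟩, ⟨_, D.mul_mem (d0 _ hk) d1⟩, ⟨_, D.mul_mem (d0 _ hk) d2⟩,
        ⟨_, D.mul_mem (d0 _ hk) d3⟩], fun ⟨y, hy⟩ => by
      obtain ⟨k, hk, e | e | e | e⟩ := key _ hy <;> rw [(Prod.mk.inj e).1]
      exacts [CQ h hk, Q.mul_mem (CQ h hk) ha, Q.mul_mem (CQ h hk) hb, Q.mul_mem (CQ h hk) hab]⟩)
    (fun x => ⟨fun hx => by
      obtain ⟨k, hk, rfl | rfl | rfl | rfl⟩ := nf h hx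
      exacts [⟨_, d0 _ hk⟩, ⟨_, D.mul_mem (d0 _ hk) d3⟩, ⟨_, D.mul_mem (d0 _ hk) d1⟩,
        ⟨_, D.mul_mem (d0 _ hk) d2⟩], fun ⟨y, hy⟩ => by
      obtain ⟨k, hk, e | e | e | e⟩ := key _ hy <;> rw [(Prod.mk.inj e).2]
      exacts [CQ h hk, Q.mul_mem (CQ h hk) hb, Q.mul_mem (CQ h hk) hab, Q.mul_mem (CQ h hk) ha]⟩)
    (fun d hd => by
      obtain ⟨k, hk, rfl | rfl | rfl | rfl⟩ := key _ hd
      · rfl
      · exact iff_of_false (n1 _ hk _ h.aC) (n1 _ hk _ h.bC)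
      · exact iff_of_false (n1 _ hk _ h.bC) (n1 _ hk _ h.abC)
      · exact iff_of_false (n1 _ hk _ h.abC) (n1 _ hk _ h.aC))
  obtain ⟨α, hα⟩ := hθ.hom.exists_aut hθ.injOn hθ.img_eq
  exact ⟨α, fun c hc => (hα c (CQ h hc)).trans (e _ (d0 c hc)), (hα a ha).trans (e _ d1),
    (hα b hb).trans (e _ d2)⟩

/-- equality up to the central involution -/
def Sim (ζ x y : G) : Prop := x = y ∨ x = ζ * y

theorem Sim.trans (zz : ζ * ζ = 1) {x y z : G} (h1 : Sim ζ x y) (h2 : Sim ζ y z) : Sim ζ x z := by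
  rcases h1 with rfl | rfl <;> rcases h2 with rfl | rfl
  · exact Or.inl rfl
  · exact Or.inr rfl
  · exact Or.inr rfl
  · exact Or.inl (by rw [← mul_assoc, zz, one_mul])

theorem Sim.map (hz : ζ ∈ Q) {f : G → G} (hf : HomOn Q f) (e : f ζ = ζ) {x y : G} (hy : y ∈ Q)
    (h : Sim ζ x y) : Sim ζ (f x) (f y) := by
  rcases h with rfl | rfl
  · exact Or.inl rfl
  · exact Or.inr (by rw [hf _ hz _ hy, e])

theorem conj_facts (h : AD Q C a b ζ) {g : G} (hg : g ∈ normalizer (Q : Set G)) (hgQ : g ∉ Q) :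
    g * ζ * g⁻¹ = ζ ∧ Sim ζ (g * a * g⁻¹) a ∧ Sim ζ (g * b * g⁻¹) (a * b) ∧
      Sim ζ (g * (a * b) * g⁻¹) b := by
  obtain ⟨-, h1, h2⟩ := h.norm g hg hgQ
  have za := (h.ca ζ h.zC).eq
  refine ⟨?_, h1, h2, ?_⟩
  · have : g * ζ * g⁻¹ = (g * a * g⁻¹) * (g * a * g⁻¹) := by rw [← h.aa]; group
    rw [this]
    rcases h1 with e | e <;> rw [e]
    · exact h.aa
    · rw [mul_assoc, ← mul_assoc a, ← za, mul_assoc, h.aa, h.zz, mul_one]
  · have : g * (a * b) * g⁻¹ = (g * a * g⁻¹) * (g * b * g⁻¹) := by group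
    rw [this]
    rcases h1 with e | e <;> rcases h2 with e' | e' <;> rw [e, e']
    · right; rw [← mul_assoc, h.aa]
    · left; rw [← mul_assoc, ← za, mul_assoc, ← mul_assoc a, h.aa, ← mul_assoc, h.zz, one_mul]
    · left; rw [mul_assoc, ← mul_assoc a, h.aa, ← mul_assoc, h.zz, one_mul]
    · right
      rw [mul_assoc, ← mul_assoc a, ← za, mul_assoc ζ a, ← mul_assoc a, h.aa, ← mul_assoc ζ ζ b,
        h.zz, one_mul]

theorem mem_inn (h : AD Q C a b ζ) {δ : MulAut Q} (e1 : ∀ c ∈ C, ext δ c = c)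
    (e2 : Sim ζ (ext δ a) a) (e3 : Sim ζ (ext δ b) b) : δ ∈ Inn Q := by
  have ha := aQ h
  have hb := bQ h
  have k1 : b * a * b⁻¹ = ζ * a := by rw [h.ba]; group
  have k2 : a * b * a⁻¹ = ζ * b := by
    rw [mul_inv_eq_iff_eq_mul, mul_assoc, h.ba, ← mul_assoc, h.zz, one_mul]
  have za : a * ζ * a⁻¹ = ζ := by rw [← (h.ca ζ h.zC).eq]; group
  have main : ∀ g ∈ Q, ext δ a = g * a * g⁻¹ → ext δ b = g * b * g⁻¹ → δ ∈ Inn Q := by
    intro g hg f1 f2
    refine mem_inn_iff.2 ⟨g, hg, gen_ext h (homOn_ext δ) (homOn_conj Q g) (fun c hc => ?_) f1 f2⟩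
    rw [e1 c hc, ← (central h hc hg).eq]; group
  rcases e2 with e2 | e2 <;> rcases e3 with e3 | e3
  · exact main 1 Q.one_mem (by simpa using e2) (by simpa using e3)
  · exact main a ha (by rw [e2]; group) (by rw [e3, k2])
  · exact main b hb (by rw [e2, k1]) (by rw [e3]; group)
  · refine main (a * b) (Q.mul_mem ha hb) ?_ ?_
    · rw [e2]
      calc ζ * a = (a * ζ * a⁻¹) * a := by rw [za]
        _ = a * (ζ * a) * a⁻¹ := by group
        _ = a * (b * a * b⁻¹) * a⁻¹ := by rw [k1]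
        _ = _ := by group
    · rw [e3, ← k2]; group

end main

universe u

theorem alpha : AlphaStmt.{u} := by
  intro G _ _ Q C a b ζ h
  obtain ⟨α, α0, α1, α2⟩ := exists_alpha h
  have ha := aQ h
  have hb := bQ h
  have hab := Q.mul_mem ha hb
  have hz := CQ h h.zC
  have α3 : ext α (a * b) = a := by rw [homOn_ext α _ ha _ hb, α1, α2, bab h]
  refine ⟨α, ?_, ?_, ?_, ?_⟩
  · apply aut_eq_one
    refine gen_ext h (homOn_ext _) (homOn_id Q) (fun c hc => ext_pow_of_fixed α (α0 c hc) 3) ?_ ?_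
    · rw [pow_three, ext_mul, ext_mul, α1, α2, α3]
    · rw [pow_three, ext_mul, ext_mul, α2, α3, α1]
  · rintro rfl
    rw [ext_one] at α1
    exact h.abC (by rw [← α1, h.aa]; exact h.zC)
  · intro g hg hgQ
    have hg' := (normalizer (Q : Set G)).inv_mem hg
    have hgQ' : g⁻¹ ∉ Q := fun e => hgQ (Q.inv_mem_iff.1 e)
    obtain ⟨z1, p1, -, p3⟩ := conj_facts h hg hgQ
    obtain ⟨-, -, q2, q3⟩ := conj_facts h hg' hgQ'
    have ev : ∀ x ∈ Q, ext (conjAut Q hg * α * (conjAut Q hg)⁻¹ * α) x =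
        g * ext α (g⁻¹ * ext α x * g⁻¹⁻¹) * g⁻¹ := by
      intro x hx
      have i1 : (conjAut Q hg)⁻¹ = conjAut Q hg' :=
        (map_inv Q.normalizerMonoidHom ⟨g, hg⟩).symm
      rw [i1, ext_mul, ext_mul, ext_mul, ext_conjAut hg (ext_mem _ (ext_mem _ (ext_mem _ hx))),
        ext_conjAut hg' (ext_mem _ hx)]
    apply mem_inn h
    · intro c hc
      rw [ev c (CQ h hc), α0 c hc, α0 _ ((h.norm _ hg' hgQ').1 c hc)]
      group
    · rw [ev a ha, α1]
      have s1 := q2.map hz (homOn_ext α) (α0 _ h.zC) hab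
      rw [α3] at s1
      exact (s1.map hz (homOn_conj Q g) z1 ha).trans h.zz p1
    · rw [ev b hb, α2]
      have s1 := q3.map hz (homOn_ext α) (α0 _ h.zC) hb
      rw [α2] at s1
      exact (s1.map hz (homOn_conj Q g) z1 hab).trans h.zz p3
  · intro P hP
    by_cases hC : C ≤ P
    · obtain ⟨t, ht, ta, tC⟩ := h.out
      have hk : ∃ k : ℕ, ∀ y ∈ P, ∃ c ∈ C, ext (α ^ k) y = c ∨ ext (α ^ k) y = c * a := by
        have two : ¬ (a ∈ P ∧ b ∈ P) := by
          rintro ⟨h1, h2⟩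
          apply hP.not_ge
          rw [h.eq, sup_le_iff, closure_le]
          refine ⟨hC, ?_⟩
          rintro x (rfl | rfl)
          exacts [h1, h2]
        have cm : ∀ c ∈ C, ∀ w, c * w ∈ P → w ∈ P := fun c hc w e => (P.mul_mem_cancel_left (hC hc)).1 e
        have fin : ∀ (k : ℕ) (w : G), w ∈ Q → ext (α ^ k) w = a →
            (∀ y ∈ P, ∃ c ∈ C, y = c ∨ y = c * w) →
            ∀ y ∈ P, ∃ c ∈ C, ext (α ^ k) y = c ∨ ext (α ^ k) y = c * a := by
          intro k w hw e hh y hy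
          obtain ⟨c, hc, rfl | rfl⟩ := hh y hy
          · exact ⟨y, hc, Or.inl (ext_pow_of_fixed α (α0 _ hc) k)⟩
          · exact ⟨c, hc, Or.inr (by
              rw [homOn_ext _ _ (CQ h hc) _ hw, ext_pow_of_fixed α (α0 _ hc) k, e])⟩
        by_cases h1 : a ∈ P
        · refine ⟨0, fin 0 a ha (by simp) fun y hy => ?_⟩
          obtain ⟨c, hc, rfl | rfl | rfl | rfl⟩ := nf h (hP.le hy)
          · exact ⟨y, hc, Or.inl rfl⟩
          · exact ⟨c, hc, Or.inr rfl⟩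
          · exact (two ⟨h1, cm c hc _ hy⟩).elim
          · exact (two ⟨h1, (P.mul_mem_cancel_left h1).1 (cm c hc _ hy)⟩).elim
        by_cases h2 : b ∈ P
        · refine ⟨2, fin 2 b hb (by rw [pow_two, ext_mul, α2, α3]) fun y hy => ?_⟩
          obtain ⟨c, hc, rfl | rfl | rfl | rfl⟩ := nf h (hP.le hy)
          · exact ⟨y, hc, Or.inl rfl⟩
          · exact (h1 (cm c hc _ hy)).elim
          · exact ⟨c, hc, Or.inr rfl⟩
          · exact (h1 ((P.mul_mem_cancel_right h2).1 (cm c hc _ hy))).elim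
        · refine ⟨1, fin 1 (a * b) hab (by rw [pow_one, α3]) fun y hy => ?_⟩
          obtain ⟨c, hc, rfl | rfl | rfl | rfl⟩ := nf h (hP.le hy)
          · exact ⟨y, hc, Or.inl rfl⟩
          · exact (h1 (cm c hc _ hy)).elim
          · exact (h2 (cm c hc _ hy)).elim
          · exact ⟨c, hc, Or.inr rfl⟩
      obtain ⟨k, hk⟩ := hk
      refine ⟨k, t, fun e => ht ((img_le_iff.2 fun y hy => ext_mem _ (hP.le hy)) e), fun y hy => ?_⟩
      obtain ⟨c, hc, e | e⟩ := hk y hy <;> rw [e]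
      exacts [tC c hc, (tC c hc).mul_right ta]
    · obtain ⟨g, hg, hgP⟩ := SetLike.not_le_iff_exists.1 hC
      refine ⟨0, g, fun e => hgP ((img_le_iff.2 fun y hy => ?_) e), fun y hy => ?_⟩
      · simpa using hy
      · exact central h hg (ext_mem _ (hP.le hy))

end Cfsg.Agent.H70.BcA
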