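import Cfsg.Agent.H48.BeDefs
import Cfsg.Agent.H48.B6Cl
import Cfsg.Agent.H70.B6Lat
import Cfsg.Agent.H74.MonInv

/-! Facts on the centralizer of the standard pure four-group in a group with the local data of the
Monster. -/

set_option autoImplicit false
set_option maxRecDepth 100000

namespace Cfsg.Agent.H70.Be

open Cfsg Subgroup Cfsg.Agent.H48 Cfsg.Agent.H49 Cfsg.Agent.H48.Mid Cfsg.Agent.H34.MidA
  Cfsg.Agent.H47.Bu Cfsg.Agent.H48.Be Cfsg.Agent.H70.Mid Cfsg.Agent.H98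

theorem relIndex_cent_le {G : Type*} [Group G] [Finite G] {B U : Subgroup G} {n : G}
    (h : ∀ b ∈ B, n * b * n⁻¹ * b⁻¹ ∈ U) : (centralizer {n}).relIndex B ≤ Nat.card U :=
  Nat.card_le_card_of_injective
    (fun x : B ⧸ (centralizer {n}).subgroupOf B => (⟨_, h _ x.out.2⟩ : U)) fun x y e => by
    rw [← x.out_eq', ← y.out_eq', QuotientGroup.eq, mem_subgroupOf, mem_centralizer_singleton_iff,
      coe_mul, coe_inv]
    have e1 : n * x.out.1 * n⁻¹ * x.out.1⁻¹ = n * y.out.1 * n⁻¹ * y.out.1⁻¹ := congrArg Subtype.val e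
    calc _ = x.out.1⁻¹ * (n * y.out.1 * n⁻¹ * y.out.1⁻¹)⁻¹ * n * y.out.1 := by group
      _ = _ := by rw [← e1]; group

theorem E2.of_pow {G : Type*} [Group G] {c : G} {k : ℕ} (h : E2 (c ^ 2 ^ k)) : E2 c :=
  let ⟨n, hn⟩ := h; ⟨k + n, by rw [pow_add, pow_mul, hn]⟩

theorem sq_comm {G : Type*} [Group G] {n b c : G} (e : n * b * n⁻¹ * b⁻¹ = c) (cc : c * c = 1)
    (nc : n * c = c * n) : n * n * b = b * (n * n) := by
  have e1 : n * b = c * b * n := by rw [← e]; group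
  calc n * n * b = n * c * b * n := by rw [mul_assoc, e1]; group
    _ = c * (c * b * n) * n := by rw [nc, ← e1]; group
    _ = _ := by rw [← mul_assoc, ← mul_assoc, cc]; group

variable {A : Type} [Group A] [Finite A] {Q : Subgroup A} {z : A}
  {θ : centralizer ({z} : Set A) →* Spor.Co1} {R : Lam → A → Prop} (hM : MD Q z θ R)
  {s y : A} (rx : R vU s) (ry : R vX y)

include hM rx ry

omit [Finite A] in
theorem V_le : closure {s, y} ≤ Q := (closure_le _).2 (by
  rintro _ (rfl | rfl)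
  exacts [hM.mem rx, hM.mem ry])

omit [Finite A] in
theorem z_mem : z ∈ centralizer ({s, y} : Set A) :=
  mem_c2.2 ⟨(hM.hQ.cen s (hM.mem rx)).symm, (hM.hQ.cen y (hM.mem ry)).symm⟩

theorem t2_V {v : A} (hv : v ∈ closure ({s, y} : Set A)) (h1 : v ≠ 1) : T2 R v := by
  have fl := fl_std hM rx ry
  rcases (fl_four hM fl).mem_closure.1 hv with e | rfl | rfl | rfl
  exacts [absurd e h1, fl.1, fl.2.1, fl.2.2]

theorem V_sq {v : A} (hv : v ∈ closure ({s, y} : Set A)) : v * v = 1 := by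
  by_cases h1 : v = 1
  · rw [h1, one_mul]
  · exact t2_sq hM (t2_V hM rx ry hv h1)

theorem z_not_mem : z ∉ closure ({s, y} : Set A) := fun h =>
  (t2_ne hM (t2_V hM rx ry h hM.hQ.ne)).2 rfl

theorem exists_split {n : A} (hn : n ∈ normalizer (closure ({s, y} : Set A) : Set A)) :
    ∃ l ∈ centralizer ({s, y} : Set A), l⁻¹ * n ∈ centralizer ({z} : Set A) := by
  have fl := fl_std hM rx ry
  have t : ∀ v ∈ closure ({s, y} : Set A), v ≠ 1 → T2 R (n⁻¹ * v * n) := fun v hv h1 =>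
    t2_V hM rx ry ((mem_normalizer_iff''.1 hn v).1 hv) fun e => h1 (by
      simpa [mul_assoc] using congrArg (fun u => n * u * n⁻¹) e)
  have ms : s ∈ closure ({s, y} : Set A) := subset_closure (by simp)
  have my : y ∈ closure ({s, y} : Set A) := subset_closure (by simp)
  obtain ⟨k, k1, k2, k3⟩ := trans_fl hM fl (⟨t s ms (t2_ne hM fl.1).1, t y my (t2_ne hM fl.2.1).1, by
    convert t _ (mul_mem ms my) (t2_ne hM fl.2.2).1 using 1; group⟩ :
      Fl R (n⁻¹ * s * n) (n⁻¹ * y * n))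
  have e : ∀ u, k * u * k⁻¹ = n⁻¹ * u * n → n * k * u = u * (n * k) := fun u e =>
    mul_inv_eq_iff_eq_mul.1 (by
      calc _ = n * (k * u * k⁻¹) * n⁻¹ := by group
        _ = u := by rw [e]; group)
  refine ⟨n * k, mem_c2.2 ⟨e s k2, e y k3⟩, ?_⟩
  rw [mul_inv_rev, inv_mul_cancel_right]
  exact inv_mem (mem_centralizer_singleton_iff.2 k1)

theorem card_B : Nat.card ↥(Q ⊓ centralizer ({s, y} : Set A)) = 2 ^ 23 := by
  have c3 := hM.hQ.card_mul_card_centralizer (V_le hM rx ry)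
  rw [show closure {s, y} ⊓ zpowers z = ⊥ from eq_bot_iff.2 fun v hv =>
    (hM.hQ.mem_Z.1 hv.2).resolve_right fun e => z_not_mem hM rx ry (e ▸ hv.1), card_bot,
    (fl_four hM (fl_std hM rx ry)).card_closure, hM.card, centralizer_closure] at c3
  omega

omit [Finite A] in
/-- the four-group together with `z` -/
def VZ : Subgroup A where
  carrier := {a | a ∈ closure ({s, y} : Set A) ∨ a * z ∈ closure ({s, y} : Set A)}
  one_mem' := Or.inl (one_mem _)
  mul_mem' := fun {a b} ha hb => by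
    have c : ∀ v ∈ closure ({s, y} : Set A), v * z = z * v := fun v hv =>
      hM.hQ.cen v (V_le hM rx ry hv)
    rcases ha with ha | ha <;> rcases hb with hb | hb
    · exact Or.inl (mul_mem ha hb)
    · exact Or.inr (mul_assoc a b z ▸ mul_mem ha hb)
    · exact Or.inr (by rw [mul_assoc, c b hb, ← mul_assoc]; exact mul_mem ha hb)
    · refine Or.inl ?_
      have := mul_mem ha hb
      rwa [mul_assoc, ← c _ hb, mul_assoc b, hM.hQ.zz, mul_one] at this
  inv_mem' := fun {a} ha => ha.imp inv_mem fun ha => by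
    have := inv_mem ha
    rw [mul_inv_rev, hM.hQ.inv_z] at this
    have c := hM.hQ.cen _ (V_le hM rx ry this)
    rw [mul_assoc, mul_right_inj] at c
    exact c ▸ this

omit [Finite A] in
theorem VZ_le : VZ hM rx ry ≤ Q := fun _ ha => ha.elim (fun h => V_le hM rx ry h) fun h =>
  (mul_mem_cancel_right hM.hQ.mem).1 (V_le hM rx ry h)

theorem VZ_sq {a : A} (ha : a ∈ VZ hM rx ry) : a * a = 1 := ha.elim (V_sq hM rx ry) fun h => by
  have := V_sq hM rx ry h
  rwa [mul_assoc, ← mul_assoc z, ← hM.hQ.cen a (VZ_le hM rx ry ha), mul_assoc a, hM.hQ.zz,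
    mul_one] at this

omit [Finite A] in
theorem VZ_comm {a n : A} (ha : a ∈ VZ hM rx ry) (hn : n ∈ centralizer ({s, y} : Set A))
    (nz : n * z = z * n) : n * a = a * n := by
  rw [← centralizer_closure] at hn
  refine ha.elim (fun h => (hn a h).symm) fun h => mul_right_cancel (b := z) ?_
  rw [mul_assoc, ← hn _ h, mul_assoc, mul_assoc, nz]

theorem card_VZ : Nat.card (VZ hM rx ry) ≤ 8 := by
  have h1 := Set.ncard_union_le (closure ({s, y} : Set A) : Set A)
    ((· * z) ⁻¹' (closure ({s, y} : Set A) : Set A))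
  have h2 : (closure ({s, y} : Set A) : Set A).ncard = 4 :=
    (fl_four hM (fl_std hM rx ry)).card_closure
  rw [Set.ncard_preimage_of_injective_subset_range (mul_left_injective z)
    (by rw [(mul_right_surjective z).range_eq]; exact Set.subset_univ _), h2] at h1
  exact h1

theorem cen {a : A} (ha : a ∈ Q) (h : ∀ b ∈ Q ⊓ centralizer ({s, y} : Set A), a * b = b * a) :
    a ∈ VZ hM rx ry :=
  (hM.hQ.centralizer_centralizer (VZ_le hM rx ry) (Or.inr (hM.hQ.zz ▸ one_mem _))).le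
    ⟨ha, fun b hb => (h b ⟨hb.1, fun v hv => hb.2 v (Or.inl (subset_closure hv))⟩).symm⟩

theorem rk16 {n : A} (hn : n ∈ normalizer (closure ({s, y} : Set A) : Set A)) (nz : n * z = z * n)
    (h2 : E2 n) {B : Subgroup A} (hB : B ≤ Q) (hc : 2 ^ 19 ≤ Nat.card B)
    (c : ∀ b ∈ B, n * b = b * n) : n ∈ Q := by
  have : Fact (Nat.Prime 2) := ⟨Nat.prime_two⟩
  obtain ⟨k, hk⟩ := h2
  suffices h : ∀ j, n ^ 2 ^ j ∈ Q → n ∈ Q from h k (hk ▸ one_mem _)
  intro j
  induction j with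
  | zero => simp
  | succ j ih =>
    intro h
    refine ih ?_
    rw [pow_succ, pow_mul, pow_two] at h
    have h1 := pow_mem hn (2 ^ j)
    have h3 : (n ^ 2 ^ j) ^ 2 ^ k = 1 := by rw [← pow_mul, mul_comm, pow_mul, hk, one_pow]
    have h4 : n ^ 2 ^ j * z = z * n ^ 2 ^ j := (show Commute n z from nz).pow_left _
    have h5 : ∀ b ∈ B, n ^ 2 ^ j * b = b * n ^ 2 ^ j := fun b hb =>
      (show Commute n b from c b hb).pow_left _
    generalize n ^ 2 ^ j = m at h h1 h3 h4 h5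
    classical
    let _ := Fintype.ofFinite (closure ({s, y} : Set A))
    obtain ⟨t, e, t1⟩ := Equiv.Perm.exists_fixed_point_of_prime' (p := 2) (n := k)
      (σ := (MulAut.toPerm _).comp (normalizerMonoidHom (closure ({s, y} : Set A))) ⟨m, h1⟩)
      (by rw [← Nat.card_eq_fintype_card, (fl_four hM (fl_std hM rx ry)).card_closure]; norm_num)
      (by rw [← map_pow, show (⟨m, h1⟩ : normalizer _) ^ 2 ^ k = 1 from Subtype.ext h3, map_one])
      (a := 1) (map_one (normalizerMonoidHom _ ⟨m, h1⟩))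
    obtain ⟨v, hv, r⟩ := t2_V hM rx ry t.2 fun e => t1 (Subtype.ext e)
    obtain ⟨g, a, gv⟩ := hM.exists_ass_fix r hv h4
      (mul_inv_eq_iff_eq_mul.1 (congrArg Subtype.val e))
    by_contra hm
    obtain ⟨f, hf⟩ := B6.big (hM.ass_fix_unique hv (a.mul a) (hM.ass_one h)
      (by rw [mul_smul, gv, gv]) (one_smul _ _)) fun e => hm ((hM.ass_mem_iff a).2 e)
    choose x hx using fun i => hM.ex2 (f i)
    have h6 := Nat.card_le_card_of_injective
      (fun i => (QuotientGroup.mk ⟨x i, hM.mem (hx i)⟩ : Q ⧸ B.subgroupOf Q)) fun i j e =>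
        hf i j (hM.cong_of_comm (hM.mul (hM.inv (hx i)) (hx j)) a
          (h5 _ (mem_subgroupOf.1 (QuotientGroup.eq.1 e))))
    have h7 := card_eq_card_quotient_mul_card_subgroup (B.subgroupOf Q)
    rw [Nat.card_congr (subgroupOfEquivOfLe hB).toEquiv, hM.card] at h7
    rw [Nat.card_fin] at h6
    nlinarith

theorem rk1 {n : A} (hn : n ∈ normalizer (closure ({s, y} : Set A) : Set A)) (nz : n * z = z * n)
    (ns : n * s = s * n)
    (h : ∀ b ∈ Q ⊓ centralizer ({s, y} : Set A), n * b * n⁻¹ * b⁻¹ ∈ VZ hM rx ry) : n ∈ Q := by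
  have f4 := fl_four hM (fl_std hM rx ry)
  have my : y ∈ closure ({s, y} : Set A) := subset_closure (by simp)
  have z2 : ∀ m, m * z = z * m → m * m * z = z * (m * m) := fun m e =>
    (show Commute m z from e).mul_left e
  have n2 : n * n ∈ centralizer ({s, y} : Set A) := by
    refine mem_c2.2 ⟨(show Commute n s from ns).mul_left ns, ?_⟩
    rcases f4.mem_closure.1 ((mem_normalizer_iff.1 hn y).1 my) with e | e | e | e
    · exact absurd (conj_eq_one_iff.1 e) f4.x1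
    · exact absurd (mul_left_cancel ((mul_inv_eq_iff_eq_mul.1 e).trans ns.symm)) f4.ne
    · exact sq_comm (c := 1) (by rw [e, mul_inv_cancel]) (one_mul _) (by simp)
    · exact sq_comm (by rw [e, mul_inv_cancel_right]) f4.zz ns
  have n4 : ∀ b ∈ Q ⊓ centralizer ({s, y} : Set A), n * n * (n * n) * b = b * (n * n * (n * n)) :=
    fun b hb => by
      have m : n * n * b * (n * n)⁻¹ * b⁻¹ ∈ VZ hM rx ry := by
        have := mul_mem (h _ ⟨hM.hQ.conj_mem nz hb.1, (mem_normalizer_iff.1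
          (centralizer_closure ({s, y} : Set A) ▸ norm_le_norm_cent _ hn) b).1 hb.2⟩) (h b hb)
        convert this using 1
        group
      exact sq_comm rfl (VZ_sq hM rx ry m) (VZ_comm hM rx ry m n2 (z2 n nz))
  have z4 := z2 _ (z2 n nz)
  have m4 := mul_mem n2 n2
  have n8 : n * n * (n * n) * (n * n * (n * n)) ∈ Q := hM.hQ.cQ fun q hq => by
    generalize n * n * (n * n) = m at n4 z4 m4
    have mem : m * q * m⁻¹ * q⁻¹ ∈ VZ hM rx ry :=
      cen hM rx ry (mul_mem (hM.hQ.conj_mem z4 hq) (inv_mem hq)) fun b hb => by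
        have hb' : q⁻¹ * b * q⁻¹⁻¹ ∈ Q ⊓ centralizer ({s, y} : Set A) := by
          rcases hM.hQ.conj (inv_mem hq) hb.1 with e | e <;> rw [e]
          exacts [hb, mul_mem hb ⟨hM.hQ.mem, z_mem hM rx ry⟩]
        calc _ = m * q * (m⁻¹ * (q⁻¹ * b * q⁻¹⁻¹ * m) * m⁻¹) * q⁻¹ := by group
          _ = m * b * (q * m⁻¹ * q⁻¹) := by rw [← n4 _ hb']; group
          _ = _ := by rw [n4 b hb]; group
    exact (sq_comm rfl (VZ_sq hM rx ry mem) (VZ_comm hM rx ry mem m4 z4)).symm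
  obtain ⟨k, hk⟩ := hM.hQ.isPGroup ⟨_, n8⟩
  have c1 := relIndex_cent_le h
  have c2 := card_VZ hM rx ry
  have c3 := XS.card_mul_relIndex' (centralizer {n}) (Q ⊓ centralizer ({s, y} : Set A))
  rw [card_B hM rx ry] at c3
  refine rk16 hM rx ry hn nz (E2.of_pow (k := 3) ⟨k, ?_⟩)
    (B := Q ⊓ centralizer ({s, y} : Set A) ⊓ centralizer {n}) (inf_le_left.trans inf_le_left)
    (by nlinarith) fun b hb => (mem_centralizer_singleton_iff.1 hb.2).symm
  rw [show n ^ 2 ^ 3 = n * n * (n * n) * (n * n * (n * n)) by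
    simp only [show 2 ^ 3 = 8 from rfl, pow_succ, pow_zero, one_mul, mul_assoc]]
  exact congrArg Subtype.val hk

theorem exists_e {u : A} (r : R (e8 none) u) : ∃ e ∈ centralizer ({s, y} : Set A),
    e * z * e⁻¹ = u ∧
      ∀ w, R (lamD H48.B6.l2) w ∨ R (lamD H48.B6.l3) w → e⁻¹ * w * e ∈ Q := by
  obtain ⟨S, p⟩ := hM.pair (hM.mem r) (hM.e8_spec r).1 (hM.e8_spec r).2
  have key : ∀ {c d i j}, H74.Mon.meetB c d i j = true →
      lamD (H74.Mon.l44 i j) ∈ H74.Mon.vecs hM S p.zS := fun h => by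
    obtain ⟨c, hc, v, h1, h2⟩ := H74.Mon.meet_spec h
    exact h2 ▸ H74.Mon.meet_mem hM p r hc h1
  have k1 := key (c := 9347075) (d := 12599513) (i := 0) (j := 23) (by decide +kernel)
  have k2 := key (c := 9347075) (d := 14762146) (i := 1) (j := 23) (by decide +kernel)
  have k3 := key (c := 12222476) (d := 90318) (i := 2) (j := 3) (by decide +kernel)
  have k4 := add_mem k3 (key (c := 15335473) (d := 1384564) (i := 4) (j := 5) (by decide +kernel))
  rw [show lamD (H74.Mon.l44 0 23) = vU from Subtype.ext (by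
    rw [lamD_val (by decide +kernel)]; decide +kernel)] at k1
  rw [show lamD (H74.Mon.l44 1 23) = vX from Subtype.ext (by
    rw [lamD_val (by decide +kernel)]; decide +kernel)] at k2
  rw [show lamD (H74.Mon.l44 2 3) + lamD (H74.Mon.l44 4 5) = lamD H48.B6.l3 from Subtype.ext (by
    rw [AddSubgroup.coe_add, lamD_val (by decide +kernel), lamD_val (by decide +kernel),
      lamD_val (by decide +kernel)]; decide +kernel)] at k4
  rw [show H74.Mon.l44 2 3 = H48.B6.l2 by decide +kernel] at k3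
  obtain ⟨g, rfl, rfl⟩ := p.conj
  have fl := fl_std hM rx ry
  have t : ∀ {a}, a ∈ cj Q g → T2 R a → T2 R (g⁻¹ * a * g) := fun {a} ha ta => by
    obtain ⟨-, a1, a2, a3⟩ := (t2_iff hM).1 ta
    exact (t2_iff hM).2 ⟨mem_cj.1 ha,
      fun e => a1 (by simpa [mul_assoc] using congrArg (fun u => g * u * g⁻¹) e),
      by rw [show g⁻¹ * a * g * (g⁻¹ * a * g) = g⁻¹ * (a * a) * g by group, a2]; simp,
      fun c => a3 (c.trans (isConj_iff.2 ⟨g, by group⟩))⟩
  obtain ⟨d, d1, d2, d3⟩ := trans_fl hM fl (⟨t (k1 s rx) fl.1, t (k2 y ry) fl.2.1, by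
    convert t (mul_mem (k1 s rx) (k2 y ry)) fl.2.2 using 1; group⟩ :
      Fl R (g⁻¹ * s * g) (g⁻¹ * y * g))
  have e : ∀ u, d * u * d⁻¹ = g⁻¹ * u * g → g * d * u = u * (g * d) := fun u e =>
    mul_inv_eq_iff_eq_mul.1 (by
      calc _ = g * (d * u * d⁻¹) * g⁻¹ := by group
        _ = u := by rw [e]; group)
  refine ⟨g * d, mem_c2.2 ⟨e s d2, e y d3⟩, by rw [mul_assoc g, d1]; group, fun w hw => ?_⟩
  rw [← mem_cj, cj_mul, hM.hQ.cj_eq_of_comm d1]
  exact hw.elim (k3 w) (k4 w)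

omit hM rx ry [Finite A]

theorem mf1 : Mon MF1 := by
  intro A _ _ Q z θ R hM s y rx ry
  have : Fact (Nat.Prime 2) := ⟨Nat.prime_two⟩
  have fl := fl_std hM rx ry
  refine ⟨fun P hP h2 => ?_, card_B hM rx ry, fun a ha h => cen hM rx ry ha h, fun n hn => ?_,
    fun n v hv e => ?_, fun D hD h2 hn => ?_⟩
  · obtain ⟨T, hT, hz⟩ := exists_syl2 hM rx ry
    have le : centralizer ({s, y} : Set A) ≤ normalizer (closure ({s, y} : Set A) : Set A) :=
      centralizer_closure ({s, y} : Set A) ▸ centralizer_le_normalizer _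
    have c := Nat.card_congr (Equiv.ofBijective
      (quotientSubgroupOfEmbeddingOfLE (centralizer ({z} : Set A)) le) ⟨Function.Embedding.injective _,
        fun x => by
          obtain ⟨n, rfl⟩ := QuotientGroup.mk_surjective x
          obtain ⟨l, hl, e⟩ := exists_split hM rx ry n.2
          exact ⟨QuotientGroup.mk ⟨l, hl⟩, QuotientGroup.eq.2 e⟩⟩)
    obtain ⟨x, hx⟩ := (h2.comap_subtype (K := normalizer (closure ({s, y} : Set A) : Set A))
      ).nonempty_fixed_point_of_prime_not_dvd_card (normalizer (closure ({s, y} : Set A) : Set A) ⧸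
        (centralizer ({z} : Set A)).subgroupOf _) fun h =>
          hT.not_dvd_relIndex ((c ▸ h).trans (relIndex_dvd_of_le_left _ hz))
    obtain ⟨n, rfl⟩ := QuotientGroup.mk_surjective x
    obtain ⟨l, hl, e⟩ := exists_split hM rx ry n.2
    refine ⟨l, hl, fun p hp => ?_⟩
    have h1 : (p * n.1)⁻¹ * n.1 ∈ centralizer ({z} : Set A) :=
      mem_subgroupOf.1 (QuotientGroup.eq.1 (show QuotientGroup.mk (⟨p, hP hp⟩ * n) = _ from
        hx ⟨⟨p, hP hp⟩, hp⟩))
    have h3 := mem_centralizer_singleton_iff.1 (mul_mem (mul_mem e (inv_mem h1)) (inv_mem e))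
    calc _ = l * (l⁻¹ * n.1 * ((p * n.1)⁻¹ * n.1)⁻¹ * (l⁻¹ * n.1)⁻¹ * z) * l⁻¹ := by group
      _ = _ := by rw [h3]; group
  · let _ : Fintype (GaloisField 2 2) := Fintype.ofFinite _
    obtain ⟨σ, -, s2, s3, -⟩ := exists_proj hM fl (GaloisField 2 2) (by
      rw [← Nat.card_eq_fintype_card, GaloisField.card 2 2 two_ne_zero]; rfl)
    have m : n ∈ centralizer ({s, y} : Set A) := fun v hv =>
      (hn v (le_cent hM fl (subset_closure hv))).symm
    exact (s3.trans s2).le (mem_center_iff.2 fun l => Subtype.ext (hn l.1 l.2).symm :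
      (⟨n, m⟩ : centralizer ({s, y} : Set A)) ∈ center _)
  · by_contra h1
    exact t2_not_conj hM (t2_mul_z hM (t2_V hM rx ry hv h1))
      (isConj_iff.2 ⟨n, e.trans (hM.hQ.cen v (V_le hM rx ry hv)).symm⟩)
  · obtain ⟨β, b1, b2⟩ := exists_hom_U6 hM rx ry
    have := simple_U6
    have hN : (D.subgroupOf (centralizer ({z} : Set A) ⊓ centralizer {s, y})).Normal :=
      ⟨fun d hd c => hn c.1 c.2 d.1 hd⟩
    rcases (hN.map β b1).eq_bot_or_eq_top with e | e
    · intro d hd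
      refine (hM.ass_mem_iff (b2 ⟨d, hD hd⟩)).2 ?_
      rw [show β ⟨d, hD hd⟩ = 1 from e.le ⟨_, hd, rfl⟩]
      exact one_mem _
    · obtain ⟨k, hk⟩ := IsPGroup.iff_card.1 (h2.comap_subtype.map β)
      rw [show Subgroup.comap _ D = D.subgroupOf _ from rfl, e, card_top, card_U62'] at hk
      exact absurd ((Nat.prime_three.dvd_of_dvd_pow (hk ▸ by norm_num : 3 ∣ 2 ^ k))) (by norm_num)

theorem mf2 : Mon MF2 := fun _ _ _ _ _ _ _ hM _ _ rx ry =>
  ⟨fun _ hn nz ns h => rk1 hM rx ry hn nz ns h,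
    fun _ hn nz h2 _ hB hc c => rk16 hM rx ry hn nz h2 (hB.trans inf_le_left) hc c⟩

theorem mf3 : Mon MF3 := by
  intro A _ _ Q z θ R hM s y rx ry f hf ff
  refine ⟨(B6.cl A Q z θ R hM s y rx ry f hf ff).1, ?_⟩
  by_cases fV : f ∈ closure ({s, y} : Set A)
  · exact Or.inl fV
  obtain ⟨w2, r2⟩ := hM.ex2 (lamD H48.B6.l2)
  obtain ⟨w3, r3⟩ := hM.ex2 (lamD H48.B6.l3)
  obtain ⟨k, hk, v, hv, e⟩ := B6.classes hM rx ry r2 r3 hf ff fV
  have vQ := V_le hM rx ry hv
  rcases e with e | e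
  · refine Or.inr (Or.inl ⟨k⁻¹, inv_mem hk, ?_⟩)
    rwa [inv_inv, e, ← hM.hQ.cen v vQ, mul_assoc, hM.hQ.zz, mul_one]
  obtain ⟨w, hw, e⟩ : ∃ w, (R (lamD H48.B6.l2) w ∨ R (lamD H48.B6.l3) w) ∧ k * f * k⁻¹ = w * v :=
    e.elim (fun e => ⟨_, Or.inl r2, e⟩) fun e => ⟨_, Or.inr r3, e⟩
  obtain ⟨u, r⟩ := hM.ex2 (e8 none)
  obtain ⟨a, ha, a1, a2⟩ := exists_e hM rx ry r
  obtain ⟨b, hb, b1, b2⟩ := exists_e hM rx ry (hM.cls r)
  have key : ∀ c ∈ centralizer ({s, y} : Set A), c⁻¹ * w * c ∈ Q →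
      (k⁻¹ * c)⁻¹ * f * (k⁻¹ * c) ∈ Q := fun c hc h => by
    rw [show (k⁻¹ * c)⁻¹ * f * (k⁻¹ * c) = c⁻¹ * (k * f * k⁻¹) * c by group, e, mul_assoc, mul_assoc,
      ((centralizer_closure _).ge hc : c ∈ centralizer _) v hv, ← mul_assoc, ← mul_assoc]
    exact mul_mem h vQ
  refine Or.inr (Or.inr ⟨k⁻¹, inv_mem hk, k⁻¹ * a, mul_mem (inv_mem hk) ha, k⁻¹ * b,
    mul_mem (inv_mem hk) hb, ?_, ?_, key a ha (a2 w hw), key b hb (b2 w hw)⟩)
  · calc _ = k⁻¹ * (z * (a * z * a⁻¹)) * k := by group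
      _ = k⁻¹ * (b * z * b⁻¹) * k := by rw [a1, b1, hM.hQ.cen u (hM.mem r)]
      _ = _ := by group
  · rw [inv_inv, e]
    exact mul_mem (hw.elim hM.mem hM.mem) vQ

end Cfsg.Agent.H70.Be
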