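import Cfsg.Agent.H70.BeAct
import Cfsg.Agent.H70.BeMF

/-! The local data of an image of the centralizer of the standard pure four-group. -/

set_option autoImplicit false

namespace Cfsg.Agent.H70.Be

open Cfsg Subgroup Cfsg.Agent.H48 Cfsg.Agent.H49 Cfsg.Agent.H48.Mid Cfsg.Agent.H34.MidA
  Cfsg.Agent.H47.Bu Cfsg.Agent.H48.Be

universe u

section generic

variable {A G : Type*} [Group A] [Group G] {L W : Subgroup A}

/-- the elements that act like an element of `P` -/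
def pull (hW : W ≤ normalizer (L : Set A)) (α : L →* G) (P : Subgroup G) : Subgroup A :=
  (P.comap ((MonoidHom.fst G A).comp (Like hW α).subtype)).map
    ((MonoidHom.snd G A).comp (Like hW α).subtype)

theorem mem_pull {hW : W ≤ normalizer (L : Set A)} {α : L →* G} {P : Subgroup G} {n : A} :
    n ∈ pull hW α P ↔ ∃ c ∈ P, (c, n) ∈ Like hW α :=
  ⟨by rintro ⟨p, hp, rfl⟩; exact ⟨_, hp, p.2⟩, fun ⟨c, hc, h⟩ => ⟨⟨_, h⟩, hc, rfl⟩⟩

end generic

variable {A : Type} [Group A] [Finite A] {Q : Subgroup A} {z : A}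
  {θ : centralizer ({z} : Set A) →* Spor.Co1} {R : Lam → A → Prop} (hM : MD Q z θ R)
  {s y : A} (rx : R vU s) (ry : R vX y)
  {G : Type u} [Group G] {α : centralizer ({s, y} : Set A) →* G}
  (hα : ∀ l, α l = 1 → l.1 = 1 ∨ l.1 = s)
include hM rx ry hα

theorem like_K {c : G} {n : A} (h : (c, n) ∈ Like (norm_le s y) α)
    (hc : c ∈ centralizer (α.range : Set G)) : n ∈ closure ({s, y} : Set A) :=
  (mf1 A Q z θ R hM s y rx ry).cent n fun _ => Like.comm hM (fl_std hM rx ry) hα h hc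

theorem like_z {c : G} {n : A} (h : (c, n) ∈ Like (norm_le s y) α)
    (hc : c * α ⟨z, z_mem hM rx ry⟩ * c⁻¹ * α ⟨z, z_mem hM rx ry⟩ ∈ centralizer (α.range : Set G)) :
    n * z = z * n := by
  rw [← Like.eq h, ← map_mul, mem_K hM (fl_std hM rx ry) hα] at hc
  change n * z * n⁻¹ * z ∈ _ at hc
  have := (mf1 A Q z θ R hM s y rx ry).ne n _ hc (by
    rw [← hM.hQ.cen _ (V_le hM rx ry hc), mul_assoc _ z z, hM.hQ.zz, mul_one])
  rwa [mul_eq_one_iff_eq_inv, hM.hQ.inv_z, mul_inv_eq_iff_eq_mul] at this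

theorem like_z' {c : G} {n : A} (h : (c, n) ∈ Like (norm_le s y) α)
    (hc : c * α ⟨z, z_mem hM rx ry⟩ = α ⟨z, z_mem hM rx ry⟩ * c) : n * z = z * n :=
  like_z hM rx ry hα h (by
    rw [hc, mul_inv_cancel_right, ← map_mul, show (⟨z, z_mem hM rx ry⟩ * ⟨z, z_mem hM rx ry⟩ :
      centralizer ({s, y} : Set A)) = 1 from Subtype.ext hM.hQ.zz, map_one]
    exact one_mem _)

theorem pull_two {P : Subgroup G} (hP : IsPGroup 2 P) : IsPGroup 2 (pull (norm_le s y) α P) :=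
  (hP.comap_of_ker_isPGroup _ fun a => ⟨1, Subtype.ext (Subtype.ext (Prod.ext
    (by simp [show a.1.1.1 = 1 from a.2]) (by
      have := V_sq hM rx ry (like_K hM rx ry hα (c := a.1.1.1) (n := a.1.1.2) a.1.2
        (by rw [show a.1.1.1 = 1 from a.2]; exact one_mem _))
      simpa [sq] using this)))⟩).map _

omit hM rx ry [Finite A] in
theorem mem_im {U : Subgroup A} (hU : closure {s, y} ≤ U) {l : centralizer ({s, y} : Set A)} :
    α l ∈ (U.subgroupOf _).map α ↔ l.1 ∈ U :=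
  ⟨fun ⟨_, ha, e⟩ => (mul_mem_cancel_left (inv_mem ha)).1 (hU (V_of_eq hα e)), fun h => ⟨l, h, rfl⟩⟩

omit hα in
theorem like_Q {c : G} {n : A} (h : (c, n) ∈ Like (norm_le s y) α) (hn : n ∈ Q) :
    ∃ q ∈ (Q.subgroupOf _).map α, q⁻¹ * c ∈ centralizer (α.range : Set G) := by
  have k : ∀ v ∈ closure ({s, y} : Set A), n * v = v * n := fun v hv =>
    mul_inv_eq_iff_eq_mul.1 ((hM.hQ.conj hn (V_le hM rx ry hv)).resolve_right fun e =>
      z_not_mem hM rx ry ((mul_mem_cancel_left hv).1 (e ▸ (mem_normalizer_iff.1 h.1 v).1 hv)))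
  have m : n ∈ centralizer ({s, y} : Set A) :=
    mem_c2.2 ⟨k s (subset_closure (by simp)), k y (subset_closure (by simp))⟩
  exact ⟨α ⟨n, m⟩, ⟨_, hn, rfl⟩, Like.cent (L_le s y) (l := ⟨n, m⟩) h⟩

omit hM rx ry hα

theorem mod : ModStmt.{u} := by
  intro A _ _ Q z θ R hM s y rx ry G _ _ α hα hz
  have fl := fl_std hM rx ry
  have f4 := fl_four hM fl
  have m1 := mf1 A Q z θ R hM s y rx ry
  have m2 := mf2 A Q z θ R hM s y rx ry
  have hV := V_le hM rx ry
  have mK := @mem_K _ _ _ _ _ _ _ _ _ hM fl _ _ _ hα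
  have mZ := @mem_im _ _ _ _ _ _ _ hα _ le_rfl
  have mQ := @mem_im _ _ _ _ _ _ _ hα _ hV
  have ex := @exists_like _ _ _ _ _ _ _ _ _ hM fl _ _ _ hα
  have zz : α ⟨z, hz⟩ * α ⟨z, hz⟩ = 1 := by
    rw [← map_mul, ← map_one α]; exact congrArg α (Subtype.ext hM.hQ.zz)
  have cz : ∀ {c n}, (c, n) ∈ Like (norm_le s y) α → n * z = z * n →
      c * α ⟨z, hz⟩ = α ⟨z, hz⟩ * c := fun h e => by
    rw [← mul_inv_eq_iff_eq_mul, ← Like.eq h]
    exact congrArg α (Subtype.ext (mul_inv_eq_iff_eq_mul.2 e))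
  have cQ : Nat.card (Q.subgroupOf (centralizer {s, y})) = 2 ^ 23 := by
    rw [← inf_subgroupOf_right, Nat.card_congr (subgroupOfEquivOfLe inf_le_right).toEquiv, m1.card]
  have kS : ∀ l, α l = 1 → l.1 ∈ zpowers s := fun l hl => (mem_zpowers_invol f4.zz).2 (hα l hl)
  refine ⟨?_, ?_, ?_, ?_, map_mono (comap_mono hV), mQ.2 hM.hQ.mem, map_le_range _ _, zz,
    fun h => z_not_mem hM rx ry (mK.1 h), ?_, ?_, ?_, ?_, ?_, ?_, ?_, ?_, ?_, ?_, ?_, ?_, ?_, ?_⟩
  · rintro _ ⟨l, hl, rfl⟩; exact mK.2 hl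
  · rintro _ ⟨l, hl, rfl⟩
    rw [← map_mul, ← map_one α]; exact congrArg α (Subtype.ext (V_sq hM rx ry hl))
  · have h1 := card_map_dvd ((closure {s, y}).subgroupOf (centralizer ({s, y} : Set A))) α
    rw [Nat.card_congr (subgroupOfEquivOfLe (le_cent hM fl)).toEquiv, f4.card_closure] at h1
    have my : y ∈ closure ({s, y} : Set A) := subset_closure (by simp)
    have h2 := mt (card_eq_one (H := ((closure {s, y}).subgroupOf _).map α)).1 fun e =>
      (hα ⟨y, le_cent hM fl my⟩ (mem_bot.1 (e.le (mZ.2 my)))).elim f4.x1 f4.ne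
    have h3 := Nat.le_of_dvd (by norm_num) h1
    generalize Nat.card _ = k at h1 h2 h3
    interval_cases k <;> simp_all
  · rintro _ ⟨l, rfl⟩ h -; exact mZ.2 (mK.1 h)
  · rintro _ ⟨l, hl, rfl⟩
    rw [← map_mul, ← map_one α]
    exact (hM.hQ.sq hl).imp (fun e => congrArg α (Subtype.ext e)) fun e => congrArg α (Subtype.ext e)
  · rintro _ ⟨l, hl, rfl⟩ _ ⟨m, hm, rfl⟩
    rw [← map_mul, ← map_mul, ← map_mul]
    exact (hM.hQ.comm _ hl _ hm).imp (fun e => congrArg α (Subtype.ext e))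
      fun e => congrArg α (Subtype.ext e)
  · rintro _ ⟨l, hl, rfl⟩
    exact cz (Like.self (L_le s y) l) (hM.hQ.cen _ hl)
  · rintro _ ⟨l, hl, rfl⟩ h
    rw [← map_mul, mZ, mZ]
    refine m1.cen l hl fun b hb => (hM.hQ.comm l hl _ hb.1).resolve_right fun e => z_not_mem hM rx ry ?_
    have : (b * l)⁻¹ * (l * b) ∈ _ := V_of_eq hα (a := ⟨b, hb.2⟩ * l) (b := l * ⟨b, hb.2⟩) (by
      rw [map_mul, map_mul, h _ (mQ.2 hb.1)])
    rwa [e, inv_mul_cancel_left] at this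
  · have h1 := XS.card_mul_relIndex' α.ker (Q.subgroupOf (centralizer {s, y}))
    have h2 : Nat.card ↥(Q.subgroupOf (centralizer {s, y}) ⊓ α.ker) ≤ Nat.card (zpowers s) :=
      Nat.card_le_card_of_injective (fun a => ⟨a.1.1, kS _ a.2.2⟩) fun a b e =>
        Subtype.ext (Subtype.ext (Subtype.mk.inj e))
    rw [card_zpowers_invol f4.z1 f4.zz] at h2
    rw [relIndex_ker, cQ] at h1
    nlinarith
  · rintro c hc e _ ⟨l, hl, rfl⟩
    obtain ⟨n, h⟩ := ex hc
    rw [← Like.eq h, mQ]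
    exact hM.hQ.conj_mem (like_z' hM rx ry hα h e) hl
  · intro c hc e
    obtain ⟨n, h⟩ := ex hc
    exact cz h (like_z hM rx ry hα h e)
  · intro P hP h2
    obtain ⟨c, hc, e⟩ := m1.syl _ (fun n hn => (mem_pull.1 hn).choose_spec.2.1)
      (pull_two hM rx ry hα h2)
    refine ⟨α ⟨c, hc⟩, ⟨_, rfl⟩, fun p hp => ?_⟩
    obtain ⟨n, h⟩ := ex (hP hp)
    rw [← map_inv, ← map_mul, ← map_mul, ← mul_inv_eq_iff_eq_mul, ← Like.eq h]
    exact congrArg α (Subtype.ext (mul_inv_eq_iff_eq_mul.2 (e n (mem_pull.2 ⟨p, hp, h⟩))))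
  · intro c hc e1 e2 e3
    obtain ⟨n, h⟩ := ex hc
    have ms : s ∈ closure ({s, y} : Set A) := subset_closure (by simp)
    refine like_Q hM rx ry h (m2.rk1 n h.1 (like_z' hM rx ry hα h e1) ?_ fun b hb => ?_)
    · rcases hα (⟨s, le_cent hM fl ms⟩⁻¹ * ⟨_, Like.mem h ⟨s, le_cent hM fl ms⟩⟩) (by
        rw [map_mul, map_inv, Like.eq h, e2 _ (mZ.2 ms), mul_inv_cancel_right, inv_mul_cancel])
        with e | e
      · exact mul_inv_eq_iff_eq_mul.1 (inv_mul_eq_one.1 e).symm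
      · exact absurd (conj_eq_one_iff.1 ((inv_mul_eq_iff_eq_mul.1 e).trans f4.zz)) f4.z1
    · have := e3 _ ((mQ (l := ⟨b, hb.2⟩)).2 hb.1)
      rwa [← Like.eq h, ← map_inv, ← map_mul, ← map_mul, mZ, mZ] at this
  · rintro c hc e1 ⟨k, hk⟩ B hB h8 e2
    obtain ⟨n, h⟩ := ex hc
    have h1 := like_K hM rx ry hα (c := c ^ 2 ^ k) (n := n ^ 2 ^ k) (pow_mem h _) (hk ▸ one_mem _)
    set B0 := (B.comap α).map (centralizer ({s, y} : Set A)).subtype
    have l0 : B.comap α ≤ Q.subgroupOf _ := fun l hl => mQ.1 (hB hl)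
    have h2 := XS.card_mul_relIndex' (B.comap α) (Q.subgroupOf (centralizer {s, y}))
    have h3 := XS.card_mul_relIndex' B ((Q.subgroupOf _).map α)
    rw [inf_eq_right.2 l0, relIndex_comap, cQ, ← card_subtype] at h2
    rw [inf_eq_right.2 hB] at h3
    have h4 := relIndex_cent_le (B := B0) (U := zpowers s) (n := n) (by
      rintro _ ⟨l, hl, rfl⟩
      exact kS (⟨_, Like.mem h l⟩ * l⁻¹) (by
        rw [map_mul, map_inv, Like.eq h, e2 _ hl, mul_inv_cancel_right, mul_inv_cancel]))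
    have h5 := XS.card_mul_relIndex' (centralizer {n}) B0
    rw [card_zpowers_invol f4.z1 f4.zz] at h4
    have h6 : 0 < Nat.card B := Nat.card_pos
    refine like_Q hM rx ry h (m2.rk16 n h.1 (like_z' hM rx ry hα h e1)
      ⟨k + 1, by rw [pow_succ, pow_mul, sq, V_sq hM rx ry h1]⟩ (B0 ⊓ centralizer {n})
      (inf_le_left.trans (by rintro _ ⟨l, hl, rfl⟩; exact ⟨l0 hl, l.2⟩)) ?_
      fun b hb => (mem_centralizer_singleton_iff.1 hb.2).symm)
    have h7 : B.relIndex ((Q.subgroupOf _).map α) ≤ 8 := by nlinarith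
    change Nat.card B0 * _ = _ at h2
    nlinarith
  · obtain ⟨φ, p, -⟩ := f4.exists_hom'
    let f : Like (norm_le s y) α →* normalizer (α.range : Set G) :=
      ((MonoidHom.fst G A).comp (Subgroup.subtype _)).codRestrict _ fun p =>
        mem_normalizer_of_conj_mem (by
          rintro _ ⟨l, rfl⟩; exact ⟨_, Like.eq (c := p.1.1) (n := p.1.2) p.2 l⟩)
    let g : Like (norm_le s y) α →* normalizer (closure ({s, y} : Set A) : Set A) :=
      ((MonoidHom.snd G A).comp (Subgroup.subtype _)).codRestrict _ fun p => p.2.1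
    rw [relIndex, ← index_comap_of_surjective _ (f := f) fun c => by
      obtain ⟨n, h⟩ := ex c.2
      exact ⟨⟨_, h⟩, rfl⟩]
    refine (index_dvd_of_le (H := (φ.comp g).ker) fun a ha => ?_).trans ?_
    · have m := mem_c2.2 ((p _ _).1 ha)
      exact (mul_mem_cancel_left (inv_mem (mem_sup_left (S := α.range) ⟨_, rfl⟩))).1 (mem_sup_right
        (Like.cent (L_le s y) (l := ⟨_, m⟩) (c := a.1.1) a.2))
    · rw [index_ker]
      have := card_subgroup_dvd_card (φ.comp g).range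
      rwa [Nat.card_perm, Nat.card_fin] at this
  · let β := α.comp (inclusion (inf_le_right : centralizer ({z} : Set A) ⊓ centralizer {s, y} ≤ _))
    refine ⟨β.range, ?_, ?_, ?_⟩
    · rintro _ ⟨l, rfl⟩
      exact ⟨⟨_, rfl⟩, mem_centralizer_singleton_iff.2 (cz (Like.self (L_le s y) _)
        (mem_centralizer_singleton_iff.1 l.2.1))⟩
    · rw [β.range_eq_map, ← map_commutator, ← _root_.commutator_def, H34.BuA.perf A Q z θ R hM s y fl]
    · rintro _ ⟨l, rfl⟩ e -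
      exact ⟨⟨l, mem_centralizer_singleton_iff.2 (like_z' hM rx ry hα (Like.self (L_le s y) l) e),
        l.2⟩, rfl⟩
  · intro D hD h2 hn
    have k : ∀ d ∈ α.range ⊔ centralizer (α.range : Set G),
        ∃ m ∈ centralizer ({s, y} : Set A), (d, m) ∈ Like (norm_le s y) α := fun d hd => by
      let S := ((centralizer ({s, y} : Set A)).comap ((MonoidHom.snd G A).comp
        (Like (norm_le s y) α).subtype)).map ((MonoidHom.fst G A).comp (Subgroup.subtype _))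
      obtain ⟨p, hp, rfl⟩ := (sup_le (by rintro _ ⟨l, rfl⟩; exact ⟨⟨_, Like.self (L_le s y) l⟩, l.2, rfl⟩)
        fun c hc => ⟨⟨_, Like.of_cent hc⟩, one_mem (centralizer _), rfl⟩ : _ ≤ S) hd
      exact ⟨_, hp, p.2⟩
    have hQ := m1.o2 (pull (norm_le s y) α D) (fun n hn => by
      obtain ⟨d, hd, h⟩ := mem_pull.1 hn
      obtain ⟨m, hm, h'⟩ := k d (hD hd).1
      exact ⟨mem_centralizer_singleton_iff.2 (like_z' hM rx ry hα h
        (mem_centralizer_singleton_iff.1 (hD hd).2)), (mul_mem_cancel_left (inv_mem hm)).1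
        (le_cent hM fl (like_K hM rx ry hα (c := d⁻¹ * d) (mul_mem (inv_mem h') h)
          (by rw [inv_mul_cancel]; exact one_mem _)))⟩) (pull_two hM rx ry hα h2) fun c hc n hn' => by
      obtain ⟨d, hd, h⟩ := mem_pull.1 hn'
      have h' := Like.self (hW := norm_le s y) (α := α) (L_le s y) ⟨c, hc.2⟩
      exact mem_pull.2 ⟨_, hn _ ⟨_, rfl⟩ (cz h' (mem_centralizer_singleton_iff.1 hc.1)) d hd,
        mul_mem (mul_mem h' h) (inv_mem h')⟩
    intro d hd
    obtain ⟨m, -, h⟩ := k d (hD hd).1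
    obtain ⟨q, hq, e⟩ := like_Q hM rx ry h (hQ (mem_pull.2 ⟨d, hd, h⟩))
    exact (mul_mem_cancel_left (inv_mem (mem_sup_left hq))).1 (mem_sup_right e)
  · rintro _ ⟨l, rfl⟩ h
    rw [← map_mul, mZ] at h
    obtain ⟨e, c⟩ := mf3 A Q z θ R hM s y rx ry l l.2 h
    refine ⟨by rw [← map_mul, ← map_one α]; exact congrArg α (Subtype.ext e), c.imp mZ.2 (Or.imp ?_ ?_)⟩
    · rintro ⟨c, hc, e⟩
      refine ⟨α ⟨c, hc⟩, ⟨_, rfl⟩, ?_⟩
      rwa [← map_inv, ← map_mul, ← map_mul, ← map_mul, mZ]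
    · rintro ⟨a, ha, b, hb, c, hc, e, e1, e2, e3⟩
      refine ⟨α ⟨a, ha⟩, ⟨_, rfl⟩, α ⟨b, hb⟩, ⟨_, rfl⟩, α ⟨c, hc⟩, ⟨_, rfl⟩, ?_⟩
      simp only [← map_inv, ← map_mul, mQ]
      exact ⟨congrArg α (Subtype.ext e), e1, e2, e3⟩

end Cfsg.Agent.H70.Be
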