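import Cfsg.Agent.H97.BrDefs
import Cfsg.Agent.H70.BMod

/-! An integral representation of degree 4371 of the Baby Monster. -/

set_option autoImplicit false

namespace Cfsg.Agent.H70.Br

open Cfsg Module Matrix Subgroup Cfsg.Agent.H97.Br Cfsg.Agent.H97.Mj Cfsg.Agent.H97.Gr
  Cfsg.Agent.H70.BM

universe u

theorem inj_map {K : Type*} (F : Type*) [Group K] [IsSimpleGroup K] [Field F] (h2 : (2 : F) ≠ 0)
    {n : ℕ} {ρ : K →* GL (Fin n) ℤ} (hρ : Function.Injective ρ) {b : K} (hb : orderOf b = 2) :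
    Function.Injective ((GeneralLinearGroup.map (Int.castRingHom F)).comp ρ) := by
  refine (MonoidHom.ker_eq_bot_iff _).1
    ((IsSimpleGroup.eq_bot_or_eq_top_of_normal _ inferInstance).resolve_right fun e => ?_)
  have h1 : (Int.castRingHom F).mapMatrix (ρ b).1 = 1 := congrArg Units.val (e.ge (mem_top b))
  have h3 : ((ρ b).1 + 1).det ≠ 0 := fun c => by
    have := (Int.castRingHom F).map_det ((ρ b).1 + 1)
    rw [c, map_zero, map_add, h1, map_one, ← two_smul F, det_smul, det_one, mul_one] at this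
    exact pow_ne_zero _ h2 this.symm
  have h4 : ((ρ b).1 + 1) * ((ρ b).1 - 1) = 0 := by
    rw [add_mul, mul_sub, ← Units.val_mul, ← map_mul, ← pow_two, ← hb, pow_orderOf_eq_one, map_one]
    simp
  have h5 := congrArg (adjugate ((ρ b).1 + 1) * ·) h4
  simp only [← Matrix.mul_assoc, adjugate_mul, smul_mul_assoc, one_mul, mul_zero] at h5
  have h6 : b = 1 := hρ (Units.ext (by
    rw [map_one]; exact sub_eq_zero.1 ((smul_eq_zero.1 h5).resolve_left h3)))
  rw [h6, orderOf_one] at hb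
  omega

theorem exists_int_rep {K X W : Type*} [Group K] [IsSimpleGroup K] [Finite X] [AddCommGroup W]
    [Module ℝ W] [FiniteDimensional ℝ W] (φ : K →* Equiv.Perm X) (G : X → X → ℤ)
    (hi : ∀ g w y, G (φ g w) (φ g y) = G w y) (hx : ∃ g y, G (φ g y) y ≠ G y y) (u : X → W)
    (B : LinearMap.BilinForm ℝ W) (hG : ∀ w y, (G w y : ℝ) = B (u w) (u y)) :
    ∃ n ≤ finrank ℝ W, ∃ ρ : K →* GL (Fin n) ℤ, Function.Injective ρ := by
  let U := Submodule.span ℤ (Set.range G)
  let L : K → (X → ℤ) →ₗ[ℤ] X → ℤ := fun g => LinearMap.funLeft _ _ (φ g⁻¹)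
  have hL : ∀ g y, L g (G y) = G (φ g y) := fun g y => funext fun w => by
    change G y (φ g⁻¹ w) = _
    rw [← hi g, ← Equiv.Perm.mul_apply (φ g) (φ g⁻¹), ← map_mul, mul_inv_cancel, map_one]
    rfl
  have mem : ∀ g, ∀ v ∈ U, L g v ∈ U := fun g v hv => by
    have : U ≤ U.comap (L g) := Submodule.span_le.2 (by
      rintro _ ⟨y, rfl⟩
      exact Submodule.subset_span ⟨φ g y, (hL g y).symm⟩)
    exact this hv
  let r : K →* Module.End ℤ U :=
    { toFun g := (L g).restrict (mem g)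
      map_one' := LinearMap.ext fun v => Subtype.ext (funext fun w => by
        change v.1 (φ 1⁻¹ w) = v.1 w
        rw [inv_one, map_one]; rfl)
      map_mul' g h := LinearMap.ext fun v => Subtype.ext (funext fun w => by
        change v.1 (φ (g * h)⁻¹ w) = v.1 (φ h⁻¹ (φ g⁻¹ w))
        rw [_root_.mul_inv_rev, map_mul]; rfl) }
  let b := finBasis ℤ U
  let ψ : W →ₗ[ℝ] X → ℝ := LinearMap.pi fun w => B.flip (u w)
  refine ⟨finrank ℤ U, ?_, ((LinearMap.toMatrixAlgEquiv b).toMonoidHom.comp r).toHomUnits,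
    (MonoidHom.ker_eq_bot_iff _).1
      ((IsSimpleGroup.eq_bot_or_eq_top_of_normal _ inferInstance).resolve_right fun e => ?_)⟩
  · have li := (linearIndependent_algebraMap_comp_iff (S := ℝ)).2
      (b.linearIndependent.map' U.subtype U.ker_subtype)
    have m : ∀ v ∈ U, algebraMap ℤ ℝ ∘ v ∈ LinearMap.range ψ := fun v hv => by
      induction hv using Submodule.span_induction with
      | mem _ hv => obtain ⟨y, rfl⟩ := hv; exact ⟨u y, funext fun w => (hG y w).symm⟩
      | zero => exact ⟨0, funext fun w => by simp⟩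
      | add x y _ _ hx hy => convert add_mem hx hy using 1; exact funext fun w => by simp
      | smul a x _ hx => convert Submodule.smul_mem _ (a : ℝ) hx using 1; exact funext fun w => by simp
    have := (LinearIndependent.of_comp (LinearMap.range ψ).subtype
      (v := fun i => ⟨_, m _ (b i).2⟩) li).fintype_card_le_finrank
    rw [Fintype.card_fin] at this
    exact this.trans ψ.finrank_range_le
  · obtain ⟨g, y, hg⟩ := hx
    have h1 : r g = 1 := (LinearMap.toMatrixAlgEquiv b).injective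
      ((congrArg Units.val (e.ge (mem_top g))).trans (map_one _).symm)
    have h2 : L g (G y) = G y :=
      congrArg Subtype.val (LinearMap.congr_fun h1 ⟨_, Submodule.subset_span ⟨y, rfl⟩⟩)
    exact hg (congrFun ((hL g y).symm.trans h2) y)

section
variable {V : Type*} [AddCommGroup V] [Module ℝ V] {mul : V →ₗ[ℝ] V →ₗ[ℝ] V}
  {B : LinearMap.BilinForm ℝ V} {G : Type*} [Group G] {π : G →* (V ≃ₗ[ℝ] V)} {D Z : Set G}
  {a : G → V} {e : V}

theorem int_of_loc [Finite G] (h : MLoc mul B π D Z a) (m : MMod mul B π D a e) {x : G}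
    (hx : x ∈ D) [((zpowers x).subgroupOf (centralizer {x})).Normal]
    [IsSimpleGroup (centralizer ({x} : Set G) ⧸ (zpowers x).subgroupOf (centralizer {x}))]
    {g y : G} (hg : g * x = x * g) (y1 : y ∈ D) (y2 : x * y ∈ D)
    (hy : B (a (g * y * g⁻¹)) (a y) = 5 / 256) : ∃ n ≤ 4371,
      ∃ ρ : centralizer ({x} : Set G) ⧸ (zpowers x).subgroupOf (centralizer {x}) →* GL (Fin n) ℤ,
        Function.Injective ρ := by
  let X := {y // y ∈ D ∧ x * y ∈ D}
  have cm : ∀ g : centralizer ({x} : Set G), ∀ y : G,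
      g.1 * (x * y) * g.1⁻¹ = x * (g.1 * y * g.1⁻¹) := fun g y =>
    H97.Gr.conj_aux (mem_centralizer_singleton_iff.1 g.2)
  let _ : MulAction (centralizer ({x} : Set G)) X :=
    { smul g y := ⟨_, h.conj g.1 _ y.2.1, cm g y ▸ h.conj g.1 _ y.2.2⟩
      one_smul y := Subtype.ext (by change 1 * y.1 * 1⁻¹ = y.1; group)
      mul_smul g h y := Subtype.ext (by
        change g.1 * h.1 * y.1 * (g.1 * h.1)⁻¹ = g.1 * (h.1 * y.1 * h.1⁻¹) * g.1⁻¹; group) }
  let φ := QuotientGroup.lift ((zpowers x).subgroupOf (centralizer {x}))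
    (MulAction.toPermHom (centralizer ({x} : Set G)) X) fun g hg => by
    refine Equiv.ext fun y => Subtype.ext ?_
    change g.1 * y.1 * g.1⁻¹ = y.1
    rcases (H49.mem_zpowers_invol (h.sq hx)).1 (mem_subgroupOf.1 hg) with e | e <;> rw [e]
    · group
    · rw [h.comm hx y.2.1 y.2.2, mul_inv_cancel_right]
  have hφ : ∀ (g : centralizer ({x} : Set G)) (y : X),
      (φ (QuotientGroup.mk g) y).1 = g.1 * y.1 * g.1⁻¹ := fun _ _ => rfl
  choose N g1 g2 g3 using fun w y : X => exists_int h hx w.2.1 w.2.2 y.2.1 y.2.2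
  obtain ⟨_, hd⟩ := finrank_E4 h.toMRep m hx
  refine hd ▸ exists_int_rep φ N (fun g w y => ?_) ?_
    (fun y => (⟨_, mem_E4.2 (h.v4 hx y.2.1 y.2.2)⟩ : E4 mul (a x))) ((16 : ℝ) • B.restrict _) g1
  · obtain ⟨g, rfl⟩ := QuotientGroup.mk_surjective g
    refine Int.cast_injective (α := ℝ) ?_
    rw [g1, g1, hφ, hφ, ← cm, ← cm, h.act _ _ w.2.1, h.act _ _ w.2.2, h.act _ _ y.2.1,
      h.act _ _ y.2.2, ← map_sub, ← map_sub, h.pB]
  · refine ⟨QuotientGroup.mk ⟨g, mem_centralizer_singleton_iff.2 hg⟩, ⟨y, y1, y2⟩, ?_⟩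
    rw [g3 _ _ hy, g2 _ _ rfl]
    decide

end

theorem exists_int_BB : ∃ n ≤ 4371, ∃ ρ : BB →* GL (Fin n) ℤ, Function.Injective ρ := by
  have := isB_BB.1
  obtain ⟨w, hw⟩ := nb_ne tU tU_mem
  obtain ⟨y, hy0⟩ := Finset.card_pos.1 ((mloc.baby meq_real tU_mem hw).2.2.2.1 ▸
    (by norm_num : 0 < 2370830336))
  obtain ⟨hy, e⟩ := Finset.mem_filter.1 hy0
  obtain ⟨g, c, rfl⟩ := trans_nb tU_mem (mem_nb.1 hy).1 (mem_nb.1 hw).1 (mem_nb.1 hy).2
    (mem_nb.1 hw).2
  exact int_of_loc mloc mmod tU_mem c (mem_nb.1 hy).1 (mem_nb.1 hy).2 e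

theorem ex : ExStmt.{u} := fun hM F _ h2 => by
  have := isB_BB.1
  obtain ⟨n, hn, ρ, hρ⟩ := exists_int_BB
  obtain ⟨b, hb⟩ := DB_ne
  have h1 := hM ℝ (Fin n → ℝ) (toLinAlgEquiv'.toMonoidHom.comp ((Units.coeHom _).comp
    ((GeneralLinearGroup.map (Int.castRingHom ℝ)).comp ρ))) two_ne_zero ⟨b, fun e => by
      have := inj_map ℝ two_ne_zero hρ (orderOf_DB hb) (Units.ext
        ((toLinAlgEquiv'.injective (e.trans (map_one _).symm)).trans
          (congrArg Units.val (map_one _).symm)))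
      have o := orderOf_DB hb
      rw [this, orderOf_one] at o
      omega⟩
  rw [finrank_fin_fun] at h1
  obtain rfl : n = 4371 := le_antisymm hn h1
  exact ⟨_, inj_map F h2 hρ (orderOf_DB hb)⟩

end Cfsg.Agent.H70.Br
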