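import Cfsg.Agent.H97.BrDefs2
import Cfsg.Agent.H70.BrDim

/-! The subgroup `2¹⁰ : M₂₂` of `Co₂` and some relations with Conway's element. -/

set_option autoImplicit false
set_option maxRecDepth 100000

namespace Cfsg.Agent.H70.Co

open Cfsg Subgroup Cfsg.Agent.H42 Cfsg.Agent.H48 Cfsg.Agent.H49 Cfsg.Agent.H48.Mid
  Cfsg.Agent.H70.Br
open scoped Pointwise symmDiff commutatorElement

/-- the 22 points -/
abbrev D (j : GolayPt) : Prop := j ≠ none ∧ j ≠ some 0

/-- the words that avoid the two points -/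
def W0 (c : Finset GolayPt) : Prop := IsWord c ∧ none ∉ c ∧ some 0 ∉ c

/-- the sign changes -/
noncomputable def sg (c : Finset GolayPt) (h : W0 c) : St vU :=
  ⟨signEl c h.1, H43.MidCo2.sign_mem_St h.1 h.2.1 h.2.2⟩

theorem U_zero : ∀ j, (D j ↔ vU.1 j = 0) ∧ (D j → vU'.1 j = 0) := by decide +kernel

theorem w0_of {c : Finset GolayPt} {hc : IsWord c} (h : signEl c hc ∈ St vU) : W0 c := by
  have k : ∀ j ∈ c, D j := fun j hj => (U_zero j).1.2 (by
    have := congrArg (·.1 j) (show _ • _ = _ from h)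
    simp only [signEl_apply, if_pos hj] at this
    omega)
  exact ⟨hc, fun e => (k _ e).1 rfl, fun e => (k _ e).2 rfl⟩

theorem sign_fix {c : Finset GolayPt} (hc : IsWord c) {v : Lam} (h : ∀ j ∈ c, v.1 j = 0) :
    signEl c hc • v = v := Subtype.ext <| funext fun j => by
  rw [signEl_apply]
  split_ifs with e
  · rw [h j e, neg_zero]
  · rfl

theorem perm_fix {p : M24} {v : Lam} {T : Finset GolayPt} (hp : ∀ j ∈ T, p • j = j)
    (h : ∀ j ∉ T, v.1 j = 0) : permEl p • v = v := Subtype.ext <| funext fun j => by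
  obtain ⟨j, rfl⟩ := p.1.surjective j
  rw [permEl_apply']
  by_cases e : j ∈ T
  · exact congrArg v.1 (hp j e).symm
  · rw [h j e, h _ fun e' => e ((p.1.injective (hp _ e') : p.1 j = j) ▸ e')]

theorem sg_U' {c : Finset GolayPt} (h : W0 c) : (sg c h).1 • vU' = vU' :=
  sign_fix h.1 fun j hj => (U_zero j).2 ⟨fun e => h.2.1 (e ▸ hj), fun e => h.2.2 (e ▸ hj)⟩

theorem sg_sq {c : Finset GolayPt} (h : W0 c) : sg c h * sg c h = 1 :=
  Subtype.ext (signEl_mul_self c h.1)

theorem sg_comm {c d : Finset GolayPt} (h : W0 c) (h' : W0 d) : sg c h * sg d h' = sg d h' * sg c h :=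
  Subtype.ext (signEl_comm c d h.1 h'.1)

theorem perm_U {p : M24} (h1 : p • none = (none : GolayPt)) (h2 : p • some 0 = (some 0 : GolayPt)) :
    permEl p • vU = vU ∧ permEl p • vU' = vU' := by
  have k : ∀ j ∈ ({none, some 0} : Finset GolayPt), p • j = j := by simp [h1, h2]
  exact ⟨perm_fix k (by decide +kernel), perm_fix k (by decide +kernel)⟩

theorem e8_ne (i j : GolayPt) : -e8 i ≠ e8 j := fun e => by
  have := congrArg (·.1 j) e
  simp only [AddSubgroup.coe_neg, Pi.neg_apply, e8_val, Pi.single_apply] at this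
  split_ifs at this
  omega

theorem mono_of {g : Co0} (h : g ∈ St vU) (h' : g • vU' = vU' ∨ g • vU' = -vU') : g ∈ Mono := by
  rcases h' with e | e
  · exact E22_le_Mono ⟨h, e⟩
  · refine mem_mono_of_e8 (a := none) (b := some 0) (Or.inl ?_)
    rw [← U_add_U', co_add, h, e]
    exact Subtype.ext (by decide +kernel)

theorem fix_empty {c : Finset GolayPt} (h : W0 c) (e : ∀ x : ZMod 23, some (2 * x) ∈ c ↔ some x ∈ c) :
    c = ∅ := by
  have h1 : ∀ (k : ℕ) (x : ZMod 23), some (2 ^ k * x) ∈ c ↔ some x ∈ c := fun k x => by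
    induction k with
    | zero => rw [pow_zero, one_mul]
    | succ k ih => rw [pow_succ', mul_assoc, e, ih]
  have h2 : ∀ x : ZMod 23, ∃ y : ZMod 23, ∃ k : Fin 11, rep (some x) = some y ∧ x = 2 ^ k.1 * y := by
    decide +kernel
  have h3 : ∀ i, i ∈ c ↔ rep i ∈ c := by
    rintro (_ | x)
    · rfl
    · obtain ⟨y, k, e, rfl⟩ := h2 x
      rw [e, h1]
  have h4 := sum_rep fun i => if i ∈ c then 1 else 0
  simp only [← h3, if_neg h.2.1, if_neg h.2.2, Finset.sum_boole, Finset.filter_mem_eq_inter,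
    Finset.univ_inter] at h4
  have h5 := h.1.four_dvd_card
  rw [← Finset.card_eq_zero]
  split_ifs at h4 <;> omega

/-- the subgroup `2¹⁰ : M₂₂` -/
abbrev E22 : Subgroup (St vU) := (St vU').subgroupOf (St vU)

theorem perf_E22 : _root_.commutator E22 = ⊤ := by
  let ψ : ↥(MulAction.stabilizer M24 (none : GolayPt) ⊓ MulAction.stabilizer M24 (some 0 : GolayPt)) →*
      E22 := MonoidHom.mk' (fun p => ⟨⟨permEl p, (perm_U p.2.1 p.2.2).1⟩, (perm_U p.2.1 p.2.2).2⟩)
    fun p q => Subtype.ext (Subtype.ext (permHom.map_mul p.1 q.1))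
  have h1 : ∀ p, ψ p ∈ _root_.commutator E22 := fun p => by
    have := stab_two_simple (p := none) (q := some 0) (by decide)
    refine ((map_commutator ⊤ ⊤ ψ).le.trans (commutator_mono le_top le_top)) ⟨p,
      ((IsSimpleGroup.eq_bot_or_eq_top_of_normal (_root_.commutator _)
      inferInstance).resolve_left fun e => ?_).ge (mem_top p), rfl⟩
    have c := (commutator_eq_bot_iff _).1 e
    let _ : CommGroup ↥(MulAction.stabilizer M24 (none : GolayPt) ⊓
      MulAction.stabilizer M24 (some 0 : GolayPt)) :=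
      { (inferInstance : Group _) with mul_comm := c.is_comm.comm }
    have h := IsSimpleGroup.prime_card (α := ↥(MulAction.stabilizer M24 (none : GolayPt) ⊓
      MulAction.stabilizer M24 (some 0 : GolayPt)))
    rw [card_stab_two (by decide)] at h
    exact absurd (h.eq_one_or_self_of_dvd 2 (by norm_num)) (by norm_num)
  have e1 : ∀ i, (toM gDbl).1 i = Option.map (2 * ·) i := fun i => by
    rw [coe_toM inM_gDbl, toPerm_apply (inM_isPerm inM_gDbl)]
    revert i; decide +kernel +revert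
  have e2 : ∀ (c : Finset GolayPt) i, (toM gDbl).1 i ∈ (toM gDbl).1 • c ↔ i ∈ c := fun c i => by
    rw [mem_smul_finset_iff, Equiv.symm_apply_apply]
  have w : ∀ c, W0 c → W0 (c ∆ ((toM gDbl).1 • c)) := fun c h => ⟨h.1.symmDiff (h.1.smul (toM _).2), by
    have := e2 c none
    have := e2 c (some 0)
    simp_all [Finset.mem_symmDiff, h.2.1, h.2.2]⟩
  have h2 : Function.Surjective fun c : {c // W0 c} => (⟨_, w c.1 c.2⟩ : {c // W0 c}) :=
    Finite.surjective_of_injective fun c d e => Subtype.ext (symmDiff_eq_bot.1 (fix_empty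
      ⟨c.2.1.symmDiff d.2.1, by simp [Finset.mem_symmDiff, c.2.2, d.2.2]⟩ fun x => by
      have h := Finset.ext_iff.1 (Subtype.mk.inj e) (some (2 * x))
      have h1 := e2 c (some x)
      have h2 := e2 d (some x)
      rw [e1] at h1 h2
      simp only [Finset.mem_symmDiff, Option.map_some] at h h1 h2 ⊢
      tauto))
  refine eq_top_iff.2 fun g _ => ?_
  obtain ⟨p, c, hc, e⟩ := mono_structure (E22_le_Mono ⟨g.1.2, g.2⟩)
  have k : ∀ i, g.1.1 • e8 i = e8 i → p • i = i ∧ i ∉ c := fun i h => by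
    rw [e, mul_smul, permEl_e8, signEl_e8] at h
    split_ifs at h with a
    · exact absurd h (e8_ne _ _)
    · exact ⟨e8_injective h, e8_injective h ▸ a⟩
  obtain ⟨a1, a2⟩ := k none (by rw [← U_add_U', co_add, g.1.2, show g.1.1 • vU' = vU' from g.2])
  obtain ⟨b1, b2⟩ := k (some 0) (by
    rw [show e8 (some 0) = vU - vU' from Subtype.ext (by decide +kernel), co_sub, g.1.2,
      show g.1.1 • vU' = vU' from g.2])
  obtain ⟨d, e'⟩ := h2 ⟨c, hc, a2, b2⟩
  obtain rfl := Subtype.mk.inj e'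
  have := mul_mem (commutator_mem_commutator (mem_top (⟨sg d.1 d.2, sg_U' d.2⟩ : E22))
    (mem_top (ψ ⟨toM gDbl, e1 none, (e1 _).trans (by simp)⟩))) (h1 ⟨p, a1, b1⟩)
  refine (Subtype.ext (Subtype.ext (e.trans ?_)) : g = _) ▸ this
  change _ = signEl d.1 d.2.1 * permEl _ * (signEl d.1 d.2.1)⁻¹ * (permEl _)⁻¹ * permEl p
  rw [signEl_inv, mul_assoc (signEl _ _), mul_assoc (signEl _ _), permEl_conj_signEl, signEl_mul]

/-- Conway's element -/
noncomputable def kk : St vU := ⟨xi2, xi2_mem⟩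

theorem kk_sq : kk * kk = 1 :=
  Subtype.ext (show xi2 * xi2 = 1 by
    rw [← sq, ← el_xi2G]; exact ok_xi2G.pow_eq_one (by decide +kernel))

/-- the tetrad of Conway's element -/
def T0 : Finset GolayPt := {none, some 0, some 1, some 2}

/-- the image of `vU'` -/
def uu : Lam :=
  lam [0, -4, 4, 0, 0, 0, 0, 0, 0, 0, 0, 0, 0, 0, 0, 0, 0, 0, 0, 0, 0, 0, 0, 0] (by decide +kernel)

theorem kk_U' : kk.1 • vU' = uu :=
  xi2_smul (by decide +kernel) (by decide +kernel) (by decide +kernel)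

theorem uu_zero : ∀ j ∉ T0, uu.1 j = 0 := by decide +kernel

theorem conj_fix {g : St vU} (h : g.1 • uu = uu) : (kk * g * kk).1 • vU' = vU' := by
  rw [coe_mul, coe_mul, mul_smul, mul_smul, kk_U', h, ← kk_U', ← mul_smul, ← coe_mul, kk_sq, coe_one,
    one_smul]

theorem w0_code {c : ℕ} (h : isCode c = true ∧ none ∉ toSet c ∧ some 0 ∉ toSet c) : W0 (toSet c) :=
  ⟨isWord_toSet h.1, h.2⟩

theorem sg_code {c : ℕ} (h : isCode c = true) (h' : W0 (toSet c)) :
    (sg (toSet c) h').1 = el (monoG c pid) := by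
  rw [el_monoG h inM_pid, toM_pid, permEl_one, mul_one]; rfl

theorem w1 : W0 (toSet 7305720) := w0_code (by decide +kernel)
theorem w2 : W0 (toSet 1230376) := w0_code (by decide +kernel)
theorem w3 : W0 (toSet 10558) := w0_code (by decide +kernel)
theorem w4 : W0 (toSet 31554) := w0_code (by decide +kernel)

theorem cover : ∀ j, (j ∉ T0 ↔ j ∈ toSet 7305720 ∨ j ∈ toSet 1230376) ∧
    (D j → j ∈ T0 → j ∈ toSet 10558 ∧ (j = some 1 ∨ j = some 2)) ∧ (j ∉ T0 → D j) := by
  decide +kernel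

theorem kk_comm {c : ℕ} (h : isCode c = true) (h' : W0 (toSet c))
    (e : mulG xi2G (monoG c pid) = mulG (monoG c pid) xi2G) : kk * sg _ h' = sg _ h' * kk := by
  have o := ok_monoG h inM_pid
  refine Subtype.ext ?_
  rw [coe_mul, coe_mul, sg_code h, show kk.1 = el xi2G from el_xi2G.symm, ← el_mulG ok_xi2G o,
    ← el_mulG o ok_xi2G, e]

theorem kk_w1 : kk * sg _ w1 = sg _ w1 * kk := kk_comm (by decide +kernel) _ (by decide +kernel)
theorem kk_w2 : kk * sg _ w2 = sg _ w2 * kk := kk_comm (by decide +kernel) _ (by decide +kernel)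

theorem ee_spec : (kk * sg _ w3 * kk).1 • vU' = -vU' ∧
    (kk * sg _ w3 * kk).1 • e8 (some 1) = -e8 (some 2) := by
  have o := ok_monoG (c := 10558) (by decide +kernel) inM_pid
  rw [coe_mul, coe_mul, sg_code (by decide +kernel), show kk.1 = el xi2G from el_xi2G.symm,
    ← el_mulG ok_xi2G o, ← el_mulG (ok_xi2G.mul o) ok_xi2G]
  exact ⟨((ok_xi2G.mul o).mul ok_xi2G).smul_eq (by decide +kernel) (by decide +kernel)
    (by decide +kernel), ((ok_xi2G.mul o).mul ok_xi2G).smul_eq (by decide +kernel)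
    (by decide +kernel) (by decide +kernel)⟩

theorem mm_spec : ((kk * sg _ w4) ^ 3).1 • vU' = vU' := by
  have o := ok_monoG (c := 31554) (by decide +kernel) inM_pid
  rw [SubgroupClass.coe_pow, coe_mul, sg_code (by decide +kernel),
    show kk.1 = el xi2G from el_xi2G.symm, ← el_mulG ok_xi2G o, ← (powG_spec (ok_xi2G.mul o) 3).2]
  exact (powG_spec (ok_xi2G.mul o) 3).1.smul_eq (by decide +kernel) (by decide +kernel)
    (by decide +kernel)

theorem exists_sep {A : Finset GolayPt} (hA : A.card ≤ 5) (h1 : none ∈ A) (h2 : some 0 ∈ A)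
    {i j : GolayPt} (hi : i ∉ A) (hj : j ≠ i) : ∃ c, W0 c ∧ i ∈ c ∧ j ∉ c ∧ ∀ t ∈ c, t ∉ A := by
  obtain ⟨c, hc, e⟩ := exists_word_inter (insert i (insert j A)) {i}
    ((Finset.card_insert_le _ _).trans (by have := Finset.card_insert_le j A; omega)) (by simp)
  have k : ∀ t ∈ c, t ∈ insert i (insert j A) → t = i := fun t a b =>
    Finset.mem_singleton.1 (e ▸ Finset.mem_inter.2 ⟨a, b⟩)
  have k' : ∀ t ∈ c, t ∉ A := fun t a b => hi (k t a (by simp [b]) ▸ b)
  exact ⟨c, ⟨hc, fun a => k' _ a h1, fun a => k' _ a h2⟩,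
    (Finset.mem_inter.1 (e.ge (Finset.mem_singleton_self i))).1, fun a => hj (k j a (by simp)), k'⟩

end Cfsg.Agent.H70.Co
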