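import Cfsg.Agent.H70.Co23A

/-! The representation of degree 23 of `Co₂`. -/

set_option autoImplicit false
set_option maxRecDepth 100000

namespace Cfsg.Agent.H70.Co

open Cfsg Module Cfsg.Agent.H42 Cfsg.Agent.H48 Cfsg.Agent.H49 Cfsg.Agent.H48.Mid
  Cfsg.Agent.H97.Min Cfsg.Agent.H97.Br

universe u

variable {F W : Type*} [Field F] [AddCommGroup W] [Module F W] (σ : Representation F (St vU) W)

/-- the weight space of a point -/
abbrev L (j : GolayPt) : Submodule F W := sW σ {j}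

/-- a partial sum -/
abbrev S (M : GolayPt → Submodule F W) (P : GolayPt → Prop) : Submodule F W := ⨆ j, ⨆ _ : P j, M j

theorem le_S (M : GolayPt → Submodule F W) {P : GolayPt → Prop} {j : GolayPt} (h : P j) :
    M j ≤ S M P := le_iSup₂ (f := fun j (_ : P j) => M j) j h

variable {σ}

theorem mem_L {j : GolayPt} {v : W} :
    v ∈ L σ j ↔ ∀ c (h : W0 c), σ (sg c h) v = if j ∈ c then -v else v := by
  have : ∀ c, (sgn c {j} : F) • v = if j ∈ c then -v else v := fun c => by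
    rw [sgn, Finset.prod_singleton]; split_ifs <;> simp
  exact ⟨fun h c hc => this c ▸ h c hc.1 (sg c hc).2, fun h c _ hc => this c ▸ h c (w0_of hc)⟩

theorem L_eq {j : GolayPt} (h : ¬ D j) : L σ j = sW σ ∅ := by
  have : ∀ c hc, signEl c hc ∈ St vU → sgn c {j} = sgn c ∅ := fun c hc e => by
    rw [sgn, sgn, Finset.prod_singleton, Finset.prod_empty, if_neg fun a => h
      ⟨fun b => (w0_of e).2.1 (b ▸ a), fun b => (w0_of e).2.2 (b ▸ a)⟩]
  ext v
  exact ⟨fun a c hc e => this c hc e ▸ a c hc e, fun a c hc e => (this c hc e).symm ▸ a c hc e⟩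

theorem mul_ap (g k : St vU) (v : W) : σ (g * k) v = σ g (σ k v) := by rw [map_mul, End.mul_apply]

theorem kk_kk (v : W) : σ kk (σ kk v) = v := by rw [← mul_ap, kk_sq, map_one, End.one_apply]

theorem conj_sq {G : Type*} [Group G] {k s : G} (hk : k * k = 1) (hs : s * s = 1) :
    k * s * k * (k * s * k) = 1 := by
  rw [← mul_assoc, ← mul_assoc, mul_assoc _ k k, hk, mul_one, mul_assoc _ s s, hs, mul_one, hk]

theorem mapL {g : St vU} (hg : g.1 ∈ Mono) {i j : GolayPt}
    (e : g.1 • e8 i = e8 j ∨ g.1 • e8 i = -e8 j) {v : W} (hv : v ∈ L σ i) : σ g v ∈ L σ j :=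
  mem_L.2 fun d hd => by
    obtain ⟨c, hc, e1⟩ := Sg_conj hg ⟨d, hd.1, rfl⟩
    have h := w0_of (e1 ▸ (g⁻¹ * sg d hd * g).2 : signEl c hc ∈ St vU)
    have e2 : sg d hd * g = g * sg c h :=
      Subtype.ext (inv_mul_eq_iff_eq_mul.1 ((mul_assoc _ _ _).symm.trans e1))
    have e3 : (sg d hd).1 • g.1 • e8 i = g.1 • (sg c h).1 • e8 i := by
      rw [← mul_smul, ← mul_smul, ← Subgroup.coe_mul, e2, Subgroup.coe_mul]
    have e4 : i ∈ c ↔ j ∈ d := by
      have := e8_ne j j
      have := this.symm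
      rcases e with e | e <;> by_cases a : i ∈ c <;> by_cases b : j ∈ d <;>
        simp_all [sg, signEl_e8]
    rw [← mul_ap, e2, mul_ap, mem_L.1 hv c h]
    simp only [e4]
    split_ifs
    exacts [map_neg _ _, rfl]

theorem exists_pt {g : St vU} (hg : g.1 ∈ Mono) (i : GolayPt) :
    ∃ j, (D j ↔ D i) ∧ ∀ v ∈ L σ i, σ g v ∈ L σ j := by
  obtain ⟨j, e⟩ := hg i
  refine ⟨j, ?_, fun v hv => mapL hg e hv⟩
  have := co_dot g.1 vU (e8 i)
  rw [g.2] at this
  rw [(U_zero i).1, (U_zero j).1]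
  rcases e with e | e <;> rw [e] at this
  · rw [dot_e8, dot_e8] at this; omega
  · rw [AddSubgroup.coe_neg, H48.dotInt_neg_right, dot_e8, dot_e8] at this; omega

theorem mapX {g : St vU} (hg : g.1 ∈ Mono) : S (L σ) D ≤ (S (L σ) D).comap (σ g) :=
  iSup₂_le fun i hi v hv => by
    obtain ⟨j, h1, h2⟩ := exists_pt (σ := σ) hg i
    exact le_S _ (h1.2 hi) (h2 v hv)

theorem map0 {g : St vU} (hg : g.1 ∈ Mono) {v : W} (hv : v ∈ L σ none) : σ g v ∈ L σ none := by
  obtain ⟨j, h1, h2⟩ := exists_pt (σ := σ) hg none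
  rw [L_eq (by simp), ← L_eq (mt h1.1 (by simp))]
  exact h2 v hv

theorem sgL {c : Finset GolayPt} (h : W0 c) {j : GolayPt} {v : W} (hv : v ∈ L σ j) :
    σ (sg c h) v ∈ L σ j := by
  rw [mem_L.1 hv]
  split_ifs
  exacts [neg_mem hv, hv]

theorem permL {p : M24} (hp : permEl p ∈ St vU) {j : GolayPt} {v : W} (hv : v ∈ L σ j) :
    σ ⟨_, hp⟩ v ∈ L σ (p • j) := mapL (permEl_mem_mono p) (Or.inl (permEl_e8 p j)) hv

/-- fixed by three sign changes -/
def Fx (σ : Representation F (St vU) W) (w : W) : Prop :=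
  σ (sg _ w1) w = w ∧ σ (sg _ w2) w = w ∧ σ (sg _ w3) w = w

theorem Fx.opp {w : W} (h : Fx σ w) (j : GolayPt) (hj : D j) :
    ∃ c, ∃ hc : W0 c, σ (sg c hc) w = if j ∈ c then w else -w := by
  by_cases e : j ∈ T0
  · exact ⟨_, w3, by rw [if_pos ((cover j).2.1 hj e).1, h.2.2]⟩
  · rcases (cover j).1.1 e with e | e
    exacts [⟨_, w1, by rw [if_pos e, h.1]⟩, ⟨_, w2, by rw [if_pos e, h.2.1]⟩]

theorem fx_kk {y : W} (h1 : σ (sg _ w1) y = y) (h2 : σ (sg _ w2) y = y)
    (h3 : σ (kk * sg _ w3 * kk) y = y) : Fx σ (σ kk y) :=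
  ⟨by rw [← mul_ap, ← kk_w1, mul_ap, h1], by rw [← mul_ap, ← kk_w2, mul_ap, h2], by
    rw [← kk_kk (σ := σ) (σ _ _), ← mul_ap kk (sg _ _), ← mul_ap (kk * _), h3]⟩

theorem opp_of {i j : GolayPt} {c : Finset GolayPt} (hc : W0 c) {v : W}
    (e : σ (sg c hc) v = if i ∈ c then -v else v) (h : i ∈ c ↔ j ∉ c) :
    σ (sg c hc) v = if j ∈ c then v else -v := by
  rw [e]; by_cases a : j ∈ c <;> simp [a, h]

theorem opp_L {i j : GolayPt} (hi : i ≠ some 0) (hj : j ≠ some 0) (e : j ≠ i) {v : W}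
    (hv : v ∈ L σ i) : ∃ c, ∃ hc : W0 c, σ (sg c hc) v = if j ∈ c then v else -v := by
  by_cases a : i = none
  · obtain ⟨c, hc, h1, h2, -⟩ := exists_sep (A := {none, some 0}) (by decide) (by simp) (by simp)
      (i := j) (by simp [hj, ← a, e]) e.symm
    exact ⟨c, hc, opp_of hc (mem_L.1 hv c hc) (by simp [h1, h2])⟩
  · obtain ⟨c, hc, h1, h2, -⟩ := exists_sep (A := {none, some 0}) (by decide) (by simp) (by simp)
      (i := i) (by simp [hi, a]) e
    exact ⟨c, hc, opp_of hc (mem_L.1 hv c hc) (by simp [h1, h2])⟩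

variable (h2 : (2 : F) ≠ 0)
include h2

theorem sep {M : GolayPt → Submodule F W} (hM : ∀ j, M j ≤ L σ j) {P Q : GolayPt → Prop} {w : W}
    (hw : w ∈ S M P) (h : ∀ j, P j → ¬ Q j → ∃ c, ∃ hc : W0 c,
      σ (sg c hc) w = if j ∈ c then w else -w) : w ∈ S M Q := by
  have key : ∀ T : Finset GolayPt, w ∈ S M fun j => P j ∧ (j ∈ T → Q j) := fun T => by
    induction T using Finset.induction_on with
    | empty => simpa using hw
    | insert i T _ ih =>
      by_cases a : P i ∧ ¬ Q i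
      · obtain ⟨c, hc, e⟩ := h i a.1 a.2
        have := (iSup₂_le fun j hj v hv => by
          have e' := mem_L.1 (hM j hv) c hc
          rw [Submodule.mem_comap]
          by_cases b : i ∈ c ↔ j ∈ c
          · by_cases d : j ∈ c <;> simp [b, d, e']
          · refine le_S M (j := j) ⟨hj.1, fun k => hj.2 ((Finset.mem_insert.1 k).resolve_left
              (by rintro rfl; exact b Iff.rfl))⟩ ?_
            by_cases d : j ∈ c <;> simp_all [add_mem hv hv] :
          _ ≤ (S M fun j => P j ∧ (j ∈ insert i T → Q j)).comap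
            (1 + if i ∈ c then σ (sg c hc) else -σ (sg c hc))) ih
        rw [Submodule.mem_comap, show (1 + if i ∈ c then σ (sg c hc) else -σ (sg c hc)) w =
          (2 : F) • w by by_cases d : i ∈ c <;> simp [d, e, two_smul]] at this
        exact (Submodule.smul_mem_iff _ h2).1 this
      · exact (iSup₂_le fun j hj => le_S M ⟨hj.1, fun k => (Finset.mem_insert.1 k).elim
          (by rintro rfl; exact not_not.1 (not_and.1 a hj.1)) hj.2⟩ : _ ≤ _) ih
  exact (iSup₂_le fun j hj => le_S M (hj.2 (Finset.mem_univ j)) : _ ≤ _) (key Finset.univ)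

theorem eq_zero {P : GolayPt → Prop} {w : W} (hw : w ∈ S (L σ) P) (h : ∀ j, P j → ∃ c, ∃ hc : W0 c,
      σ (sg c hc) w = if j ∈ c then w else -w) : w = 0 := by
  simpa [S] using sep h2 (fun _ => le_rfl) (Q := fun _ => False) hw fun j hj _ => h j hj

theorem indep {P : GolayPt → Prop} (hP : ∀ j, P j → j ≠ some 0) {b : GolayPt → W}
    (hb : ∀ j, P j → b j ∈ L σ j ∧ b j ≠ 0) : LinearIndependent F fun j : {j // P j} => b j :=
  linearIndependent_iff_notMem_span.2 fun i hi => (hb i i.2).2 (eq_zero h2 (σ := σ)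
    (P := fun j => P j ∧ j ≠ i) ((Submodule.span_le.2 (by
      rintro _ ⟨j, hj, rfl⟩
      exact le_S (L σ) ⟨j.2, fun e => hj.2 (Subtype.ext e)⟩ (hb j j.2).1) : _ ≤ _) hi)
    fun j hj => opp_L (hP _ i.2) (hP _ hj.1) hj.2 (hb i i.2).1)

theorem core {x : W} (hx : x ∈ L σ (some 1)) (h0 : x ≠ 0) :
    σ (kk * sg _ w3 * kk) x ∈ L σ (some 2) ∧ x + σ (kk * sg _ w3 * kk) x ≠ 0 ∧
      σ (sg _ w1) (x + σ (kk * sg _ w3 * kk) x) = x + σ (kk * sg _ w3 * kk) x ∧
      σ (sg _ w2) (x + σ (kk * sg _ w3 * kk) x) = x + σ (kk * sg _ w3 * kk) x ∧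
      σ (kk * sg _ w3 * kk) (x + σ (kk * sg _ w3 * kk) x) = x + σ (kk * sg _ w3 * kk) x := by
  have h1 := mapL (g := kk * sg _ w3 * kk) (mono_of (kk * sg _ w3 * kk).2 (Or.inr ee_spec.1))
    (Or.inr ee_spec.2) hx
  have ee := conj_sq kk_sq (sg_sq w3)
  generalize kk * sg _ w3 * kk = e at h1 ee
  have n : ∀ j ∈ T0, j ∉ toSet 7305720 ∧ j ∉ toSet 1230376 := fun j hj =>
    not_or.1 (mt (cover j).1.2 (not_not.2 hj))
  refine ⟨h1, fun e => h0 (eq_zero h2 (σ := σ) (P := Eq (some 2)) (le_S (L σ) rfl ?_) ?_), ?_, ?_, ?_⟩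
  · rw [eq_neg_of_add_eq_zero_left e]; exact neg_mem h1
  · rintro _ rfl; exact opp_L (by decide) (by decide) (by decide) hx
  · rw [map_add, mem_L.1 hx _ w1, mem_L.1 h1 _ w1, if_neg (n _ (by simp [T0])).1,
      if_neg (n _ (by simp [T0])).1]
  · rw [map_add, mem_L.1 hx _ w2, mem_L.1 h1 _ w2, if_neg (n _ (by simp [T0])).2,
      if_neg (n _ (by simp [T0])).2]
  · rw [map_add, add_comm, ← mul_ap, ee, map_one, End.one_apply]

/-- the weights of a small representation -/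
structure Str (σ : Representation F (St vU) W) : Prop where
  line : ∀ j, finrank F (L σ j) = 1
  top : S (L σ) (· ≠ some 0) = ⊤

theorem main [FiniteDimensional F W] (h : sW σ {some 1} ≠ ⊥) :
    23 ≤ finrank F W ∧ (finrank F W ≤ 23 → Str σ) := by
  obtain ⟨x, hx, h0⟩ := (Submodule.ne_bot_iff _).1 h
  obtain ⟨-, y0, y1, y2, y3⟩ := core h2 hx h0
  have fx := fx_kk y1 y2 y3
  have x0 : σ kk _ ≠ 0 := fun e => y0 (inj_rep σ kk (e.trans (map_zero _).symm))
  generalize σ kk _ = x' at fx x0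
  have nx : ∀ w ∈ S (L σ) D, Fx σ w → w = 0 := fun w hw f => eq_zero h2 hw f.opp
  have ex : ∀ j, D j → ∃ v ∈ L σ j, v ≠ 0 := fun j hj => by
    obtain ⟨p, p1, rfl⟩ := exists_smul_fix_set (t := {none, some 0}) (by decide) (a := some 1)
      (b := j) (by decide) (by simpa using hj)
    exact ⟨_, permL (perm_U (p1 _ (by simp)) (p1 _ (by simp))).1 hx,
      fun e => h0 (inj_rep σ _ (e.trans (map_zero _).symm))⟩
  choose! b hb using ex
  have sp : Submodule.span F (Set.range fun j : {j // D j} => b j) ≤ S (L σ) D :=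
    Submodule.span_le.2 (by rintro _ ⟨j, rfl⟩; exact le_S (L σ) j.2 (hb j j.2).1)
  have li := (indep h2 (fun _ h => h.2) hb).option fun e => x0 (nx _ (sp e) fx)
  have c1 : Fintype.card (Option {j // D j}) = 23 := by decide +kernel
  have le := c1 ▸ li.fintype_card_le_finrank
  refine ⟨le, fun h23 => ?_⟩
  have t1 : ⊤ ≤ (F ∙ x') ⊔ S (L σ) D := by
    rw [← li.span_eq_top_of_card_eq_finrank' (by omega), Submodule.span_le]
    rintro _ ⟨_ | j, rfl⟩
    exacts [Submodule.mem_sup_left (Submodule.mem_span_singleton_self _),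
      Submodule.mem_sup_right (le_S (L σ) j.2 (hb j j.2).1)]
  have q := fix_line (Representation.quotient (σ.comp E22.subtype) (S (L σ) D) fun g =>
    mapX (E22_le_Mono ⟨g.1.2, g.2⟩)) (β := MonoidHom.id _) Function.surjective_id perf_E22 (X := ⊤)
    (by
      rw [finrank_top]
      refine (finrank_eq_one_iff_of_nonzero' (Submodule.Quotient.mk x') fun e =>
        x0 (nx _ ((Submodule.Quotient.mk_eq_zero _).1 e) fx)).2 fun w => ?_
      obtain ⟨w, rfl⟩ := Submodule.Quotient.mk_surjective _ w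
      obtain ⟨_, a, v, hv, rfl⟩ := Submodule.mem_sup.1 (t1 (Submodule.mem_top (x := w)))
      obtain ⟨r, rfl⟩ := Submodule.mem_span_singleton.1 a
      exact ⟨r, by simp [(Submodule.Quotient.mk_eq_zero _).2 hv]⟩) (fun _ _ _ => trivial)
    fun k e u _ => by rw [show k = 1 from e, map_one, End.one_apply]
  have m0 : x' ∈ L σ none := mem_L.2 fun c hc => by
    have k : ∀ d (hd : W0 d), σ (sg d hd) x' = x' →
        σ (sg d hd) (σ (sg c hc) x' - x') = σ (sg c hc) x' - x' := fun d hd e => by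
      rw [map_sub, ← mul_ap, sg_comm, mul_ap, e]
    rw [if_neg hc.2.1, ← sub_eq_zero]
    exact nx _ ((Submodule.Quotient.eq _).1 (q ⟨sg c hc, sg_U' hc⟩ (Submodule.Quotient.mk x') trivial))
      ⟨k _ _ fx.1, k _ _ fx.2.1, k _ _ fx.2.2⟩
  let M : GolayPt → Submodule F W := fun j => F ∙ if D j then b j else x'
  have hM : ∀ j, (if D j then b j else x') ∈ L σ j ∧ (if D j then b j else x') ≠ 0 := fun j => by
    split_ifs with e
    exacts [hb j e, ⟨by rwa [L_eq e, ← L_eq (j := none) (by simp)], x0⟩]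
  have hM' : ∀ j, M j ≤ L σ j := fun j => (Submodule.span_singleton_le_iff_mem _ _).2 (hM j).1
  have t2 : ⊤ ≤ S M (· ≠ some 0) := by
    rw [← li.span_eq_top_of_card_eq_finrank' (by omega), Submodule.span_le]
    rintro _ ⟨_ | j, rfl⟩
    · exact le_S M (j := none) (by simp) (by simp [M, D])
    · exact le_S M (j := j) j.2.2 (by simp [M, if_pos j.2])
  have e : ∀ j, j ≠ some 0 → finrank F (L σ j) = 1 := fun j hj => by
    rw [le_antisymm (fun v hv => (iSup₂_le (by rintro _ rfl; rfl) : S M (· = j) ≤ M j)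
      (sep h2 hM' (t2 trivial) fun i hi e => opp_L hj hi e hv)) (hM' j)]
    exact finrank_span_singleton (hM j).2
  refine ⟨fun j => ?_, eq_top_iff.2 (t2.trans (iSup₂_mono fun j _ => hM' j))⟩
  by_cases a : j = some 0
  · rw [L_eq (by simp [a]), ← L_eq (j := none) (by simp)]; exact e _ (by simp)
  · exact e j a

omit h2 in
theorem Str.sup (s : Str σ) : L σ none ⊔ S (L σ) D = ⊤ :=
  eq_top_iff.2 (s.top.ge.trans (iSup₂_le fun j hj => by
    by_cases e : j = none
    exacts [e ▸ le_sup_left, le_sup_of_le_right (le_S _ ⟨e, hj⟩)]))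

theorem Str.mem0 (s : Str σ) {w : W} (h : Fx σ w) : w ∈ L σ none :=
  (iSup₂_le (by rintro _ rfl; rfl) : S (L σ) (· = none) ≤ _)
    (sep h2 (fun _ => le_rfl) (s.top.ge trivial) fun j hj e => h.opp j ⟨e, hj⟩)

omit h2 in
theorem Str.fix0 (s : Str σ) {g : St vU} (hg : g.1 • vU' = vU') {v : W} (hv : v ∈ L σ none) :
    σ g v = v :=
  fix_line (σ.comp E22.subtype) (β := MonoidHom.id _) Function.surjective_id perf_E22 (s.line none)
    (fun g _ => map0 (E22_le_Mono ⟨g.1.2, g.2⟩))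
    (fun k e u _ => by rw [show k = 1 from e, map_one, End.one_apply]) ⟨g, hg⟩ v hv

theorem Str.kY (s : Str σ) : S (L σ) (· ∉ T0) ≤ (S (L σ) (· ∉ T0)).comap (σ kk) :=
  iSup₂_le fun i hi v hv => sep h2 (fun _ => le_rfl) (s.top.ge trivial) fun j _ hj => by
    have := mt (cover j).1.2 hj
    rcases (cover i).1.1 hi with e | e
    · exact ⟨_, w1, by rw [← mul_ap, ← kk_w1, mul_ap, mem_L.1 hv, if_pos e, map_neg,
        if_neg fun a => this (Or.inl a)]⟩
    · exact ⟨_, w2, by rw [← mul_ap, ← kk_w2, mul_ap, mem_L.1 hv, if_pos e, map_neg,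
        if_neg fun a => this (Or.inr a)]⟩

omit h2

theorem coMin : CoMinStmt.{u} := fun _ _ _ _ _ _ _ h2 h =>
  ⟨(main h2 h).1, fun e => by
    have s := (main h2 h).2 e
    rw [← L_eq (j := none) (by simp)]
    exact ⟨s.line none, s.sup⟩⟩

end Cfsg.Agent.H70.Co
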