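import Cfsg.Agent.H70.Co23B

/-! Uniqueness of the representation of degree 23 of `Co₂`. -/

set_option autoImplicit false
set_option maxRecDepth 100000

namespace Cfsg.Agent.H70.Co

open Cfsg Module Cfsg.Agent.H42 Cfsg.Agent.H48 Cfsg.Agent.H49 Cfsg.Agent.H48.Mid
  Cfsg.Agent.H97.Min Cfsg.Agent.H97.Br

universe u

variable {F W W' : Type*} [Field F] [AddCommGroup W] [Module F W] [AddCommGroup W'] [Module F W']
  {σ : Representation F (St vU) W} {σ' : Representation F (St vU) W'}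

theorem braid {G : Type*} [Group G] {k s : G} (hk : k * k = 1) (hs : s * s = 1) :
    k * (s * k) = (k * s) ^ 3 * (s * (k * s)) := by
  rw [pow_succ, pow_two, mul_assoc, mul_assoc k s (s * _), ← mul_assoc s s, hs, one_mul,
    ← mul_assoc k k, hk, one_mul, mul_assoc, mul_assoc k s s, hs, mul_one, mul_assoc]

theorem rel (v : W) : σ kk (σ (sg _ w4) (σ kk v)) =
    σ ((kk * sg _ w4) ^ 3) (σ (sg _ w4) (σ kk (σ (sg _ w4) v))) := by
  simp only [← mul_ap]
  rw [braid kk_sq (sg_sq w4)]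

theorem Str.ex (s : Str σ) {j : GolayPt} {x : W} (hx : x ∈ L σ j) (h0 : x ≠ 0) {v : W}
    (hv : v ∈ L σ j) : ∃ a : F, a • x = v :=
  Submodule.mem_span_singleton.1 (eq_span_singleton_of_mem_of_finrank_eq_one (s.line j) hx h0 ▸ hv)

theorem perm_T {p : M24} (hp : ∀ j ∈ T0, p • j = j) : permEl p • vU = vU ∧ permEl p • vU' = vU' :=
  perm_U (hp _ (by simp [T0])) (hp _ (by simp [T0]))

theorem onY (h2 : (2 : F) ≠ 0) (s : Str σ) (s' : Str σ') {h : W →ₗ[F] W'}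
    (hh : ∀ g : St vU, g.1 • vU' = vU' → ∀ v, h (σ g v) = σ' g (h v)) {v : W}
    (hv : v ∈ S (L σ) (· ∉ T0)) : h (σ kk v) = σ' kk (h v) := by
  have c : ∀ g : St vU, g.1 • uu = uu → ∀ v, σ' kk (h (σ kk (σ g v))) = σ' g (σ' kk (h (σ kk v))) :=
    fun g e v => by
      have := hh _ (conj_fix e) (σ kk v)
      rw [mul_ap, mul_ap, mul_ap, mul_ap, kk_kk] at this
      rw [this, kk_kk]
  obtain ⟨x, hx, x0⟩ := (Submodule.ne_bot_iff (L σ (some 3))).1 fun e => by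
    have := s.line (some 3)
    rw [e, finrank_bot] at this
    omega
  have t3 : some 3 ∉ T0 := by decide
  have van : ∀ T : W →ₗ[F] W', (∀ p (hp : ∀ j ∈ T0, p • j = j) v,
      T (σ ⟨_, (perm_T hp).1⟩ v) = σ' ⟨_, (perm_T hp).1⟩ (T v)) → T x = 0 →
      S (L σ) (· ∉ T0) ≤ LinearMap.ker T := fun T hT e => iSup₂_le fun j hj v hv => by
    obtain ⟨p, hp, rfl⟩ := exists_smul_fix_set (t := T0) (by decide) t3 hj
    obtain ⟨a, rfl⟩ := s.ex (permL (perm_T hp).1 hx)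
      (fun e => x0 (inj_rep σ _ (e.trans (map_zero _).symm))) hv
    rw [LinearMap.mem_ker, map_smul, hT p hp, e, map_zero, smul_zero]
  obtain ⟨a, ha⟩ : ∃ a : F, ∀ v ∈ S (L σ) (· ∉ T0), h (σ kk v) = a • σ' kk (h v) := by
    by_cases e : h x = 0
    · have := van h (fun p hp => hh _ (perm_T hp).2) e
      exact ⟨0, fun v hv => by rw [zero_smul]; exact this (s.kY h2 hv)⟩
    obtain ⟨a, ha⟩ := s'.ex (j := some 3) (mem_L.2 fun c hc => by
      rw [← hh _ (sg_U' hc), mem_L.1 hx]; split_ifs; exacts [map_neg _ _, rfl]) e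
      ((iSup₂_le (by rintro _ rfl; rfl) : S (L σ') (· = some 3) ≤ _) (sep h2 (fun _ => le_rfl)
        (w := σ' kk (h (σ kk x))) (s'.top.ge trivial) fun j _ hj => by
          obtain ⟨d, hd, d1, d2, d3⟩ := exists_sep (A := T0) (by decide) (by simp [T0]) (by simp [T0])
            t3 hj
          exact ⟨d, hd, by
            rw [← c (sg d hd) (sign_fix hd.1 fun t ht => uu_zero t (d3 t ht)), mem_L.1 hx, if_pos d1,
              if_neg d2, map_neg, map_neg, map_neg]⟩))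
    have := van (σ' kk ∘ₗ h ∘ₗ σ kk - a • h) (fun p hp v => by
      simp only [LinearMap.sub_apply, LinearMap.comp_apply, LinearMap.smul_apply, map_sub, map_smul]
      rw [c ⟨_, (perm_T hp).1⟩ (perm_fix hp uu_zero), hh ⟨_, (perm_T hp).1⟩ (perm_T hp).2])
      (by simp [ha])
    refine ⟨a, fun v hv => ?_⟩
    have := sub_eq_zero.1 (show σ' kk (h (σ kk v)) - a • h v = 0 from this hv)
    rw [← map_smul, ← this, kk_kk]
  have eY : S (L σ) (· ∉ T0) ≤ (S (L σ) (· ∉ T0)).comap (σ (sg _ w4)) :=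
    iSup₂_le fun j hj v hv => le_S (L σ) hj (sgL w4 hv)
  have a1 := ha _ (s.kY h2 hv)
  rw [kk_kk, ha _ hv, map_smul, kk_kk] at a1
  have a2 := congrArg h (rel (σ := σ) v)
  rw [hh _ mm_spec, hh _ (sg_U' w4) (σ kk (σ _ v)), ha _ (eY hv), ha _ (eY (s.kY h2 hv)),
    hh _ (sg_U' w4), hh _ (sg_U' w4), ha _ hv, map_smul, map_smul, map_smul, map_smul, ← rel] at a2
  rw [ha _ hv, ← map_smul, ← inj_rep σ' kk (inj_rep σ' (sg _ w4) (inj_rep σ' kk
    (show σ' _ (σ' _ (σ' _ (a • a • h v))) = σ' _ (σ' _ (σ' _ (a • h v))) by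
      simpa only [map_smul] using a2))), ← a1]

theorem coUniq : CoUniqStmt.{u} := by
  intro F _ W W' _ _ _ _ _ _ σ σ' h2 n n' d d' h hh
  have s := (main h2 n).2 d
  have s' := (main h2 n').2 d'
  have hE : ∀ g : St vU, g.1 • vU' = vU' → ∀ v, h (σ g v) = σ' g (h v) := fun g e => hh g (Or.inl e)
  obtain ⟨x, hx, x0⟩ := (Submodule.ne_bot_iff _).1 n
  obtain ⟨hx', y0, y1, y2, y3⟩ := core h2 hx x0
  have m0 := s.mem0 h2 (fx_kk y1 y2 y3)
  have m0' := s'.mem0 h2 (fx_kk (y := h (x + σ (kk * sg _ w3 * kk) x))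
    (by rw [← hE _ (sg_U' w1), y1]) (by rw [← hE _ (sg_U' w2), y2])
    (by rw [← hh _ (Or.inr ee_spec.1), y3]))
  have x0' : σ (kk * sg _ w3 * kk) x ≠ 0 := fun e => x0 (inj_rep σ _ (e.trans (map_zero _).symm))
  generalize σ (kk * sg _ w3 * kk) x = x' at hx' y0 m0 m0' x0'
  clear y1 y2 y3
  have e4 : σ (sg _ w4) (x + x') = -x + x' := by
    rw [map_add, mem_L.1 hx, mem_L.1 hx', if_pos (by decide +kernel), if_neg (by decide +kernel)]
  have yX : x + x' ∈ S (L σ) D :=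
    add_mem (le_S (L σ) (j := some 1) (by decide) hx) (le_S (L σ) (j := some 2) (by decide) hx')
  have l0 := fun v => s.ex (v := v) m0 fun e => y0 (inj_rep σ _ (e.trans (map_zero _).symm))
  have hc : IsCompl (L σ none) (S (L σ) D) := ⟨Submodule.disjoint_def.2 fun v a b =>
    eq_zero h2 b fun j hj => opp_L (by simp) hj.2 hj.1 a, codisjoint_iff.2 s.sup⟩
  obtain ⟨f, f0, fX⟩ : ∃ f : W →ₗ[F] W', (∀ v ∈ L σ none, f v = σ' kk (h (σ kk v))) ∧
      ∀ v ∈ S (L σ) D, f v = h v :=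
    ⟨LinearMap.ofIsCompl hc ((σ' kk ∘ₗ h ∘ₗ σ kk).domRestrict _) (h.domRestrict _),
      fun v hv => LinearMap.ofIsCompl_apply_left hc ⟨v, hv⟩,
      fun v hv => LinearMap.ofIsCompl_apply_right hc ⟨v, hv⟩⟩
  have fE : ∀ g : St vU, g.1 • vU' = vU' → ∀ v, f (σ g v) = σ' g (f v) := fun g e v =>
    (sup_le (fun v hv => by
      change f (σ g v) = σ' g (f v)
      rw [s.fix0 e hv, f0 v hv]
      obtain ⟨a, rfl⟩ := l0 v hv
      rw [map_smul, kk_kk, map_smul, map_smul, map_smul, s'.fix0 e m0']) fun v hv => by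
      change f (σ g v) = σ' g (f v)
      rw [fX _ (mapX (E22_le_Mono ⟨g.2, e⟩) hv), fX v hv, hE g e] :
      _ ≤ LinearMap.eqLocus (f ∘ₗ σ g) (σ' g ∘ₗ f)) (s.sup.ge (Submodule.mem_top (x := v)))
  have k1 : x + x' ∈ LinearMap.eqLocus (f ∘ₗ σ kk) (σ' kk ∘ₗ f) := by
    change f (σ kk _) = σ' kk (f _)
    rw [f0 _ m0, kk_kk, fX _ yX]
  have k2 : -x + x' ∈ LinearMap.eqLocus (f ∘ₗ σ kk) (σ' kk ∘ₗ f) := by
    change f (σ kk _) = σ' kk (f _)
    have r := rel (σ := σ) (σ kk (x + x'))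
    have r' := rel (σ := σ') (σ' kk (h (x + x')))
    rw [s.fix0 (sg_U' w4) m0, kk_kk] at r
    rw [s'.fix0 (sg_U' w4) m0', kk_kk] at r'
    rw [← e4, r, fE _ mm_spec, fE _ (sg_U' w4), fX _ yX, r']
  have fk : ∀ v, f (σ kk v) = σ' kk (f v) := fun v =>
    (iSup₂_le fun j hj v hv => by
      by_cases a : j = none
      · change f (σ kk v) = σ' kk (f v)
        obtain ⟨r, rfl⟩ := l0 v (a ▸ hv)
        rw [map_smul, map_smul, map_smul, map_smul, f0 _ m0, kk_kk, kk_kk, fX _ yX]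
      by_cases b : j ∈ T0
      · rcases ((cover j).2.1 ⟨a, hj⟩ b).2 with rfl | rfl
        · obtain ⟨r, rfl⟩ := s.ex hx x0 hv
          refine Submodule.smul_mem _ _ ((Submodule.smul_mem_iff _ h2).1 ?_)
          convert sub_mem k1 k2 using 1
          rw [two_smul]; abel
        · obtain ⟨r, rfl⟩ := s.ex hx' x0' hv
          refine Submodule.smul_mem _ _ ((Submodule.smul_mem_iff _ h2).1 ?_)
          convert add_mem k1 k2 using 1
          rw [two_smul]; abel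
      · change f (σ kk v) = σ' kk (f v)
        have Y : S (L σ) (· ∉ T0) ≤ S (L σ) D := iSup₂_le fun j hj => le_S _ ((cover j).2.2 hj)
        have m := le_S (L σ) (P := (· ∉ T0)) b hv
        rw [fX _ (Y (s.kY h2 m)), fX _ (Y m), onY h2 s s' hE m] :
      _ ≤ LinearMap.eqLocus (f ∘ₗ σ kk) (σ' kk ∘ₗ f)) (s.top.ge (Submodule.mem_top (x := v)))
  let K : Subgroup (St vU) :=
    { carrier := {g | ∀ v, f (σ g v) = σ' g (f v)}
      one_mem' := fun v => by simp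
      mul_mem' := fun ha hb v => by rw [mul_ap, mul_ap, ha, hb]
      inv_mem' := fun {g} hg v => by
        rw [← σ'.inv_self_apply g (f _), ← hg, σ.self_inv_apply] }
  refine ⟨f, fun g => ?_, fun i h1 h2 v hv => fX v (le_S (L σ) ⟨h1, h2⟩ hv)⟩
  obtain ⟨k, hk, e⟩ := co2_le (K := K.map (Subgroup.subtype _))
    (fun g hg => ⟨⟨g, hg.1⟩, fE _ hg.2, rfl⟩) ⟨kk, fk, rfl⟩ g.2
  exact (Subtype.ext e : k = g) ▸ hk

end Cfsg.Agent.H70.Co
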