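import Cfsg.Agent.H73.CVKit
import Cfsg.Agent.H69.C6Kb
import Cfsg.Agent.H34.C6Kodd

set_option autoImplicit false

namespace Cfsg.Agent.H70.CvKodd

open Cfsg.Agent.H25 Cfsg.Agent.H73.CV
open Cfsg.Agent.H25.CU (qF hf subSU qF_eq hf_eq)
open Cfsg.Agent.H25.C6 hiding Fld Mod Bc Low Ar Tri StdStmt NrmStmt EsStmt GeoStmt TpStmt TvStmt OddStmt ZsStmt H3bStmt
  H3cStmt H3dStmt H3Stmt A1Stmt K0Stmt SwStmt PrimStmt RealStmt BigStmt SmallStmt ClsStmt A2Stmt CopStmt Tv5Stmt
  LiftStmt KbStmt KoddStmt UqStmt One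

universe u

section
open Module Subgroup Matrix
open Cfsg.Agent.H69.C6Kb hiding kb

theorem kb : KbStmt.{u} := by
  intro F _ _ r n p _ ω hF h2 B hT sq nrm b hb
  by_contra hn
  have := hF.char
  have two : (2 : F) ≠ 0 := fun h => h2 ((Nat.prime_dvd_prime_iff_eq hF.prime Nat.prime_two).1
    ((CharP.cast_eq_zero_iff F p 2).1 (by exact_mod_cast h)))
  have hU : gU r ω ^ r = 1 := by
    rw [gU, ← map_pow, ← map_one gD]
    congr 1
    funext i
    rw [Pi.pow_apply, ← pow_mul, mul_comm, pow_mul,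
      show ω ^ r = 1 from hF.ord ▸ pow_orderOf_eq_one ω, one_pow]
    rfl
  have hTU : Commute (gT r F) (gU r ω) := Units.ext (by
    change pm F _ * diagonal _ = diagonal _ * pm F _
    ext i j
    rw [mul_diagonal, diagonal_mul]
    simp only [pm, of_apply, Equiv.neg_apply]
    split_ifs with h
    · rw [h, neg_mul_neg, mul_comm]
    · rw [zero_mul, mul_zero])
  obtain ⟨c, hc⟩ := scalar ((Matrix.toLinAlgEquiv' (R := F) (n := ZMod r)).toMonoidHom.comp
    (Units.coeHom _)) (Matrix.toLinAlgEquiv'.injective.comp Units.val_injective) two Fact.out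
    (by simp) hU hTU hT sq nrm hb hn
  have h1 : (-1 : ZMod r) ≠ 1 := by
    rcases hF.rn with ⟨rfl, -⟩ | ⟨rfl, -⟩
    · exact (by decide : (-1 : Fin 7) ≠ 1)
    · exact (by decide : (-1 : Fin 11) ≠ 1)
  have h3 : (pm F (Equiv.neg (ZMod r)) *ᵥ Pi.single 1 1) (-1) =
      (c • (Pi.single 1 1 : ZMod r → F)) (-1) := congrFun (hc (Pi.single 1 1)) (-1)
  simp [pm, Pi.single_eq_of_ne h1] at h3

end

section
open Matrix Cfsg.Geo
open scoped MatrixGroups commutatorElement
open Cfsg.Agent.H34.C6K hiding kodd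

set_option maxHeartbeats 800000 in
theorem kodd (hKB : KbStmt.{u}) : KoddStmt.{u} := by
  intro F _ _ r n p _ ω G hM hp hF k hk
  classical
  by_contra hcon
  push Not at hcon
  have hrn := hM.fld.rn
  have hr2 : r ≠ 2 := by omega
  have h2 : (2 : F) ≠ 0 := by
    have := hM.fld.char
    intro e
    have e2 : ((2 : ℕ) : F) = 0 := by exact_mod_cast e
    rw [CharP.cast_eq_zero_iff F p] at e2
    exact hp ((Nat.prime_dvd_prime_iff_eq hM.fld.prime Nat.prime_two).1 e2)
  let C : Subgroup (GL (ZMod r) F) := G ⊓ Subgroup.centralizer {gT r F}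
  have hC : ∀ {g}, g ∈ C ↔ g ∈ G ∧ Commute g (gT r F) := fun {g} =>
    and_congr_right fun _ => Subgroup.mem_centralizer_singleton_iff
  have hcA : ∀ (g : C) {a}, a ∈ Aa r F → Commute g.1 a := fun g _ ha => comm_Aa ha (hC.1 g.2).2
  have hAK : Aa r F ≤ Kk n G := by
    refine sup_le ?_ ?_
    · rintro _ ⟨c, rfl⟩
      refine (mem_Kk hrn h2).2 ⟨hM.z ⟨c, rfl⟩, (commute_scal c _).symm, c, ?_⟩
      change (scal (ZMod r) c).1 * _ = _
      rw [coe_scal, Matrix.smul_mul, Matrix.one_mul]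
    · rw [Subgroup.zpowers_le]
      refine (mem_Kk hrn h2).2 ⟨hM.t, Commute.refl _, -1, ?_⟩
      rw [Matrix.mul_sub, Matrix.mul_one, TT']
      simp
  have hKC : Kk n G ≤ C := fun g hg => hC.2 ⟨hg.1, hg.2.1⟩
  let A : Subgroup C := (Aa r F).subgroupOf C
  have : A.Normal := ⟨fun a ha g => by
    change g.1 * a.1 * g.1⁻¹ ∈ Aa r F
    rw [(hcA g (a := a.1) ha).eq, mul_inv_cancel_right]
    exact ha⟩
  let K : Subgroup C := (Kk n G).subgroupOf C
  have hKn : K.Normal := ⟨fun a ha g => by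
    change g.1 * a.1 * g.1⁻¹ ∈ Kk n G
    obtain ⟨a1, a2, c, a3⟩ := (mem_Kk hrn h2).1 (show a.1 ∈ Kk n G from ha)
    refine (mem_Kk hrn h2).2 ⟨(hC.1 (g * a * g⁻¹).2).1, (hC.1 (g * a * g⁻¹).2).2, c, ?_⟩
    have e : (g.1⁻¹).1 * (1 - (gT r F).1) = (1 - (gT r F).1) * (g.1⁻¹).1 := by
      rw [Matrix.mul_sub, Matrix.sub_mul, Matrix.mul_one, Matrix.one_mul, ← Units.val_mul,
        (hC.1 g.2).2.inv_left.eq, Units.val_mul]
    rw [Units.val_mul, Units.val_mul, Matrix.mul_assoc, e, Matrix.mul_assoc,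
      ← Matrix.mul_assoc a.1.1, a3, Matrix.smul_mul, ← e, Matrix.mul_smul, ← Matrix.mul_assoc,
      Units.mul_inv, Matrix.one_mul]⟩
  let π : C →* C ⧸ A := QuotientGroup.mk' A
  have hπ : ∀ g : C, π g = 1 ↔ g.1 ∈ Aa r F := fun g => QuotientGroup.eq_one_iff g
  have hπK : ∀ g : C, π g ∈ K.map π → g.1 ∈ Kk n G := by
    rintro g ⟨a, ha, e⟩
    have h1 : π (a⁻¹ * g) = 1 := by rw [map_mul, map_inv, e, inv_mul_cancel]
    have h3 := mul_mem (show a.1 ∈ Kk n G from ha) (hAK ((hπ _).1 h1))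
    simpa using h3
  have : (K.map π).Normal := hKn.map π (QuotientGroup.mk'_surjective A)
  let U : C := ⟨gU r ω, hC.2 ⟨hM.u, UT ω⟩⟩
  have fpf : ∀ g : C, π g ∈ K.map π → π U * π g * (π U)⁻¹ = π g → π g = 1 := by
    intro g hg e
    refine (hπ _).2 (hF _ (hπK g hg) ?_)
    refine (hπ ⁅U, g⁆).1 ?_
    rw [commutatorElement_def, map_mul, map_mul, map_mul, map_inv, map_inv, e, mul_inv_cancel]
  obtain ⟨M, hMK, ⟨x₀, hx₀, hx₁⟩, hMU, hsq, hcard⟩ := exists_elem (r := r) (K.map π) (π U)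
    (by rw [← map_pow, show U ^ r = 1 from Subtype.ext (Upow hM.fld.ord), map_one])
    (fun x hx e => by
      obtain ⟨g, rfl⟩ := QuotientGroup.mk'_surjective A x
      exact fpf g hx e)
    (π ⟨k, hKC hk⟩) ⟨_, hk, rfl⟩ fun m hm e => hcon m hm (by
      rw [← map_pow] at e
      exact (hπ _).1 e)
  have hMc : ∀ x ∈ M, ∀ y ∈ M, x * y = y * x := by
    intro x hx y hy
    have e : ∀ x ∈ M, x⁻¹ = x := fun x hx => inv_eq_of_mul_eq_one_right (hsq x hx)
    rw [← e _ (mul_mem hx hy), _root_.mul_inv_rev, e x hx, e y hy]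
  let z : C := ⟨zT r F, hKC (hAK zT_mem)⟩
  have hzc : ∀ g : C, Commute g z := fun g => Subtype.ext (hcA g zT_mem).eq
  have hz1 : z ≠ 1 := fun e => zT_ne hr2 (congrArg Subtype.val e)
  have hz2 : z * z = 1 := Subtype.ext zT_sq
  have hD : ∀ g h : C, π g ∈ M → π h ∈ M → g * h = h * g ∨ g * h = z * (h * g) := by
    intro g h hg hh
    obtain ⟨-, -, a, ha⟩ := (mem_Kk hrn h2).1 (hπK g (hMK hg))
    obtain ⟨-, -, b, hb⟩ := (mem_Kk hrn h2).1 (hπK h (hMK hh))
    have h1 : (⁅g, h⁆ : C).1 ∈ Aa r F := by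
      refine (hπ _).1 ?_
      rw [map_commutatorElement, commutatorElement_eq_one_iff_mul_comm]
      exact hMc _ hg _ hh
    rcases Aa_one hr2 h1 (comm_fix ha hb) with e | e
    · left
      exact commutatorElement_eq_one_iff_mul_comm.1 (Subtype.ext e)
    · right
      rw [← show ⁅g, h⁆ = z from Subtype.ext e, commutatorElement_def]
      group
  by_cases hR : ∃ g : C, π g ∈ M ∧ (∀ h : C, π h ∈ M → Commute g h) ∧ π g ≠ 1
  · obtain ⟨g, hg, hgc, hg1⟩ := hR
    let R : Subgroup C :=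
      { carrier := {g | π g ∈ M ∧ (∀ h : C, π h ∈ M → Commute g h) ∧ g * g = 1}
        mul_mem' := fun {a c} ha hc => ⟨map_mul π a c ▸ mul_mem ha.1 hc.1,
          fun h hh => (ha.2.1 h hh).mul_left (hc.2.1 h hh), by
            rw [(ha.2.1 c hc.1).symm.mul_mul_mul_comm, ha.2.2, hc.2.2, one_mul]⟩
        one_mem' := ⟨map_one π ▸ one_mem _, fun h _ => Commute.one_left h, one_mul 1⟩
        inv_mem' := fun {a} ha => ⟨map_inv π a ▸ inv_mem ha.1,
          fun h hh => (ha.2.1 h hh).inv_left, by rw [← _root_.mul_inv_rev, ha.2.2, inv_one]⟩ }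
    have hconj : ∀ a : C, π a ∈ M → (∀ h : C, π h ∈ M → Commute a h) →
        π (U * a * U⁻¹) ∈ M ∧ ∀ h : C, π h ∈ M → Commute (U * a * U⁻¹) h := by
      intro a ha hac
      refine ⟨by rw [map_mul, map_mul, map_inv]; exact (hMU _).2 ha, fun h hh => ?_⟩
      have h1 : π (U⁻¹ * h * U) ∈ M := by
        refine (hMU _).1 ?_
        rw [map_mul, map_mul, map_inv]
        simpa [mul_assoc] using hh
      have h3 := (hac _ h1).eq
      change _ * _ = _ * _
      calc U * a * U⁻¹ * h = U * (a * (U⁻¹ * h * U)) * U⁻¹ := by group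
        _ = _ := by rw [h3]; group
    have hT : gT r F ∈ R.map C.subtype := by
      refine ⟨⟨gT r F, hKC (hAK T_mem_Aa)⟩, ⟨?_, fun h _ => Subtype.ext (hC.1 h.2).2.symm.eq,
        Subtype.ext TT⟩, rfl⟩
      rw [(hπ _).2 T_mem_Aa]
      exact one_mem _
    have hKB' := hKB F r n p ω hM.fld hp (R.map C.subtype) hT
      (by
        rintro _ ⟨a, ha, rfl⟩
        exact congrArg Subtype.val ha.2.2)
      (by
        rintro _ ⟨a, ha, rfl⟩
        refine ⟨U * a * U⁻¹, ⟨(hconj a ha.1 ha.2.1).1, (hconj a ha.1 ha.2.1).2, ?_⟩, rfl⟩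
        calc U * a * U⁻¹ * (U * a * U⁻¹) = U * (a * a) * U⁻¹ := by group
          _ = 1 := by rw [ha.2.2, mul_one, mul_inv_cancel])
    obtain ⟨g1, g2⟩ := hconj g hg hgc
    have hgg : (g * g).1 ∈ Aa r F := (hπ _).1 (by rw [map_mul]; exact hsq _ hg)
    have hb : U * g * U⁻¹ * g⁻¹ ∈ R := by
      refine ⟨by rw [map_mul, map_inv]; exact mul_mem g1 (inv_mem hg),
        fun h hh => (g2 h hh).mul_left (hgc h hh).inv_left, ?_⟩
      have e1 : Commute U (g * g) := Subtype.ext (hcA U hgg).eq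
      rw [(g2 g hg).inv_right.symm.mul_mul_mul_comm]
      calc U * g * U⁻¹ * (U * g * U⁻¹) * (g⁻¹ * g⁻¹) = U * (g * g) * U⁻¹ * (g * g)⁻¹ := by group
        _ = 1 := by rw [e1.eq]; group
    have hb2 : Commute (U * g * U⁻¹ * g⁻¹) U := Subtype.ext (hKB' _ ⟨_, hb, rfl⟩).eq
    have hb3 := fpf _ (hMK hb.1) (by rw [← map_inv, ← map_mul, ← map_mul, ← hb2.eq,
      mul_inv_cancel_right])
    rw [map_mul, map_mul, map_mul, map_inv, map_inv, mul_inv_eq_one] at hb3
    exact hg1 (fpf g (hMK hg) hb3)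
  · push Not at hR
    have hs : ∀ x : M, ∃ g : C, π g = x := fun x => QuotientGroup.mk'_surjective A x
    choose c hc using hs
    have hcM : ∀ x, π (c x) ∈ M := fun x => hc x ▸ x.2
    have hrep : ∀ (h : C) (hh : π h ∈ M) (g : C), Commute g h ↔ Commute g (c ⟨π h, hh⟩) := by
      intro h hh g
      have h1 : (h⁻¹ * c ⟨π h, hh⟩).1 ∈ Aa r F :=
        (hπ _).1 (by rw [map_mul, map_inv, hc, inv_mul_cancel])
      have h3 : Commute g (h⁻¹ * c ⟨π h, hh⟩) := Subtype.ext (hcA g h1).eq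
      constructor
      · intro e
        simpa using e.mul_right h3
      · intro e
        simpa using e.mul_right h3.inv_right
    have hnz : ∀ a : C, z * a ≠ a := fun a e => hz1 (by simpa using e)
    have hmul : ∀ g h k : C, π g ∈ M → π h ∈ M → π k ∈ M →
        (Commute g (h * k) ↔ (Commute g h ↔ Commute g k)) := by
      intro g h k hg hh hk
      by_cases e1 : Commute g h
      · refine ⟨fun e => ⟨fun _ => ?_, fun _ => e1⟩, fun e => e1.mul_right (e.1 e1)⟩
        simpa using e1.inv_right.mul_right e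
      · by_cases e2 : Commute g k
        · refine ⟨fun e => (e1 ?_).elim, fun e => (e1 (e.2 e2)).elim⟩
          simpa using e.mul_right e2.inv_right
        · refine ⟨fun _ => ⟨fun e => (e1 e).elim, fun e => (e2 e).elim⟩, fun _ => ?_⟩
          have f1 := (hD g h hg hh).resolve_left e1
          have f2 := (hD g k hg hk).resolve_left e2
          change _ * _ = _ * _
          calc g * (h * k) = z * (h * (g * k)) := by rw [← mul_assoc, f1]; group
            _ = z * (h * z) * (k * g) := by rw [f2]; group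
            _ = _ := by rw [(hzc h).eq, ← mul_assoc z, hz2]; group
    let b : M → M → Prop := fun x y => Commute (c x) (c y)
    have hm : ∀ x y w, b x (y * w) ↔ (b x y ↔ b x w) := by
      intro x y w
      have h1 : π (c y * c w) ∈ M := map_mul π _ _ ▸ mul_mem (hcM y) (hcM w)
      have h3 : (⟨π (c y * c w), h1⟩ : M) = y * w := Subtype.ext (by simp [hc])
      rw [← hmul _ _ _ (hcM x) (hcM y) (hcM w), hrep _ h1, h3]
    have hn : ∀ x, (∀ y, b x y) → x = 1 := by
      intro x hx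
      apply Subtype.ext
      rw [← hc x]
      exact hR _ (hcM x) fun h hh => (hrep h hh _).2 (hx _)
    have hsq' : ∀ x : M, x * x = 1 := fun x => Subtype.ext (hsq x x.2)
    let χ : M → M → F := fun x y => if b y x then 1 else -1
    have hχ : Function.Injective χ := by
      intro x y e
      have h1 : x * y = 1 := hn _ fun w => by
        refine Commute.symm ((hm w x y).2 ?_)
        have h3 := congrFun e w
        have h4 : (1 : F) ≠ -1 := fun e => h2 (by linear_combination e)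
        by_cases a1 : b w x <;> by_cases a2 : b w y <;> simp only [χ, a1, a2, if_true,
          if_false] at h3 ⊢
        · exact (h4 h3).elim
        · exact (h4 h3.symm).elim
      rw [← inv_eq_of_mul_eq_one_right h1, inv_eq_of_mul_eq_one_right (hsq' x)]
    have hli := li_of_chars (F := F)
      (fun y : M => LinearMap.mulLeftRight F ((c y).1.1, ((c y).1⁻¹).1))
      (fun x : M => (c x).1.1 * (1 + (gT r F).1)) χ
      (fun x e => by
        have e1 := congrArg (((c x).1⁻¹).1 * ·) e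
        simp only [← Matrix.mul_assoc, Units.inv_mul, Matrix.one_mul, Matrix.mul_zero] at e1
        have e2 := congrFun (congrFun e1 1) 1
        simp [T11 hr2] at e2)
      (fun x y => by
        have e : (1 + (gT r F).1) * ((c y).1⁻¹).1 = ((c y).1⁻¹).1 * (1 + (gT r F).1) := by
          rw [Matrix.mul_add, Matrix.add_mul, Matrix.mul_one, Matrix.one_mul, ← Units.val_mul,
            ← (hC.1 (c y).2).2.inv_left.eq, Units.val_mul]
        have e0 : (c y).1.1 * ((c x).1.1 * (1 + (gT r F).1)) * ((c y).1⁻¹).1 =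
            (c y * c x * (c y)⁻¹).1.1 * (1 + (gT r F).1) := by
          rw [Matrix.mul_assoc, Matrix.mul_assoc, e]
          simp only [Subgroup.coe_mul, Units.val_mul, Matrix.mul_assoc, Subgroup.coe_inv]
        rw [LinearMap.mulLeftRight_apply, e0]
        by_cases a1 : b y x
        · rw [a1.eq, mul_inv_cancel_right]
          simp only [χ, a1, if_true, one_smul]
        · rw [(hD _ _ (hcM y) (hcM x)).resolve_left a1, mul_assoc, mul_inv_cancel_right,
            ← (hzc _).eq]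
          simp only [χ, a1, if_false, Subgroup.coe_mul, Units.val_mul, z, coe_zT,
            Matrix.mul_assoc, Matrix.neg_mul, Matrix.mul_add, Matrix.mul_one, TT', neg_smul,
            one_smul, Matrix.mul_neg]
          abel) hχ
    have := Fintype.ofFinite M
    have hle := hli.fintype_card_le_finrank
    rw [← Nat.card_eq_fintype_card, Module.finrank_matrix, Module.finrank_self, ZMod.card,
      mul_one] at hle
    have : Fact (Nat.Prime 2) := ⟨Nat.prime_two⟩
    have hp2 : IsPGroup 2 M := fun x => ⟨1, by rw [pow_one, pow_two, hsq']⟩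
    have : Nontrivial M := ⟨⟨⟨x₀, hx₀⟩, 1, fun e => hx₁ (congrArg Subtype.val e)⟩⟩
    obtain ⟨m, hm0, hm1⟩ := hp2.nontrivial_iff_card.1 inferInstance
    have h8 : Nat.card M = 8 := by
      rw [hm1] at hle hcard ⊢
      exact arith hrn hm0 hle hcard
    exact no8 h8 hsq' b (fun x => Commute.refl _) (fun x y => Commute.symm) hm hn

end

end Cfsg.Agent.H70.CvKodd
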