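import Cfsg.Agent.H44.Coset
import Cfsg.Agent.H70.EJ2D0

set_option autoImplicit false
set_option maxRecDepth 1000000
set_option linter.all false
set_option Elab.async false

namespace Cfsg.Agent.H70.EJ2
open Cfsg.Agent.H44

/-- The relators. -/
def R : List (List ℕ) := [[1, 2],
  [3, 3],
  [4, 4],
  [5, 5],
  [6, 6],
  [7, 7],
  [8, 8],
  [9, 10],
  [11, 11],
  [12, 12],
  [1, 1, 1],
  [6, 9, 9],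
  [1, 3, 2, 4],
  [1, 4, 2, 5],
  [1, 5, 2, 3],
  [1, 6, 2, 6],
  [1, 7, 2, 7],
  [1, 8, 2, 8],
  [1, 12, 1, 12],
  [3, 8, 3, 8],
  [3, 9, 4, 10],
  [3, 12, 4, 12],
  [4, 8, 4, 8],
  [5, 8, 5, 8],
  [5, 9, 7, 10],
  [5, 12, 5, 12],
  [6, 8, 6, 8],
  [6, 12, 7, 12],
  [7, 8, 7, 8],
  [8, 9, 8, 10],
  [8, 12, 8, 12],
  [1, 6, 2, 9, 9],
  [1, 9, 9, 2, 6],
  [3, 4, 3, 4, 8],
  [3, 4, 5, 6, 7],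
  [3, 4, 6, 7, 5],
  [3, 4, 7, 5, 6],
  [3, 5, 3, 5, 8],
  [3, 5, 4, 7, 6],
  [3, 5, 6, 4, 7],
  [3, 6, 3, 6, 8],
  [3, 6, 4, 5, 7],
  [3, 6, 10, 4, 10],
  [3, 7, 3, 7, 8],
  [3, 8, 10, 4, 9],
  [3, 9, 4, 6, 9],
  [3, 10, 4, 8, 9],
  [4, 5, 4, 5, 8],
  [4, 6, 4, 6, 8],
  [4, 7, 4, 7, 8],
  [5, 6, 5, 6, 8],
  [5, 6, 10, 7, 10],
  [5, 7, 5, 7, 8],
  [5, 8, 10, 7, 9],
  [5, 9, 7, 6, 9],
  [5, 10, 7, 8, 9],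
  [6, 7, 6, 7, 8],
  [6, 8, 9, 9, 8],
  [7, 12, 9, 9, 12],
  [1, 9, 1, 9, 1, 9],
  [3, 9, 12, 9, 12, 9, 12],
  [1, 11, 2, 11],
  [6, 11, 8, 11],
  [3, 4, 11, 10, 11],
  [7, 11, 7, 11, 7, 11],
  [11, 12, 11, 12, 11, 12, 11, 12, 11, 12, 11, 12, 11, 12, 11, 12, 11, 12, 11, 12],
  [11, 8, 12, 11, 8, 12, 11, 8, 12, 11, 8, 12, 11, 8, 12, 11, 8, 12, 11, 8, 12, 11, 8, 12, 11, 8, 12, 11, 8, 12],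
  [6, 11, 12, 11, 12, 6, 11, 12, 11, 12, 6, 11, 12, 11, 12, 6, 11, 12, 11, 12, 1]]
/-- The subgroup generators. -/
def S : List (List ℕ) := [[1],
  [3],
  [4],
  [5],
  [6],
  [7],
  [8],
  [9],
  [12]]
def Wr : List (List ℕ) := [[2, 1],
  [10, 9],
  [11, 11],
  [1, 2],
  [2, 11, 1, 11],
  [3, 3],
  [4, 4],
  [5, 2, 3, 1],
  [6, 11, 8, 11],
  [7, 3, 4, 5, 6],
  [8, 11, 6, 11],
  [9, 10],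
  [10, 11, 3, 4, 11],
  [12, 12],
  [1, 3, 2, 4],
  [4, 11, 10, 11, 3],
  [5, 5],
  [6, 3, 6, 8, 3],
  [7, 7],
  [8, 3, 8, 3],
  [10, 3, 9, 4],
  [11, 7, 11, 7, 11, 7],
  [1, 12, 1, 12],
  [6, 6],
  [7, 12, 6, 12],
  [8, 12, 8, 12],
  [3, 12, 4, 12],
  [4, 12, 3, 12],
  [5, 12, 5, 12],
  [6, 12, 7, 12],
  [5, 8, 10, 7, 9],
  [8, 10, 8, 9],
  [9, 6, 9],
  [12, 9, 12, 9, 12, 3, 9],
  [3, 9, 4, 10],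
  [4, 10, 3, 6, 10],
  [5, 9, 7, 10],
  [6, 10, 10],
  [7, 10, 5, 6, 10],
  [8, 9, 8, 10],
  [10, 6, 10],
  [12, 7, 12, 10, 10],
  [8, 8],
  [4, 2, 5, 1],
  [8, 2, 8, 1],
  [10, 10, 6],
  [2, 2, 2],
  [3, 1, 5, 2],
  [8, 1, 8, 2],
  [12, 2, 12, 2],
  [3, 2, 4, 1],
  [6, 2, 6, 1],
  [7, 2, 7, 1],
  [9, 1, 9, 1, 9, 1],
  [4, 1, 3, 2],
  [5, 1, 4, 2],
  [6, 1, 6, 2],
  [7, 1, 7, 2],
  [9, 9, 1, 6, 2],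
  [10, 10, 1, 6, 2],
  [3, 8, 4, 3, 4],
  [1, 4, 2, 5],
  [2, 3, 1, 5],
  [7, 6, 4, 3, 5],
  [2, 7, 1, 7],
  [5, 3, 4, 6, 7],
  [10, 5, 9, 7],
  [4, 3, 4, 8, 3],
  [10, 4, 9, 8, 3],
  [11, 1, 11, 2],
  [3, 4, 8, 3, 4],
  [6, 9, 3, 9, 4],
  [8, 4, 8, 4],
  [9, 6, 3, 9, 4],
  [11, 2, 11, 1],
  [6, 7, 3, 4, 5],
  [8, 5, 8, 5],
  [10, 7, 9, 8, 5],
  [6, 5, 4, 3, 7],
  [8, 7, 8, 7],
  [9, 6, 5, 9, 7],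
  [1, 11, 2, 11],
  [3, 4, 11, 10, 11],
  [7, 11, 7, 11, 7, 11],
  [9, 11, 4, 3, 11],
  [4, 3, 11, 9, 11],
  [2, 12, 2, 12],
  [7, 10, 5, 9],
  [3, 8, 10, 4, 9],
  [4, 10, 3, 9],
  [5, 9, 7, 6, 9],
  [4, 8, 3, 4, 3],
  [5, 7, 6, 4, 3],
  [7, 6, 5, 4, 3],
  [9, 4, 10, 3],
  [12, 4, 12, 3],
  [5, 6, 7, 3, 4],
  [7, 5, 6, 3, 4],
  [12, 3, 12, 4],
  [5, 8, 7, 5, 7],
  [6, 9, 9],
  [12, 7, 12, 9, 9],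
  [9, 9, 2, 6, 1],
  [4, 7, 5, 6, 3],
  [10, 2, 10, 2, 10, 2],
  [11, 3, 4, 11, 10],
  [9, 7, 10, 5],
  [11, 9, 11, 4, 3],
  [11, 4, 3, 11, 9],
  [11, 8, 11, 6],
  [10, 3, 6, 10, 4],
  [12, 1, 12, 1],
  [9, 3, 8, 10, 4],
  [10, 10, 2, 6, 1],
  [2, 4, 1, 3],
  [2, 5, 1, 4],
  [7, 8, 5, 7, 5],
  [5, 6, 3, 4, 7],
  [1, 5, 2, 3],
  [6, 4, 6, 8, 4],
  [1, 7, 2, 7],
  [9, 5, 8, 10, 7],
  [3, 4, 6, 7, 5],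
  [4, 7, 6, 3, 5],
  [12, 5, 12, 5],
  [4, 3, 7, 6, 5],
  [1, 6, 2, 6],
  [3, 6, 8, 3, 6],
  [4, 7, 3, 5, 6],
  [8, 6, 8, 6],
  [9, 9, 6],
  [3, 5, 6, 4, 7],
  [4, 5, 3, 6, 7],
  [2, 6, 1, 6],
  [3, 4, 7, 5, 6],
  [4, 3, 6, 5, 7],
  [5, 3, 5, 8, 3],
  [6, 7, 4, 5, 3],
  [7, 4, 6, 5, 3],
  [6, 7, 5, 3, 4],
  [11, 10, 11, 3, 4],
  [6, 3, 7, 5, 4],
  [3, 5, 8, 3, 5],
  [3, 4, 5, 6, 7],
  [6, 5, 7, 4, 3],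
  [12, 6, 11, 12, 11, 12, 6, 11, 12, 11, 12, 6, 11, 12, 11, 12, 1, 6, 11, 12, 11],
  [12, 6, 12, 7],
  [12, 11, 12, 6, 11, 12, 11, 12, 6, 11, 12, 11, 12, 6, 11, 12, 11, 12, 1, 6, 11],
  [11, 12, 11, 6, 12, 11, 12, 11, 6, 12, 11, 12, 11, 6, 12, 11, 12, 11, 6, 2, 12]]
def Wn : List (List ℕ) := [[1, 13],
  [3, 15],
  [4, 17],
  [5, 19],
  [6, 21],
  [7, 23],
  [8, 25],
  [9, 27],
  [12, 29],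
  [7, 12, 6, 12],
  [1, 12, 1, 12],
  [2, 12, 2, 12],
  [8, 12, 8, 12],
  [2, 4, 1, 3],
  [1, 5, 2, 3],
  [9, 4, 10, 3],
  [4, 7, 5, 6, 3],
  [11, 2, 11, 1],
  [3, 8, 4, 3, 4],
  [11, 10, 11, 3, 4],
  [7, 6, 4, 3, 5],
  [10, 6, 10],
  [6, 10, 10],
  [5, 9, 7, 10],
  [6, 3, 6, 8, 3],
  [2, 11, 1, 11],
  [3, 2, 4, 1],
  [4, 2, 5, 1],
  [5, 2, 3, 1],
  [1, 11, 2, 11],
  [8, 11, 6, 11],
  [7, 11, 7, 11, 7, 11],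
  [4, 12, 3, 12],
  [3, 12, 4, 12],
  [5, 12, 5, 12],
  [6, 12, 7, 12],
  [8, 3, 8, 3],
  [7, 5, 4, 6, 3],
  [3, 4, 8, 3, 4],
  [3, 4, 5, 6, 7],
  [1, 3, 2, 4],
  [2, 5, 1, 4],
  [10, 3, 9, 4],
  [8, 4, 8, 4],
  [7, 5, 6, 3, 4],
  [9, 6, 3, 9, 4],
  [6, 9, 3, 9, 4],
  [6, 7, 3, 4, 5],
  [4, 3, 6, 5, 7],
  [6, 11, 8, 11],
  [9, 6, 9],
  [10, 11, 3, 4, 11],
  [3, 4, 11, 10, 11],
  [4, 3, 11, 9, 11],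
  [9, 11, 4, 3, 11],
  [10, 5, 9, 7],
  [9, 6, 5, 9, 7],
  [4, 3, 7, 6, 5],
  [3, 4, 6, 7, 5],
  [5, 6, 7, 3, 4],
  [5, 7, 6, 4, 3],
  [10, 4, 9, 8, 3],
  [6, 7, 5, 3, 4],
  [8, 10, 8, 9],
  [5, 9, 7, 6, 9],
  [8, 9, 8, 10],
  [7, 10, 5, 6, 10],
  [7, 10, 5, 9],
  [4, 10, 3, 9],
  [3, 8, 10, 4, 9],
  [3, 9, 4, 10],
  [4, 10, 3, 6, 10],
  [12, 10, 12, 10, 3, 12, 10],
  [12, 9, 12, 9, 12, 3, 9],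
  [5, 8, 10, 7, 9],
  [2, 2, 2],
  [4, 8, 3, 4, 3],
  [8, 5, 8, 5],
  [9, 7, 10, 5],
  [10, 7, 9, 8, 5],
  [9, 12, 9, 12, 3, 9, 12],
  [6, 2, 6, 1],
  [9, 1, 9, 1, 9, 1],
  [10, 10, 6],
  [6, 1, 6, 2],
  [9, 9, 1, 6, 2],
  [10, 10, 1, 6, 2],
  [8, 7, 8, 7],
  [10, 12, 10, 12, 10, 3, 12],
  [7, 6, 5, 4, 3],
  [3, 1, 5, 2],
  [3, 10, 4, 8, 9],
  [12, 7, 12, 10, 10],
  [4, 9, 3, 8, 10],
  [6, 9, 9],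
  [12, 7, 12, 9, 9],
  [9, 9, 12, 7, 12],
  [10, 10, 12, 7, 12],
  [12, 4, 12, 3],
  [12, 3, 12, 4],
  [12, 6, 12, 7],
  [4, 11, 10, 11, 3],
  [11, 7, 11, 7, 11, 7],
  [10, 2, 10, 2, 10, 2],
  [1, 4, 2, 5],
  [1, 7, 2, 7],
  [8, 2, 8, 1],
  [9, 9, 6],
  [8, 1, 8, 2],
  [9, 9, 2, 6, 1],
  [10, 10, 2, 6, 1],
  [5, 8, 7, 5, 7],
  [2, 3, 1, 5],
  [2, 7, 1, 7],
  [5, 3, 4, 6, 7],
  [7, 2, 7, 1],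
  [7, 1, 7, 2],
  [4, 1, 3, 2],
  [12, 1, 12, 1],
  [5, 1, 4, 2],
  [12, 2, 12, 2],
  [9, 3, 8, 10, 4],
  [6, 4, 6, 8, 4],
  [12, 8, 12, 8],
  [5, 6, 3, 4, 7],
  [9, 5, 8, 10, 7],
  [7, 4, 6, 5, 3],
  [6, 5, 4, 3, 7],
  [1, 6, 2, 6],
  [7, 3, 4, 5, 6],
  [4, 7, 3, 5, 6],
  [3, 5, 6, 4, 7],
  [11, 1, 11, 2],
  [12, 7, 12, 6],
  [3, 4, 7, 5, 6],
  [4, 3, 4, 8, 3],
  [6, 7, 4, 5, 3],
  [12, 11, 12, 11, 12, 11, 12, 11, 12, 11, 12, 11, 12, 11, 12, 11, 12, 11, 12, 11],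
  [2, 1],
  [1, 2],
  [10, 9],
  [11, 11],
  [12, 5, 12, 5],
  [11, 3, 4, 11, 10],
  [11, 4, 3, 11, 9],
  [12, 10, 12, 10, 12, 10, 3],
  [5, 8, 5, 8],
  [11, 9, 11, 4, 3],
  [11, 8, 11, 6],
  [3, 6, 8, 3, 6],
  [3, 5, 8, 3, 5],
  [4, 7, 6, 3, 5],
  [8, 6, 8, 6],
  [4, 5, 3, 6, 7],
  [5, 3, 5, 8, 3],
  [10, 7, 10, 5, 6],
  [10, 4, 10, 3, 6],
  [7, 3, 7, 8, 3],
  [10, 12, 10, 3, 12, 10, 12],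
  [4, 3, 5, 7, 6],
  [3, 5, 4, 7, 6],
  [5, 7, 4, 3, 6],
  [9, 10],
  [5, 4, 5, 8, 4],
  [2, 6, 1, 6],
  [6, 5, 7, 4, 3],
  [7, 8, 5, 7, 5],
  [6, 3, 7, 5, 4],
  [3, 10, 4, 9, 8],
  [7, 8, 7, 8],
  [1, 6, 2, 10, 10],
  [1, 6, 2, 9, 9],
  [2, 6, 1, 9, 9],
  [5, 10, 7, 8, 9],
  [3, 9, 4, 6, 9],
  [5, 10, 7, 9, 8],
  [1, 1, 1],
  [5, 7, 3, 6, 4],
  [1, 9, 1, 9, 1, 9],
  [4, 6, 7, 5, 3],
  [2, 6, 1, 10, 10],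
  [5, 10, 6, 7, 10],
  [5, 4, 7, 6, 3],
  [11, 6, 11, 8],
  [2, 10, 2, 10, 2, 10],
  [7, 3, 5, 6, 4],
  [3, 8, 3, 8],
  [6, 5, 3, 7, 4],
  [12, 11, 12, 6, 11, 12, 11, 12, 6, 11, 12, 11, 12, 6, 11, 12, 11, 12, 1, 6, 11],
  [11, 6, 12, 11, 12, 11, 6, 12, 11, 12, 11, 6, 12, 11, 12, 11, 6, 2, 12, 11, 12],
  [9, 2, 6, 1, 9],
  [7, 4, 5, 3, 6],
  [11, 12, 11, 12, 11, 12, 11, 12, 11, 12, 11, 12, 11, 12, 11, 12, 11, 12, 11, 12],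
  [3, 7, 5, 4, 6],
  [12, 6, 11, 12, 11, 12, 6, 11, 12, 11, 12, 6, 11, 12, 11, 12, 1, 6, 11, 12, 11],
  [12, 10, 10, 12, 7],
  [11, 12, 11, 6, 12, 11, 12, 11, 6, 12, 11, 12, 11, 6, 12, 11, 12, 11, 6, 2, 12],
  [5, 7, 8, 5, 7],
  [7, 8, 9, 5, 10],
  [7, 9, 5, 8, 10],
  [3, 8, 5, 3, 5],
  [4, 6, 5, 3, 7],
  [3, 6, 4, 5, 7],
  [3, 10, 8, 4, 9],
  [7, 8, 3, 7, 3],
  [4, 6, 3, 7, 5],
  [10, 6, 7, 10, 5],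
  [5, 6, 4, 7, 3],
  [7, 8, 4, 7, 4],
  [5, 5],
  [7, 7],
  [5, 4, 5, 4, 8],
  [4, 5, 4, 5, 8],
  [5, 8, 3, 5, 3],
  [7, 6, 3, 5, 4],
  [4, 5, 8, 4, 5],
  [12, 11, 6, 12, 11, 12, 11, 6, 2, 12, 11, 12, 11, 6, 12, 11, 12, 11, 6, 12, 11],
  [10, 6, 4, 10, 3],
  [4, 8, 5, 4, 5],
  [3, 6, 7, 4, 5],
  [7, 4, 7, 8, 4],
  [4, 5, 6, 7, 3],
  [5, 3, 6, 7, 4],
  [10, 4, 9, 3, 8],
  [10, 3, 12, 10, 12, 10, 12],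
  [3, 10, 6, 4, 10],
  [9, 12, 3, 9, 12, 9, 12],
  [9, 3, 9, 4, 6],
  [7, 5, 3, 4, 6],
  [2, 8, 1, 8],
  [5, 4, 3, 7, 6],
  [1, 8, 2, 8],
  [7, 9, 8, 5, 10],
  [3, 7, 6, 5, 4],
  [12, 11, 6, 12, 11, 12, 11, 6, 12, 11, 12, 11, 6, 12, 11, 12, 11, 6, 2, 12, 11],
  [4, 9, 3, 10, 8],
  [11, 12, 6, 11, 12, 11, 12, 6, 11, 12, 11, 12, 1, 6, 11, 12, 11, 12, 6, 11, 12],
  [5, 7, 5, 8, 7],
  [10, 4, 8, 9, 3],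
  [12, 9, 12, 3, 9, 12, 9],
  [7, 6, 9, 5, 9],
  [5, 6, 8, 5, 6],
  [8, 8],
  [11, 12, 11, 6, 12, 11, 12, 11, 6, 12, 11, 12, 11, 6, 2, 12, 11, 12, 11, 6, 12],
  [12, 1, 6, 11, 12, 11, 12, 6, 11, 12, 11, 12, 6, 11, 12, 11, 12, 6, 11, 12, 11],
  [12, 3, 9, 12, 9, 12, 9],
  [7, 3, 6, 4, 5],
  [2, 9, 9, 1, 6],
  [11, 6, 12, 11, 12, 11, 6, 2, 12, 11, 12, 11, 6, 12, 11, 12, 11, 6, 12, 11, 12],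
  [9, 8, 10, 8],
  [5, 8, 6, 5, 6],
  [4, 8, 7, 4, 7],
  [5, 8, 4, 5, 4],
  [8, 3, 7, 3, 7],
  [3, 8, 7, 3, 7],
  [9, 8, 5, 10, 7],
  [11, 12, 6, 11, 12, 11, 12, 6, 11, 12, 11, 12, 6, 11, 12, 11, 12, 1, 6, 11, 12],
  [4, 5, 7, 3, 6],
  [5, 6, 5, 6, 8],
  [5, 6, 10, 7, 10],
  [6, 7, 8, 6, 7],
  [10, 8, 9, 8],
  [12, 11, 12, 1, 6, 11, 12, 11, 12, 6, 11, 12, 11, 12, 6, 11, 12, 11, 12, 6, 11],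
  [6, 11, 12, 11, 12, 6, 11, 12, 11, 12, 6, 11, 12, 11, 12, 1, 6, 11, 12, 11, 12],
  [5, 10, 8, 7, 9],
  [9, 5, 9, 7, 6],
  [4, 8, 9, 3, 10],
  [9, 5, 10, 7, 8],
  [3, 5, 3, 5, 8],
  [11, 12, 1, 6, 11, 12, 11, 12, 6, 11, 12, 11, 12, 6, 11, 12, 11, 12, 6, 11, 12],
  [3, 7, 4, 6, 5],
  [6, 8, 6, 8],
  [3, 6, 10, 4, 10],
  [6, 11, 12, 11, 12, 1, 6, 11, 12, 11, 12, 6, 11, 12, 11, 12, 6, 11, 12, 11, 12],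
  [12, 6, 11, 12, 11, 12, 6, 11, 12, 11, 12, 1, 6, 11, 12, 11, 12, 6, 11, 12, 11],
  [12, 9, 9, 12, 7],
  [10, 1, 6, 2, 10],
  [4, 8, 4, 8],
  [3, 6, 3, 6, 8],
  [11, 8, 12, 11, 8, 12, 11, 8, 12, 11, 8, 12, 11, 8, 12, 11, 8, 12, 11, 8, 12, 11, 8, 12, 11, 8, 12, 11, 8, 12],
  [6, 6],
  [3, 3],
  [4, 4],
  [12, 12]]
def cr : List (ℕ × ℕ × ℕ) := [(0, 0, 0), (0, 0, 0), (0, 0, 0), (0, 0, 0), (1, 61, 2), (0, 0, 0), (0, 0, 0), (1, 14, 1), (1, 62, 0), (1, 34, 4), (1, 62, 2), (0, 0, 0), (1, 63, 3), (0, 0, 0), (1, 12, 0), (1, 63, 1), (0, 0, 0), (1, 40, 1), (0, 0, 0), (1, 19, 1), (1, 20, 3), (1, 64, 1), (1, 18, 0), (0, 0, 0), (1, 27, 2), (1, 30, 0), (1, 21, 0), (1, 21, 2), (1, 25, 0), (1, 27, 0), (1, 53, 0), (1, 29, 2), (1, 11, 2), (1, 60, 2), (1, 20, 0), (1, 42, 3), (1, 24, 0),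 (2, 11, 2), (1, 51, 3), (1, 29, 0), (2, 11, 1), (2, 58, 3), (0, 0, 0), (1, 13, 1), (1, 17, 1), (2, 11, 0), (2, 10, 0), (1, 14, 3), (1, 17, 3), (2, 18, 0), (1, 12, 1), (1, 15, 1), (1, 16, 1), (1, 59, 1), (1, 12, 3), (1, 13, 3), (1, 15, 3), (1, 16, 3), (1, 31, 3), (2, 31, 0), (2, 33, 4), (1, 13, 0), (1, 14, 2), (2, 35, 1), (1, 16, 2), (1, 35, 4), (1, 24, 3), (1, 33, 1), (2, 44, 0), (1, 61, 3), (1, 33, 2), (1, 45, 3), (1, 22, 1), (2, 42, 2), (1, 61, 1), (1, 34, 3), (1, 23, 1), (2, 53, 0), (2, 34, 1), (1, 28, 1), (2, 51, 2), (1, 61, 0), (1, 63, 0), (1, 64, 0), (2, 63, 1), (2, 63, 3), (2, 18, 1), (1, 24, 2), (1, 44, 0), (1, 20, 2), (1, 54, 0), (1, 33, 3), (2, 35, 0), (2, 34, 0), (1, 20, 1), (1, 21, 1), (1, 34, 2), (1, 36, 2), (1, 21, 3), (2, 52, 4), (1, 11, 0), (1, 58, 4),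 (1, 32, 1), (1, 36, 1), (2, 59, 0), (1, 63, 4), (1, 24, 1), (2, 63, 0), (2, 63, 2), (1, 62, 1), (1, 42, 4), (1, 18, 1), (1, 44, 4), (2, 32, 2), (1, 12, 2), (1, 13, 2), (1, 52, 3), (1, 36, 3), (1, 14, 0), (1, 48, 1), (1, 16, 0), (1, 53, 4), (1, 35, 0), (1, 38, 2), (1, 25, 1), (2, 34, 3), (1, 15, 0), (1, 40, 2), (1, 39, 3), (1, 26, 1), (1, 11, 1), (1, 39, 0), (2, 38, 2), (1, 15, 2), (1, 36, 0), (2, 36, 3), (1, 37, 1), (2, 38, 0), (2, 39, 0), (1, 35, 2), (1, 63, 2), (2, 41, 3), (1, 37, 2), (1, 34, 0), (2, 36, 0), (1, 67, 4), (1, 27, 3), (1, 67, 2), (2, 67, 2)]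
def cn : List (ℕ × ℕ × ℕ) := [(1, 68, 0), (1, 69, 0), (1, 70, 0), (1, 71, 0), (1, 72, 0), (1, 73, 0), (1, 74, 0), (1, 75, 0), (1, 76, 0), (1, 27, 2), (1, 18, 0), (2, 18, 1), (1, 30, 0), (1, 12, 2), (1, 14, 0), (1, 20, 1), (1, 36, 1), (1, 61, 1), (2, 33, 4), (1, 63, 2), (2, 35, 1), (2, 11, 1), (2, 11, 2), (1, 24, 0), (1, 40, 1), (1, 61, 2), (1, 12, 1), (1, 13, 1), (1, 14, 1), (1, 61, 0), (1, 62, 2), (1, 64, 0), (1, 21, 2), (1, 21, 0), (1, 25, 0), (1, 27, 0), (1, 19, 1), (2, 41, 0), (1, 33, 2), (1, 34, 0), (1, 12, 0), (1, 13, 2), (1, 20, 3), (1, 22, 1), (1, 36, 2), (2, 42, 2), (1, 45, 3), (1, 34, 3), (2, 36, 3), (1, 62, 0), (1, 11, 2), (1, 63, 3), (1, 63, 0), (2, 63, 3), (2, 63, 1), (1, 24, 3), (2, 51, 2), (2, 34, 3), (1, 35, 0), (1, 34, 2), (2, 35, 0), (2, 44, 0), (1,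 35, 2), (1, 29, 2), (1, 54, 0), (1, 29, 0), (1, 51, 3), (1, 24, 2), (1, 20, 2), (1, 44, 0), (1, 20, 0), (1, 42, 3), (2, 60, 2), (1, 60, 2), (1, 53, 0), (2, 10, 0), (1, 33, 3), (1, 23, 1), (1, 24, 1), (2, 53, 0), (1, 60, 3), (1, 15, 1), (1, 59, 1), (2, 11, 0), (1, 15, 3), (1, 31, 3), (2, 31, 0), (1, 28, 1), (2, 60, 1), (2, 34, 0), (1, 14, 3), (1, 46, 0), (2, 58, 3), (1, 44, 3), (1, 11, 0), (1, 58, 4), (1, 58, 2), (2, 58, 1), (1, 21, 1), (1, 21, 3), (1, 27, 3), (1, 63, 1), (1, 64, 1), (2, 59, 0), (1, 13, 0), (1, 16, 0), (1, 17, 1), (1, 11, 1), (1, 17, 3), (1, 32, 1), (2, 32, 2), (2, 52, 4), (1, 14, 2), (1, 16, 2), (1, 35, 4), (1, 16, 1), (1, 16, 3), (1, 12, 3), (1, 18, 1), (1, 13, 3), (2, 18, 0), (1, 44, 4), (1, 48, 1), (1, 30, 1), (1, 36, 3), (1, 53, 4), (2, 39, 0),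 (2, 34, 1), (1, 15, 0), (1, 34, 4), (1, 39, 3), (1, 39, 0), (1, 61, 3), (1, 27, 1), (1, 36, 0), (1, 33, 1), (2, 38, 0), (1, 65, 1), (0, 0, 0), (0, 0, 0), (0, 0, 0), (0, 0, 0), (1, 25, 1), (1, 63, 4), (2, 63, 2), (2, 60, 0), (1, 23, 0), (2, 63, 0), (1, 62, 1), (1, 40, 2), (1, 37, 2), (1, 38, 2), (1, 26, 1), (2, 38, 2), (1, 37, 1), (1, 51, 2), (1, 42, 2), (1, 43, 1), (2, 60, 3), (2, 35, 3), (1, 38, 0), (2, 36, 1), (0, 0, 0), (1, 47, 1), (1, 15, 2), (2, 36, 0), (1, 52, 3), (2, 41, 3), (2, 44, 4), (1, 28, 0), (2, 31, 2), (1, 31, 0), (1, 32, 3), (1, 55, 0), (1, 45, 0), (2, 53, 4), (1, 10, 0), (1, 41, 3), (1, 59, 0), (1, 35, 1), (2, 32, 4), (2, 54, 4), (1, 38, 1), (1, 62, 3), (2, 59, 1), (1, 39, 4), (1, 19, 0), (2, 39, 2), (1, 67, 2), (2, 67, 4), (1, 32, 2), (2, 38, 1), (1,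 65, 0), (2, 41, 4), (1, 67, 4), (2, 58, 0), (2, 67, 2), (1, 52, 2), (1, 55, 2), (1, 53, 3), (2, 37, 4), (2, 39, 1), (1, 41, 0), (2, 46, 4), (1, 43, 3), (2, 41, 2), (2, 54, 0), (1, 39, 1), (1, 49, 3), (0, 0, 0), (0, 0, 0), (2, 47, 1), (1, 47, 0), (1, 37, 3), (1, 38, 3), (1, 47, 2), (2, 67, 13), (2, 45, 0), (2, 47, 4), (2, 38, 4), (1, 49, 1), (1, 34, 1), (2, 38, 3), (1, 44, 2), (2, 60, 5), (2, 45, 4), (1, 60, 5), (1, 45, 4), (1, 35, 3), (1, 17, 2), (2, 34, 2), (1, 17, 0), (2, 53, 1), (2, 34, 4), (2, 67, 3), (2, 46, 2), (1, 67, 8), (2, 52, 2), (1, 46, 1), (1, 60, 4), (1, 54, 2), (1, 50, 2), (0, 0, 0), (2, 67, 7), (1, 67, 19), (1, 60, 6), (1, 41, 4), (1, 31, 2), (2, 67, 14), (1, 29, 1), (2, 50, 4), (2, 49, 4), (1, 47, 3), (1, 43, 4), (2, 43, 4), (2, 53, 2), (1, 67, 3),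 (1, 41, 2), (1, 50, 0), (1, 51, 0), (1, 56, 2), (1, 29, 3), (1, 67, 17), (1, 67, 5), (2, 55, 4), (1, 54, 4), (1, 46, 2), (1, 55, 4), (1, 37, 0), (1, 67, 18), (2, 39, 4), (1, 26, 0), (1, 42, 0), (1, 67, 15), (1, 67, 9), (1, 58, 1), (2, 31, 1), (1, 22, 0), (1, 40, 0), (1, 66, 0), (0, 0, 0), (0, 0, 0), (0, 0, 0), (0, 0, 0)]
noncomputable def rT : Tr := rT0
noncomputable def gT : Tr := (.node (.node (.node (.node (.node gT0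
 gT1)
 (.node gT2
 gT3))
 (.node (.node gT4
 gT5)
 (.node gT6
 gT7)))
 (.node (.node (.node gT8
 gT9)
 (.node gT10
 gT11))
 (.node (.node gT12
 gT13)
 (.node gT14
 gT15))))
 (.node (.node (.node (.node gT16
 gT17)
 (.leaf (nat_lit 0)))
 (.leaf (nat_lit 0)))
 (.leaf (nat_lit 0))))
noncomputable def rC (i : ℕ) : ℕ := rT.get (nat_lit 16) i
noncomputable def gC (i : ℕ) : ℕ := gT.get (nat_lit 1024) i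
noncomputable def row (p : ℕ) : ℕ := rec2 rC (nat_lit 4) (nat_lit 15) (nat_lit 312) (nat_lit 0xffffffffffffffffffffffffffffffffffffffffffffffffffffffffffffffffffffffffffffff) p
noncomputable def gf (p : ℕ) : ℕ := rec2 gC (nat_lit 7) (nat_lit 127) (nat_lit 45) (nat_lit 0x1fffffffffff) p
noncomputable def gw (c : ℕ) : List ℕ := nth [] Wr c
noncomputable def wn (c : ℕ) : ℕ := pack (nat_lit 5) (nth [] Wn c) (nat_lit 0)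
noncomputable def C : Cert :=
  { n := (nat_lit 315), na := (nat_lit 46063), M := (nat_lit 145167), nc := (nat_lit 12), W := (nat_lit 16), EB := (nat_lit 24),
    LB := (nat_lit 5), nreg := (nat_lit 149), ivT := (nat_lit 0x77dbe6757c56d3a464f835cc5a548398a418440), base := (nat_lit 0x2aaaa000),
    row := row, gf := gf, gw := gw, wn := wn }
theorem masks : Masks C (nat_lit 65535) (nat_lit 0xffffff) (nat_lit 31) (nat_lit 37) (nat_lit 0x1fffffffff) :=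
  ⟨by decide +kernel, by decide +kernel, by decide +kernel, by decide +kernel, by decide +kernel⟩
noncomputable def rchk : ℕ → ℕ → ℕ → Bool :=
  rowChk row gf gw (nat_lit 315) (nat_lit 145167) (nat_lit 12) (nat_lit 16) (nat_lit 65535) (nat_lit 24) (nat_lit 0xffffff) (nat_lit 5) (nat_lit 31) (nat_lit 37) (nat_lit 0x1fffffffff) (nat_lit 149) (nat_lit 0x77dbe6757c56d3a464f835cc5a548398a418440) (nat_lit 18) (nat_lit 262143) (nat_lit 9) (nat_lit 511)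
noncomputable def fchk : ℕ → ℕ → ℕ → Bool :=
  auxRun row gf wn (nat_lit 315) (nat_lit 46063) (nat_lit 145167) (nat_lit 12) (nat_lit 16) (nat_lit 65535) (nat_lit 24) (nat_lit 0xffffff) (nat_lit 5) (nat_lit 31) (nat_lit 37) (nat_lit 0x77dbe6757c56d3a464f835cc5a548398a418440) (nat_lit 0x2aaaa000) (nat_lit 19) (nat_lit 524287)
theorem rows_of {lo hi : ℕ} {t : JL} (h : t.run rchk (nat_lit 108) hi lo = true) : C.RowsOK lo hi :=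
  rowsOK_of_run masks h
theorem facts_of {lo hi : ℕ} {t : JL} (h : t.run fchk (nat_lit 20) hi lo = true) : C.FactsOK lo hi :=
  factsOK_of_run masks h
theorem words_ok : wordsChk 315 12 16 5 149 42767115045661965379907909210611758411018241088 715825152 R S Wr Wn cr cn = true := by
  decide +kernel

end Cfsg.Agent.H70.EJ2

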