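import Cfsg.Agent.H44.Coset
import Cfsg.Agent.H70.EJ3D0
import Cfsg.Agent.H70.EJ3D1
import Cfsg.Agent.H70.EJ3D2
import Cfsg.Agent.H70.EJ3D3
import Cfsg.Agent.H70.EJ3D4

set_option autoImplicit false
set_option maxRecDepth 1000000
set_option linter.all false
set_option Elab.async false

namespace Cfsg.Agent.H70.EJ3
open Cfsg.Agent.H44

/-- The relators. -/
def R : List (List ℕ) := [[1, 2],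
  [3, 3],
  [4, 4],
  [5, 5],
  [6, 6],
  [7, 7],
  [8, 8],
  [9, 10],
  [11, 11],
  [12, 12],
  [1, 1, 1],
  [6, 9, 9],
  [1, 3, 2, 4],
  [1, 4, 2, 5],
  [1, 5, 2, 3],
  [1, 6, 2, 6],
  [1, 7, 2, 7],
  [1, 8, 2, 8],
  [1, 12, 1, 12],
  [3, 8, 3, 8],
  [3, 9, 4, 10],
  [3, 12, 4, 12],
  [4, 8, 4, 8],
  [5, 8, 5, 8],
  [5, 9, 7, 10],
  [5, 12, 5, 12],
  [6, 8, 6, 8],
  [6, 12, 7, 12],
  [7, 8, 7, 8],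
  [8, 9, 8, 10],
  [8, 12, 8, 12],
  [1, 6, 2, 9, 9],
  [1, 9, 9, 2, 6],
  [3, 4, 3, 4, 8],
  [3, 4, 5, 6, 7],
  [3, 4, 6, 7, 5],
  [3, 4, 7, 5, 6],
  [3, 5, 3, 5, 8],
  [3, 5, 4, 7, 6],
  [3, 5, 6, 4, 7],
  [3, 6, 3, 6, 8],
  [3, 6, 4, 5, 7],
  [3, 6, 10, 4, 10],
  [3, 7, 3, 7, 8],
  [3, 8, 10, 4, 9],
  [3, 9, 4, 6, 9],
  [3, 10, 4, 8, 9],
  [4, 5, 4, 5, 8],
  [4, 6, 4, 6, 8],
  [4, 7, 4, 7, 8],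
  [5, 6, 5, 6, 8],
  [5, 6, 10, 7, 10],
  [5, 7, 5, 7, 8],
  [5, 8, 10, 7, 9],
  [5, 9, 7, 6, 9],
  [5, 10, 7, 8, 9],
  [6, 7, 6, 7, 8],
  [6, 8, 9, 9, 8],
  [7, 12, 9, 9, 12],
  [1, 9, 1, 9, 1, 9],
  [3, 9, 12, 9, 12, 9, 12],
  [1, 11, 2, 11],
  [6, 11, 8, 11],
  [3, 4, 11, 10, 11],
  [7, 11, 7, 11, 7, 11],
  [11, 12, 11, 12, 11, 12, 11, 12, 11, 12, 11, 12, 11, 12, 11, 12, 11, 12, 11, 12],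
  [11, 8, 12, 11, 8, 12, 11, 8, 12, 11, 8, 12, 11, 8, 12, 11, 8, 12, 11, 8, 12, 11, 8, 12, 11, 8, 12, 11, 8, 12],
  [6, 11, 12, 11, 12, 6, 11, 12, 11, 12, 6, 11, 12, 11, 12, 6, 11, 12, 11, 12]]
/-- The subgroup generators. -/
def S : List (List ℕ) := [[1],
  [3],
  [4],
  [5],
  [6],
  [7],
  [8],
  [9],
  [12]]
def Wr : List (List ℕ) := [[2, 1],
  [10, 9],
  [11, 11],
  [1, 2],
  [2, 11, 1, 11],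
  [3, 3],
  [4, 4],
  [5, 2, 3, 1],
  [6, 11, 8, 11],
  [7, 3, 4, 5, 6],
  [8, 11, 6, 11],
  [9, 10],
  [10, 11, 3, 4, 11],
  [12, 12],
  [1, 3, 2, 4],
  [4, 11, 10, 11, 3],
  [5, 5],
  [6, 3, 6, 8, 3],
  [7, 7],
  [8, 3, 8, 3],
  [10, 3, 9, 4],
  [11, 7, 11, 7, 11, 7],
  [1, 12, 1, 12],
  [6, 6],
  [7, 12, 6, 12],
  [8, 12, 8, 12],
  [3, 12, 4, 12],
  [4, 12, 3, 12],
  [5, 12, 5, 12],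
  [6, 12, 7, 12],
  [5, 8, 10, 7, 9],
  [8, 10, 8, 9],
  [9, 6, 9],
  [12, 9, 12, 9, 12, 3, 9],
  [3, 9, 4, 10],
  [4, 10, 3, 6, 10],
  [5, 9, 7, 10],
  [6, 10, 10],
  [7, 10, 5, 6, 10],
  [8, 9, 8, 10],
  [10, 6, 10],
  [12, 7, 12, 10, 10],
  [8, 8],
  [4, 2, 5, 1],
  [8, 2, 8, 1],
  [10, 10, 6],
  [2, 2, 2],
  [3, 1, 5, 2],
  [8, 1, 8, 2],
  [12, 2, 12, 2],
  [3, 2, 4, 1],
  [6, 2, 6, 1],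
  [7, 2, 7, 1],
  [9, 1, 9, 1, 9, 1],
  [4, 1, 3, 2],
  [5, 1, 4, 2],
  [6, 1, 6, 2],
  [7, 1, 7, 2],
  [9, 9, 1, 6, 2],
  [10, 10, 1, 6, 2],
  [3, 8, 4, 3, 4],
  [1, 4, 2, 5],
  [2, 3, 1, 5],
  [7, 6, 4, 3, 5],
  [2, 7, 1, 7],
  [5, 3, 4, 6, 7],
  [10, 5, 9, 7],
  [4, 3, 4, 8, 3],
  [10, 4, 9, 8, 3],
  [11, 1, 11, 2],
  [3, 4, 8, 3, 4],
  [6, 9, 3, 9, 4],
  [8, 4, 8, 4],
  [9, 6, 3, 9, 4],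
  [11, 2, 11, 1],
  [6, 7, 3, 4, 5],
  [8, 5, 8, 5],
  [10, 7, 9, 8, 5],
  [6, 5, 4, 3, 7],
  [8, 7, 8, 7],
  [9, 6, 5, 9, 7],
  [1, 11, 2, 11],
  [3, 4, 11, 10, 11],
  [7, 11, 7, 11, 7, 11],
  [9, 11, 4, 3, 11],
  [4, 3, 11, 9, 11],
  [2, 12, 2, 12],
  [7, 10, 5, 9],
  [3, 8, 10, 4, 9],
  [4, 10, 3, 9],
  [5, 9, 7, 6, 9],
  [4, 8, 3, 4, 3],
  [5, 7, 6, 4, 3],
  [7, 6, 5, 4, 3],
  [9, 4, 10, 3],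
  [12, 4, 12, 3],
  [5, 6, 7, 3, 4],
  [7, 5, 6, 3, 4],
  [12, 3, 12, 4],
  [5, 8, 7, 5, 7],
  [6, 9, 9],
  [12, 7, 12, 9, 9],
  [9, 9, 2, 6, 1],
  [4, 7, 5, 6, 3],
  [10, 2, 10, 2, 10, 2],
  [11, 3, 4, 11, 10],
  [9, 7, 10, 5],
  [11, 9, 11, 4, 3],
  [11, 4, 3, 11, 9],
  [11, 8, 11, 6],
  [10, 3, 6, 10, 4],
  [12, 1, 12, 1],
  [9, 3, 8, 10, 4],
  [10, 10, 2, 6, 1],
  [2, 4, 1, 3],
  [2, 5, 1, 4],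
  [7, 8, 5, 7, 5],
  [5, 6, 3, 4, 7],
  [1, 5, 2, 3],
  [6, 4, 6, 8, 4],
  [1, 7, 2, 7],
  [9, 5, 8, 10, 7],
  [3, 4, 6, 7, 5],
  [4, 7, 6, 3, 5],
  [12, 5, 12, 5],
  [4, 3, 7, 6, 5],
  [1, 6, 2, 6],
  [3, 6, 8, 3, 6],
  [4, 7, 3, 5, 6],
  [8, 6, 8, 6],
  [9, 9, 6],
  [3, 5, 6, 4, 7],
  [4, 5, 3, 6, 7],
  [2, 6, 1, 6],
  [3, 4, 7, 5, 6],
  [4, 3, 6, 5, 7],
  [5, 3, 5, 8, 3],
  [6, 7, 4, 5, 3],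
  [7, 4, 6, 5, 3],
  [6, 7, 5, 3, 4],
  [11, 10, 11, 3, 4],
  [6, 3, 7, 5, 4],
  [3, 5, 8, 3, 5],
  [7, 5, 4, 6, 3],
  [3, 4, 5, 6, 7],
  [6, 5, 7, 4, 3],
  [12, 6, 11, 12, 11, 12, 6, 11, 12, 11, 12, 6, 11, 12, 11, 12, 6, 11, 12, 11],
  [12, 10, 12, 10, 3, 12, 10],
  [12, 8, 12, 8],
  [9, 12, 9, 12, 3, 9, 12],
  [10, 12, 10, 12, 10, 3, 12],
  [12, 6, 12, 7],
  [12, 11, 12, 6, 11, 12, 11, 12, 6, 11, 12, 11, 12, 6, 11, 12, 11, 12, 6, 11],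
  [3, 10, 4, 8, 9],
  [4, 9, 3, 8, 10],
  [9, 9, 12, 7, 12],
  [10, 10, 12, 7, 12],
  [11, 6, 11, 8],
  [12, 7, 12, 6],
  [12, 10, 10, 12, 7],
  [12, 11, 12, 11, 12, 11, 12, 11, 12, 11, 12, 11, 12, 11, 12, 11, 12, 11, 12, 11],
  [12, 10, 12, 10, 12, 10, 3],
  [11, 12, 11, 6, 12, 11, 12, 11, 6, 12, 11, 12, 11, 6, 12, 11, 12, 11, 6, 12],
  [5, 8, 5, 8],
  [7, 8, 7, 8],
  [3, 10, 4, 9, 8],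
  [10, 7, 10, 5, 6],
  [10, 4, 10, 3, 6],
  [1, 9, 1, 9, 1, 9],
  [2, 10, 2, 10, 2, 10],
  [5, 10, 6, 7, 10],
  [7, 3, 7, 8, 3],
  [10, 12, 10, 3, 12, 10, 12],
  [3, 5, 4, 7, 6],
  [4, 3, 5, 7, 6],
  [5, 7, 4, 3, 6],
  [5, 10, 7, 9, 8],
  [5, 4, 5, 8, 4],
  [3, 8, 3, 8],
  [1, 6, 2, 10, 10],
  [2, 6, 1, 10, 10],
  [1, 6, 2, 9, 9],
  [2, 6, 1, 9, 9],
  [5, 10, 7, 8, 9],
  [3, 9, 4, 6, 9],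
  [1, 1, 1],
  [5, 7, 3, 6, 4],
  [9, 12, 3, 9, 12, 9, 12],
  [4, 6, 7, 5, 3],
  [7, 9, 5, 8, 10],
  [5, 4, 7, 6, 3],
  [7, 3, 5, 6, 4],
  [6, 5, 3, 7, 4],
  [9, 2, 6, 1, 9],
  [10, 2, 6, 1, 10],
  [11, 6, 12, 11, 12, 11, 6, 12, 11, 12, 11, 6, 12, 11, 12, 11, 6, 12, 11, 12],
  [5, 4, 3, 7, 6],
  [7, 4, 5, 3, 6],
  [4, 9, 6, 3, 9],
  [10, 4, 8, 9, 3],
  [3, 7, 5, 4, 6],
  [11, 12, 11, 12, 11, 12, 11, 12, 11, 12, 11, 12, 11, 12, 11, 12, 11, 12, 11, 12],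
  [9, 8, 10, 8],
  [3, 10, 6, 4, 10],
  [10, 6, 4, 10, 3],
  [5, 3, 6, 7, 4],
  [3, 8, 5, 3, 5],
  [4, 6, 5, 3, 7],
  [3, 6, 4, 5, 7],
  [5, 8, 3, 5, 3],
  [7, 8, 3, 7, 3],
  [4, 8, 9, 3, 10],
  [3, 10, 8, 4, 9],
  [4, 5, 6, 7, 3],
  [7, 8, 4, 7, 4],
  [5, 6, 4, 7, 3],
  [4, 6, 3, 7, 5],
  [5, 4, 5, 4, 8],
  [4, 5, 4, 5, 8],
  [10, 6, 7, 10, 5],
  [3, 6, 7, 4, 5],
  [4, 8, 7, 4, 7],
  [7, 6, 3, 5, 4],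
  [4, 5, 8, 4, 5],
  [9, 3, 9, 4, 6],
  [4, 8, 5, 4, 5],
  [10, 3, 12, 10, 12, 10, 12],
  [7, 4, 7, 8, 4],
  [11, 12, 6, 11, 12, 11, 12, 6, 11, 12, 11, 12, 6, 11, 12, 11, 12, 6, 11, 12],
  [1, 8, 2, 8],
  [9, 5, 9, 7, 6],
  [10, 4, 9, 3, 8],
  [2, 8, 1, 8],
  [7, 5, 3, 4, 6],
  [7, 8, 9, 5, 10],
  [6, 4, 7, 3, 5],
  [12, 9, 12, 3, 9, 12, 9],
  [4, 9, 3, 10, 8],
  [3, 7, 6, 5, 4],
  [7, 4, 3, 6, 5],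
  [7, 3, 6, 4, 5],
  [3, 7, 4, 6, 5],
  [12, 11, 12, 11, 6, 12, 11, 12, 11, 6, 12, 11, 12, 11, 6, 12, 11, 12, 11, 6],
  [9, 5, 10, 8, 7],
  [5, 8, 6, 5, 6],
  [9, 8, 5, 10, 7],
  [10, 8, 7, 9, 5],
  [7, 6, 9, 5, 9],
  [3, 5, 3, 5, 8],
  [12, 3, 9, 12, 9, 12, 9],
  [5, 7, 8, 5, 7],
  [5, 6, 5, 6, 8],
  [10, 8, 9, 8],
  [6, 7, 8, 6, 7],
  [3, 8, 7, 3, 7],
  [4, 8, 4, 8],
  [5, 10, 8, 7, 9],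
  [9, 3, 10, 8, 4],
  [6, 3, 4, 7, 5],
  [6, 11, 12, 11, 12, 6, 11, 12, 11, 12, 6, 11, 12, 11, 12, 6, 11, 12, 11, 12],
  [12, 11, 6, 12, 11, 12, 11, 6, 12, 11, 12, 11, 6, 12, 11, 12, 11, 6, 12, 11],
  [12, 9, 9, 12, 7],
  [10, 7, 9, 5, 8],
  [9, 1, 6, 2, 9],
  [10, 1, 6, 2, 10],
  [7, 9, 8, 5, 10],
  [5, 6, 8, 5, 6],
  [3, 7, 8, 3, 7],
  [9, 8, 3, 10, 4],
  [3, 6, 3, 6, 8],
  [8, 11, 12, 8, 11, 12, 8, 11, 12, 8, 11, 12, 8, 11, 12, 8, 11, 12, 8, 11, 12, 8, 11, 12, 8, 11, 12, 8, 11, 12],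
  [5, 7, 5, 8, 7],
  [11, 12, 11, 12, 6, 11, 12, 11, 12, 6, 11, 12, 11, 12, 6, 11, 12, 11, 12, 6],
  [12, 10, 3, 12, 10, 12, 10],
  [4, 3, 8, 4, 3],
  [6, 1, 10, 10, 2],
  [2, 9, 9, 1, 6],
  [11, 12, 8, 11, 12, 8, 11, 12, 8, 11, 12, 8, 11, 12, 8, 11, 12, 8, 11, 12, 8, 11, 12, 8, 11, 12, 8, 11, 12, 8],
  [11, 8, 12, 11, 8, 12, 11, 8, 12, 11, 8, 12, 11, 8, 12, 11, 8, 12, 11, 8, 12, 11, 8, 12, 11, 8, 12, 11, 8, 12],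
  [12, 8, 11, 12, 8, 11, 12, 8, 11, 12, 8, 11, 12, 8, 11, 12, 8, 11, 12, 8, 11, 12, 8, 11, 12, 8, 11, 12, 8, 11],
  [9, 12, 9, 12, 9, 12, 3],
  [12, 11, 8, 12, 11, 8, 12, 11, 8, 12, 11, 8, 12, 11, 8, 12, 11, 8, 12, 11, 8, 12, 11, 8, 12, 11, 8, 12, 11, 8],
  [3, 11, 9, 11, 4],
  [6, 3, 5, 4, 7],
  [4, 3, 4, 3, 8],
  [6, 4, 3, 5, 7],
  [3, 4, 3, 4, 8],
  [6, 1, 9, 9, 2],
  [5, 4, 6, 3, 7],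
  [10, 8, 6, 8, 10],
  [6, 4, 10, 3, 10],
  [3, 7, 3, 7, 8],
  [3, 9, 12, 9, 12, 9, 12],
  [4, 6, 8, 4, 6],
  [7, 12, 9, 9, 12],
  [4, 6, 4, 6, 8],
  [10, 7, 8, 9, 5],
  [4, 7, 8, 4, 7],
  [7, 5, 7, 8, 5],
  [6, 5, 8, 6, 5],
  [6, 4, 6, 4, 8],
  [3, 8, 6, 3, 6],
  [8, 3, 6, 3, 6],
  [6, 7, 6, 8, 7],
  [9, 4, 6, 9, 3],
  [4, 7, 4, 7, 8],
  [8, 12, 11, 8, 12, 11, 8, 12, 11, 8, 12, 11, 8, 12, 11, 8, 12, 11, 8, 12, 11, 8, 12, 11, 8, 12, 11, 8, 12, 11],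
  [5, 3, 5, 3, 8],
  [8, 6, 3, 6, 3],
  [7, 4, 8, 7, 4],
  [10, 10, 8, 6, 8],
  [8, 3, 10, 4, 9],
  [8, 9, 3, 10, 4],
  [6, 4, 8, 6, 4],
  [6, 5, 6, 8, 5],
  [1, 10, 10, 2, 6],
  [4, 8, 6, 4, 6],
  [9, 4, 9, 6, 3],
  [10, 12, 7, 12, 10],
  [8, 7, 3, 7, 3],
  [6, 10, 4, 10, 3],
  [5, 7, 5, 7, 8],
  [8, 7, 5, 7, 5],
  [8, 5, 4, 5, 4],
  [9, 7, 6, 9, 5],
  [4, 7, 4, 8, 7],
  [8, 6, 7, 6, 7],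
  [10, 5, 6, 10, 7],
  [3, 6, 3, 8, 6],
  [4, 6, 4, 8, 6],
  [8, 9, 5, 10, 7],
  [7, 12, 10, 10, 12],
  [1, 9, 9, 2, 6],
  [7, 5, 7, 5, 8],
  [3, 12, 10, 12, 10, 12, 10],
  [9, 5, 10, 7, 8],
  [8, 5, 7, 5, 7],
  [9, 9, 8, 6, 8],
  [6, 3, 8, 6, 3],
  [8, 10, 10, 8, 6],
  [9, 7, 9, 6, 5],
  [10, 5, 10, 6, 7],
  [8, 4, 5, 4, 5],
  [6, 12, 11, 12, 11, 6, 12, 11, 12, 11, 6, 12, 11, 12, 11, 6, 12, 11, 12, 11],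
  [5, 8, 4, 5, 4],
  [8, 7, 4, 7, 4],
  [9, 12, 7, 12, 9],
  [7, 9, 5, 10, 8],
  [8, 5, 6, 5, 6],
  [8, 4, 3, 4, 3],
  [7, 8, 6, 7, 6],
  [3, 9, 4, 9, 6],
  [5, 3, 8, 5, 3],
  [6, 2, 9, 9, 1],
  [10, 3, 10, 6, 4],
  [8, 6, 5, 6, 5],
  [6, 9, 5, 9, 7],
  [6, 2, 10, 10, 1],
  [3, 5, 7, 6, 4],
  [6, 3, 9, 4, 9],
  [6, 5, 9, 7, 9],
  [8, 3, 7, 3, 7],
  [3, 7, 3, 8, 7],
  [9, 8, 6, 8, 9],
  [8, 3, 5, 3, 5],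
  [8, 6, 4, 6, 4],
  [3, 5, 3, 8, 5],
  [5, 4, 8, 5, 4],
  [4, 9, 8, 3, 10],
  [8, 4, 9, 3, 10],
  [4, 5, 7, 3, 6],
  [6, 3, 6, 3, 8],
  [7, 10, 5, 10, 6],
  [7, 9, 6, 5, 9],
  [6, 5, 6, 5, 8],
  [8, 7, 9, 5, 10],
  [7, 4, 7, 4, 8],
  [5, 3, 7, 4, 6],
  [4, 5, 4, 8, 5],
  [8, 5, 3, 5, 3],
  [4, 6, 9, 3, 9],
  [8, 5, 10, 7, 9],
  [6, 8, 9, 9, 8],
  [5, 6, 5, 8, 6],
  [7, 6, 7, 8, 6],
  [7, 3, 8, 7, 3],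
  [4, 10, 3, 10, 6],
  [8, 10, 7, 9, 5],
  [9, 3, 10, 4, 8],
  [5, 6, 10, 7, 10],
  [6, 7, 6, 7, 8],
  [6, 7, 10, 5, 10],
  [3, 6, 10, 4, 10],
  [6, 8, 5, 6, 5],
  [3, 4, 3, 8, 4],
  [7, 6, 7, 6, 8],
  [2, 10, 10, 1, 6],
  [6, 8, 10, 10, 8],
  [5, 9, 7, 9, 6],
  [8, 4, 6, 4, 6],
  [7, 5, 8, 7, 5],
  [10, 8, 4, 9, 3],
  [8, 10, 4, 9, 3],
  [7, 6, 8, 7, 6],
  [7, 3, 7, 3, 8],
  [6, 10, 7, 10, 5],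
  [8, 6, 8, 10, 10],
  [6, 8, 6, 8],
  [8, 6, 8, 9, 9],
  [6, 8, 3, 6, 3],
  [6, 8, 4, 6, 4]]
def Wn : List (List ℕ) := [[1, 13],
  [3, 15],
  [4, 17],
  [5, 19],
  [6, 21],
  [7, 23],
  [8, 25],
  [9, 27],
  [12, 29],
  [2, 11, 1, 11],
  [1, 11, 2, 11],
  [9, 11, 4, 3, 11],
  [5, 8, 10, 7, 9],
  [2, 1],
  [1, 2],
  [10, 9],
  [11, 11],
  [10, 11, 3, 4, 11],
  [9, 10],
  [3, 4, 11, 10, 11],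
  [9, 6, 9],
  [4, 10, 3, 9],
  [7, 10, 5, 9],
  [12, 9, 12, 9, 12, 3, 9],
  [10, 6, 10],
  [6, 10, 10],
  [5, 9, 7, 10],
  [7, 10, 5, 6, 10],
  [12, 7, 12, 10, 10],
  [6, 12, 7, 12],
  [9, 9, 12, 7, 12],
  [10, 10, 12, 7, 12],
  [8, 7, 8, 7],
  [8, 9, 8, 10],
  [7, 12, 6, 12],
  [8, 11, 6, 11],
  [6, 11, 8, 11],
  [7, 6, 4, 3, 5],
  [5, 8, 7, 5, 7],
  [4, 7, 5, 6, 3],
  [3, 8, 4, 3, 4],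
  [5, 3, 4, 6, 7],
  [3, 9, 4, 10],
  [4, 8, 3, 4, 3],
  [4, 11, 10, 11, 3],
  [11, 7, 11, 7, 11, 7],
  [3, 12, 4, 12],
  [2, 7, 1, 7],
  [1, 12, 1, 12],
  [2, 4, 1, 3],
  [1, 5, 2, 3],
  [1, 3, 2, 4],
  [2, 5, 1, 4],
  [1, 4, 2, 5],
  [2, 3, 1, 5],
  [1, 7, 2, 7],
  [2, 12, 2, 12],
  [8, 12, 8, 12],
  [10, 3, 9, 4],
  [6, 9, 3, 9, 4],
  [6, 7, 3, 4, 5],
  [11, 10, 11, 3, 4],
  [10, 10, 6],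
  [5, 2, 3, 1],
  [7, 2, 7, 1],
  [4, 12, 3, 12],
  [4, 1, 3, 2],
  [3, 1, 5, 2],
  [5, 6, 7, 3, 4],
  [5, 6, 3, 4, 7],
  [7, 3, 4, 5, 6],
  [7, 11, 7, 11, 7, 11],
  [5, 10, 7, 9, 8],
  [7, 6, 5, 4, 3],
  [5, 7, 6, 4, 3],
  [6, 5, 7, 4, 3],
  [11, 9, 11, 4, 3],
  [5, 12, 5, 12],
  [7, 5, 6, 3, 4],
  [7, 3, 5, 6, 4],
  [4, 5, 3, 6, 7],
  [5, 1, 4, 2],
  [4, 3, 7, 6, 5],
  [8, 4, 8, 4],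
  [8, 5, 8, 5],
  [10, 7, 9, 8, 5],
  [3, 6, 4, 5, 7],
  [5, 5],
  [7, 7],
  [3, 10, 4, 9, 8],
  [8, 8],
  [6, 7, 5, 3, 4],
  [9, 3, 8, 10, 4],
  [3, 4, 6, 7, 5],
  [10, 5, 9, 7],
  [9, 6, 5, 9, 7],
  [8, 6, 8, 6],
  [2, 10, 2, 10, 2, 10],
  [11, 1, 11, 2],
  [9, 7, 10, 5],
  [3, 5, 6, 4, 7],
  [4, 3, 6, 5, 7],
  [12, 3, 12, 4],
  [8, 3, 8, 3],
  [9, 4, 10, 3],
  [12, 4, 12, 3],
  [11, 8, 11, 6],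
  [6, 9, 9],
  [8, 2, 8, 1],
  [12, 1, 12, 1],
  [2, 2, 2],
  [7, 1, 7, 2],
  [8, 1, 8, 2],
  [12, 2, 12, 2],
  [6, 2, 6, 1],
  [6, 1, 6, 2],
  [3, 2, 4, 1],
  [4, 2, 5, 1],
  [9, 5, 8, 10, 7],
  [6, 5, 4, 3, 7],
  [7, 8, 5, 7, 5],
  [3, 4, 5, 6, 7],
  [3, 5, 8, 3, 5],
  [4, 7, 6, 3, 5],
  [11, 2, 11, 1],
  [4, 7, 3, 5, 6],
  [9, 9, 6],
  [3, 4, 7, 5, 6],
  [4, 3, 4, 8, 3],
  [5, 3, 5, 8, 3],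
  [6, 7, 4, 5, 3],
  [7, 4, 6, 5, 3],
  [3, 4, 8, 3, 4],
  [11, 4, 3, 11, 9],
  [8, 10, 8, 9],
  [6, 3, 7, 5, 4],
  [9, 6, 3, 9, 4],
  [11, 6, 11, 8],
  [10, 4, 9, 8, 3],
  [9, 12, 9, 12, 3, 9, 12],
  [7, 5, 4, 6, 3],
  [12, 7, 12, 9, 9],
  [6, 3, 6, 8, 3],
  [10, 12, 10, 12, 10, 3, 12],
  [9, 9, 2, 6, 1],
  [9, 1, 9, 1, 9, 1],
  [10, 2, 10, 2, 10, 2],
  [12, 5, 12, 5],
  [3, 6, 8, 3, 6],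
  [1, 9, 1, 9, 1, 9],
  [4, 10, 3, 6, 10],
  [10, 10, 2, 6, 1],
  [11, 3, 4, 11, 10],
  [6, 4, 6, 8, 4],
  [12, 6, 12, 7],
  [5, 7, 4, 3, 6],
  [4, 3, 5, 7, 6],
  [4, 3, 11, 9, 11],
  [7, 3, 7, 8, 3],
  [5, 4, 7, 6, 3],
  [2, 6, 1, 10, 10],
  [2, 6, 1, 9, 9],
  [10, 7, 10, 5, 6],
  [10, 10, 1, 6, 2],
  [9, 3, 9, 4, 6],
  [9, 9, 1, 6, 2],
  [2, 6, 1, 6],
  [1, 6, 2, 6],
  [3, 5, 4, 7, 6],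
  [1, 6, 2, 10, 10],
  [1, 6, 2, 9, 9],
  [3, 8, 10, 4, 9],
  [9, 1, 6, 2, 9],
  [9, 12, 3, 9, 12, 9, 12],
  [4, 6, 7, 5, 3],
  [4, 9, 3, 8, 10],
  [5, 9, 7, 6, 9],
  [12, 10, 12, 10, 3, 12, 10],
  [3, 9, 4, 6, 9],
  [12, 11, 12, 6, 11, 12, 11, 12, 6, 11, 12, 11, 12, 6, 11, 12, 11, 12, 6, 11],
  [11, 6, 12, 11, 12, 11, 6, 12, 11, 12, 11, 6, 12, 11, 12, 11, 6, 12, 11, 12],
  [5, 10, 7, 8, 9],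
  [7, 9, 8, 5, 10],
  [1, 1, 1],
  [5, 7, 3, 6, 4],
  [10, 4, 10, 3, 6],
  [12, 11, 6, 12, 11, 12, 11, 6, 12, 11, 12, 11, 6, 12, 11, 12, 11, 6, 12, 11],
  [5, 4, 5, 8, 4],
  [7, 4, 7, 8, 4],
  [3, 10, 6, 4, 10],
  [7, 8, 7, 8],
  [4, 6, 5, 3, 7],
  [3, 6, 7, 4, 5],
  [5, 4, 3, 7, 6],
  [2, 8, 1, 8],
  [5, 8, 3, 5, 3],
  [7, 8, 3, 7, 3],
  [12, 6, 11, 12, 11, 12, 6, 11, 12, 11, 12, 6, 11, 12, 11, 12, 6, 11, 12, 11],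
  [11, 12, 11, 12, 11, 12, 11, 12, 11, 12, 11, 12, 11, 12, 11, 12, 11, 12, 11, 12],
  [12, 11, 12, 11, 12, 11, 12, 11, 12, 11, 12, 11, 12, 11, 12, 11, 12, 11, 12, 11],
  [12, 9, 12, 3, 9, 12, 9],
  [3, 5, 3, 5, 8],
  [3, 7, 5, 4, 6],
  [3, 10, 4, 8, 9],
  [12, 8, 12, 8],
  [7, 6, 3, 5, 4],
  [5, 7, 5, 8, 7],
  [5, 8, 5, 8],
  [12, 10, 10, 12, 7],
  [10, 3, 12, 10, 12, 10, 12],
  [9, 3, 10, 4, 8],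
  [5, 8, 6, 5, 6],
  [7, 6, 9, 5, 9],
  [12, 3, 9, 12, 9, 12, 9],
  [3, 6, 3, 6, 8],
  [7, 4, 5, 3, 6],
  [12, 10, 12, 10, 12, 10, 3],
  [11, 12, 6, 11, 12, 11, 12, 6, 11, 12, 11, 12, 6, 11, 12, 11, 12, 6, 11, 12],
  [12, 7, 12, 6],
  [11, 12, 11, 6, 12, 11, 12, 11, 6, 12, 11, 12, 11, 6, 12, 11, 12, 11, 6, 12],
  [9, 8, 10, 8],
  [3, 8, 5, 3, 5],
  [5, 6, 4, 7, 3],
  [7, 8, 4, 7, 4],
  [9, 8, 5, 10, 7],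
  [3, 7, 4, 6, 5],
  [4, 8, 7, 4, 7],
  [10, 4, 8, 9, 3],
  [10, 8, 7, 9, 5],
  [5, 6, 5, 6, 8],
  [4, 5, 6, 7, 3],
  [5, 3, 6, 7, 4],
  [10, 6, 4, 10, 3],
  [5, 7, 8, 5, 7],
  [4, 8, 5, 4, 5],
  [3, 6, 3, 8, 6],
  [4, 6, 3, 7, 5],
  [3, 8, 3, 8],
  [4, 8, 4, 8],
  [3, 8, 7, 3, 7],
  [5, 4, 5, 4, 8],
  [10, 8, 4, 9, 3],
  [4, 5, 8, 4, 5],
  [10, 6, 7, 10, 5],
  [7, 8, 9, 5, 10],
  [7, 9, 5, 10, 8],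
  [9, 12, 9, 12, 9, 12, 3],
  [9, 5, 9, 7, 6],
  [1, 8, 2, 8],
  [9, 5, 10, 7, 8],
  [10, 1, 6, 2, 10],
  [10, 8, 9, 8],
  [6, 5, 3, 7, 4],
  [6, 11, 12, 11, 12, 6, 11, 12, 11, 12, 6, 11, 12, 11, 12, 6, 11, 12, 11, 12],
  [12, 8, 11, 12, 8, 11, 12, 8, 11, 12, 8, 11, 12, 8, 11, 12, 8, 11, 12, 8, 11, 12, 8, 11, 12, 8, 11, 12, 8, 11],
  [5, 8, 4, 5, 4],
  [10, 4, 9, 3, 8],
  [6, 3, 4, 7, 5],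
  [5, 10, 6, 7, 10],
  [7, 5, 3, 4, 6],
  [10, 12, 10, 3, 12, 10, 12],
  [10, 7, 9, 5, 8],
  [5, 10, 8, 7, 9],
  [5, 6, 8, 5, 6],
  [7, 9, 5, 8, 10],
  [4, 8, 9, 3, 10],
  [9, 2, 6, 1, 9],
  [7, 4, 3, 6, 5],
  [10, 2, 6, 1, 10],
  [3, 7, 6, 5, 4],
  [7, 3, 6, 4, 5],
  [12, 10, 3, 12, 10, 12, 10],
  [9, 5, 10, 8, 7],
  [9, 8, 3, 10, 4],
  [3, 10, 8, 4, 9],
  [5, 6, 10, 7, 10],
  [4, 9, 3, 10, 8],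
  [4, 10, 3, 10, 6],
  [7, 10, 5, 10, 6],
  [4, 3, 4, 3, 8],
  [6, 4, 7, 3, 5],
  [7, 4, 7, 4, 8],
  [12, 11, 12, 11, 6, 12, 11, 12, 11, 6, 12, 11, 12, 11, 6, 12, 11, 12, 11, 6],
  [3, 6, 10, 4, 10],
  [3, 8, 6, 3, 6],
  [3, 5, 3, 8, 5],
  [6, 7, 8, 6, 7],
  [4, 7, 4, 7, 8],
  [11, 8, 12, 11, 8, 12, 11, 8, 12, 11, 8, 12, 11, 8, 12, 11, 8, 12, 11, 8, 12, 11, 8, 12, 11, 8, 12, 11, 8, 12],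
  [4, 5, 7, 3, 6],
  [6, 6],
  [3, 11, 9, 11, 4],
  [4, 9, 8, 3, 10],
  [6, 4, 3, 5, 7],
  [3, 3],
  [4, 4],
  [7, 3, 8, 7, 3],
  [8, 4, 9, 3, 10],
  [3, 4, 3, 4, 8],
  [10, 5, 10, 6, 7],
  [4, 5, 4, 5, 8],
  [4, 6, 8, 4, 6],
  [4, 8, 6, 4, 6],
  [9, 3, 10, 8, 4],
  [12, 12],
  [8, 12, 11, 8, 12, 11, 8, 12, 11, 8, 12, 11, 8, 12, 11, 8, 12, 11, 8, 12, 11, 8, 12, 11, 8, 12, 11, 8, 12, 11],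
  [10, 7, 8, 9, 5],
  [6, 8, 6, 8],
  [6, 12, 11, 12, 11, 6, 12, 11, 12, 11, 6, 12, 11, 12, 11, 6, 12, 11, 12, 11],
  [9, 7, 9, 6, 5],
  [12, 11, 8, 12, 11, 8, 12, 11, 8, 12, 11, 8, 12, 11, 8, 12, 11, 8, 12, 11, 8, 12, 11, 8, 12, 11, 8, 12, 11, 8],
  [8, 5, 3, 5, 3],
  [3, 12, 10, 12, 10, 12, 10],
  [8, 11, 12, 8, 11, 12, 8, 11, 12, 8, 11, 12, 8, 11, 12, 8, 11, 12, 8, 11, 12, 8, 11, 12, 8, 11, 12, 8, 11, 12],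
  [11, 12, 8, 11, 12, 8, 11, 12, 8, 11, 12, 8, 11, 12, 8, 11, 12, 8, 11, 12, 8, 11, 12, 8, 11, 12, 8, 11, 12, 8],
  [5, 3, 8, 5, 3],
  [7, 12, 9, 9, 12],
  [8, 6, 5, 6, 5],
  [6, 1, 10, 10, 2],
  [6, 1, 9, 9, 2],
  [11, 12, 11, 12, 6, 11, 12, 11, 12, 6, 11, 12, 11, 12, 6, 11, 12, 11, 12, 6],
  [10, 5, 6, 10, 7],
  [4, 5, 4, 8, 5],
  [3, 9, 12, 9, 12, 9, 12],
  [12, 9, 9, 12, 7],
  [9, 4, 9, 6, 3],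
  [7, 3, 7, 3, 8],
  [9, 12, 7, 12, 9],
  [7, 5, 7, 5, 8],
  [7, 12, 10, 10, 12],
  [6, 8, 7, 6, 7],
  [6, 8, 4, 6, 4],
  [3, 7, 3, 8, 7],
  [8, 5, 7, 5, 7],
  [8, 9, 9, 8, 6],
  [10, 3, 6, 10, 4],
  [6, 8, 5, 6, 5],
  [8, 6, 3, 6, 3],
  [4, 6, 4, 6, 8]]
def cr : List (ℕ × ℕ × ℕ) := [(0, 0, 0), (0, 0, 0), (0, 0, 0), (0, 0, 0), (1, 61, 2), (0, 0, 0), (0, 0, 0), (1, 14, 1), (1, 62, 0), (1, 34, 4), (1, 62, 2), (0, 0, 0), (1, 63, 3), (0, 0, 0), (1, 12, 0), (1, 63, 1), (0, 0, 0), (1, 40, 1), (0, 0, 0), (1, 19, 1), (1, 20, 3), (1, 64, 1), (1, 18, 0), (0, 0, 0), (1, 27, 2), (1, 30, 0), (1, 21, 0), (1, 21, 2), (1, 25, 0), (1, 27, 0), (1, 53, 0), (1, 29, 2), (1, 11, 2), (1, 60, 2), (1, 20, 0), (1, 42, 3), (1, 24, 0), (2, 11, 2), (1, 51, 3), (1, 29, 0), (2, 11, 1), (2, 58, 3),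 (0, 0, 0), (1, 13, 1), (1, 17, 1), (2, 11, 0), (2, 10, 0), (1, 14, 3), (1, 17, 3), (2, 18, 0), (1, 12, 1), (1, 15, 1), (1, 16, 1), (1, 59, 1), (1, 12, 3), (1, 13, 3), (1, 15, 3), (1, 16, 3), (1, 31, 3), (2, 31, 0), (2, 33, 4), (1, 13, 0), (1, 14, 2), (2, 35, 1), (1, 16, 2), (1, 35, 4), (1, 24, 3), (1, 33, 1), (2, 44, 0), (1, 61, 3), (1, 33, 2), (1, 45, 3), (1, 22, 1), (2, 42, 2), (1, 61, 1), (1, 34, 3), (1, 23, 1), (2, 53, 0), (2, 34, 1), (1, 28, 1), (2, 51, 2), (1, 61, 0), (1, 63, 0), (1, 64, 0), (2, 63, 1), (2, 63, 3), (2, 18, 1), (1, 24, 2), (1, 44, 0), (1, 20, 2), (1, 54, 0), (1, 33, 3), (2, 35, 0), (2, 34, 0), (1, 20, 1), (1, 21, 1), (1, 34, 2), (1, 36, 2), (1, 21, 3), (2, 52, 4), (1, 11, 0), (1, 58, 4), (1, 32, 1), (1, 36, 1), (2, 59, 0), (1, 63, 4), (1, 24,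 1), (2, 63, 0), (2, 63, 2), (1, 62, 1), (1, 42, 4), (1, 18, 1), (1, 44, 4), (2, 32, 2), (1, 12, 2), (1, 13, 2), (1, 52, 3), (1, 36, 3), (1, 14, 0), (1, 48, 1), (1, 16, 0), (1, 53, 4), (1, 35, 0), (1, 38, 2), (1, 25, 1), (2, 34, 3), (1, 15, 0), (1, 40, 2), (1, 39, 3), (1, 26, 1), (1, 11, 1), (1, 39, 0), (2, 38, 2), (1, 15, 2), (1, 36, 0), (2, 36, 3), (1, 37, 1), (2, 38, 0), (2, 39, 0), (1, 35, 2), (1, 63, 2), (2, 41, 3), (1, 37, 2), (2, 41, 0), (1, 34, 0), (2, 36, 0), (1, 67, 4), (2, 60, 2), (1, 30, 1), (1, 60, 3), (2, 60, 1), (1, 27, 3), (1, 67, 2), (1, 46, 0), (1, 44, 3), (1, 58, 2), (2, 58, 1), (1, 62, 3), (1, 27, 1), (2, 58, 0), (1, 65, 1), (2, 60, 0), (2, 67, 1), (1, 23, 0), (1, 28, 0), (2, 44, 4), (1, 51, 2), (1, 42, 2), (1, 59, 0), (2, 59, 1), (2, 54, 4), (1,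 43, 1), (2, 60, 3), (1, 38, 0), (2, 35, 3), (2, 36, 1), (2, 53, 4), (1, 47, 1), (1, 19, 0), (2, 31, 2), (2, 32, 4), (1, 31, 0), (1, 32, 3), (1, 55, 0), (1, 45, 0), (1, 10, 0), (1, 41, 3), (1, 60, 5), (1, 35, 1), (1, 53, 3), (1, 38, 1), (1, 39, 4), (2, 39, 2), (1, 32, 2), (2, 32, 3), (2, 67, 3), (2, 34, 2), (2, 38, 1), (2, 42, 1), (1, 46, 1), (2, 41, 4), (1, 65, 0), (1, 29, 1), (2, 45, 4), (2, 45, 0), (2, 38, 3), (2, 37, 4), (2, 39, 1), (1, 41, 0), (1, 37, 3), (1, 43, 3), (1, 46, 2), (2, 46, 4), (1, 34, 1), (1, 49, 3), (1, 39, 1), (2, 41, 2), (2, 47, 1), (1, 47, 0), (2, 54, 0), (2, 38, 4), (2, 49, 4), (1, 38, 3), (1, 47, 2), (1, 45, 4), (2, 47, 4), (2, 60, 5), (1, 49, 1), (1, 67, 3), (1, 17, 0), (1, 54, 4), (1, 44, 2), (1, 17, 2), (1, 35, 3), (1, 55, 2), (1, 39, 2),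 (1, 60, 4), (2, 46, 2), (2, 34, 4), (2, 36, 2), (1, 41, 4), (2, 39, 4), (2, 67, 0), (2, 55, 3), (2, 50, 4), (2, 53, 2), (2, 55, 0), (1, 54, 2), (1, 37, 0), (1, 60, 6), (1, 52, 2), (1, 50, 0), (1, 29, 3), (1, 56, 2), (2, 43, 4), (1, 22, 0), (2, 55, 4), (2, 46, 3), (1, 36, 4), (1, 67, 0), (2, 67, 2), (1, 58, 1), (1, 53, 2), (1, 31, 4), (2, 31, 1), (2, 53, 1), (1, 50, 2), (1, 43, 2), (2, 44, 2), (1, 40, 0), (2, 66, 1), (2, 52, 2), (1, 67, 1), (2, 60, 4), (2, 33, 3), (2, 32, 0), (1, 31, 2), (2, 66, 2), (1, 66, 0), (2, 66, 0), (1, 60, 1), (1, 66, 2), (2, 63, 4), (1, 38, 4), (2, 33, 1), (2, 35, 2), (1, 33, 0), (1, 32, 4), (2, 41, 1), (2, 57, 2), (2, 45, 1), (1, 43, 0), (1, 60, 0), (1, 48, 2), (1, 58, 0), (1, 48, 0), (1, 55, 1), (1, 49, 2), (1, 52, 1), (2, 50, 3), (2, 48,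 1), (2, 40, 4), (1, 40, 4), (2, 56, 2), (1, 45, 1), (1, 49, 0), (1, 66, 1), (2, 37, 1), (2, 40, 0), (2, 49, 3), (2, 57, 1), (2, 44, 3), (1, 46, 3), (2, 48, 3), (1, 50, 1), (2, 32, 1), (2, 48, 4), (2, 42, 0), (2, 58, 2), (2, 43, 0), (1, 42, 1), (1, 52, 0), (2, 52, 0), (2, 47, 0), (1, 54, 1), (2, 49, 2), (1, 56, 4), (1, 51, 4), (2, 40, 2), (2, 48, 2), (1, 55, 3), (2, 58, 4), (1, 32, 0), (2, 52, 1), (2, 60, 6), (1, 55, 4), (1, 52, 4), (1, 57, 2), (2, 40, 3), (2, 57, 0), (2, 51, 0), (2, 54, 3), (1, 47, 4), (2, 67, 4), (1, 47, 3), (2, 49, 0), (1, 58, 3), (2, 55, 2), (1, 50, 4), (2, 33, 0), (1, 56, 3), (2, 42, 4), (2, 37, 3), (1, 31, 1), (2, 45, 3), (2, 50, 0), (1, 54, 3), (2, 31, 3), (2, 35, 4), (2, 42, 3), (2, 51, 3), (1, 43, 4), (2, 43, 2), (1, 57, 3), (1, 37, 4), (2,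 48, 0), (2, 37, 2), (2, 47, 3), (2, 44, 1), (2, 46, 1), (1, 41, 2), (2, 40, 1), (2, 54, 2), (2, 51, 1), (2, 50, 1), (2, 55, 1), (2, 49, 1), (2, 39, 3), (2, 47, 2), (2, 37, 0), (1, 45, 2), (2, 53, 3), (1, 57, 0), (2, 50, 2), (1, 56, 1), (2, 43, 3), (2, 45, 2), (1, 53, 1), (1, 46, 4), (1, 51, 0), (1, 56, 0), (2, 54, 1), (1, 42, 0), (1, 50, 3), (2, 33, 2), (2, 56, 1), (2, 31, 4), (2, 57, 4), (2, 51, 4), (1, 48, 4), (2, 52, 3), (2, 46, 0), (1, 44, 1), (2, 56, 3), (2, 43, 1), (1, 51, 1), (2, 57, 3), (1, 26, 0), (1, 57, 4), (1, 40, 3), (1, 48, 3)]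
def cn : List (ℕ × ℕ × ℕ) := [(1, 68, 0), (1, 69, 0), (1, 70, 0), (1, 71, 0), (1, 72, 0), (1, 73, 0), (1, 74, 0), (1, 75, 0), (1, 76, 0), (1, 61, 2), (1, 61, 0), (2, 63, 1), (1, 53, 0), (0, 0, 0), (0, 0, 0), (0, 0, 0), (0, 0, 0), (1, 63, 3), (0, 0, 0), (1, 63, 0), (1, 11, 2), (1, 20, 2), (1, 24, 2), (1, 60, 2), (2, 11, 1), (2, 11, 2), (1, 24, 0), (1, 51, 3), (2, 58, 3), (1, 27, 0), (1, 58, 2), (2, 58, 1), (1, 28, 1), (1, 29, 0), (1, 27, 2), (1, 62, 2), (1, 62, 0), (2, 35, 1), (2, 52, 4), (1, 36, 1), (2, 33, 4), (1, 35, 4), (1, 20, 0), (1, 33, 3), (1, 63, 1), (1, 64, 1), (1, 21, 0), (1, 16, 2), (1, 18, 0), (1, 12, 2), (1, 14, 0), (1, 12, 0), (1, 13, 2), (1, 13, 0), (1, 14, 2), (1, 16, 0), (2, 18, 1), (1, 30, 0), (1, 20, 3), (1, 45, 3), (1, 34, 3), (1, 63, 2), (2, 11,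 0), (1, 14, 1), (1, 16, 1), (1, 21, 2), (1, 12, 3), (1, 14, 3), (1, 34, 2), (1, 36, 3), (1, 34, 4), (1, 64, 0), (2, 53, 4), (2, 34, 0), (2, 35, 0), (2, 36, 0), (2, 63, 0), (1, 25, 0), (1, 36, 2), (1, 39, 4), (2, 38, 2), (1, 13, 3), (2, 34, 3), (1, 22, 1), (1, 23, 1), (2, 53, 0), (1, 41, 0), (0, 0, 0), (0, 0, 0), (2, 44, 4), (0, 0, 0), (1, 35, 2), (1, 44, 4), (1, 35, 0), (1, 24, 3), (2, 51, 2), (1, 26, 1), (2, 59, 1), (1, 61, 3), (1, 24, 1), (1, 39, 0), (2, 36, 3), (1, 21, 3), (1, 19, 1), (1, 20, 1), (1, 21, 1), (1, 62, 1), (1, 11, 0), (1, 17, 1), (1, 18, 1), (2, 10, 0), (1, 16, 3), (1, 17, 3), (2, 18, 0), (1, 15, 1), (1, 15, 3), (1, 12, 1), (1, 13, 1), (1, 53, 4), (2, 34, 1), (1, 52, 3), (1, 34, 0), (1, 37, 2), (1, 38, 2), (1, 61, 1), (1, 39, 3), (1, 11, 1), (1, 36,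 0), (1, 33, 1), (1, 37, 1), (2, 38, 0), (2, 39, 0), (1, 33, 2), (2, 63, 2), (1, 29, 2), (2, 41, 3), (2, 42, 2), (1, 62, 3), (2, 44, 0), (1, 60, 3), (2, 41, 0), (1, 58, 4), (1, 40, 1), (2, 60, 1), (1, 32, 1), (1, 59, 1), (2, 59, 0), (1, 25, 1), (1, 40, 2), (1, 59, 0), (1, 42, 3), (2, 32, 2), (1, 63, 4), (1, 48, 1), (1, 27, 3), (2, 36, 1), (2, 35, 3), (2, 63, 3), (1, 43, 1), (1, 38, 1), (2, 32, 4), (1, 32, 3), (1, 51, 2), (2, 31, 0), (1, 45, 4), (1, 31, 3), (1, 15, 2), (1, 15, 0), (1, 38, 0), (2, 31, 2), (1, 31, 0), (1, 44, 0), (1, 31, 4), (1, 60, 5), (1, 35, 1), (1, 44, 3), (1, 54, 0), (2, 60, 2), (1, 45, 0), (1, 67, 2), (2, 67, 3), (1, 55, 0), (2, 53, 1), (1, 10, 0), (1, 41, 3), (1, 42, 2), (2, 67, 2), (1, 47, 1), (1, 49, 1), (2, 45, 4), (1, 28, 0), (2, 39, 1), (2,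 38, 4), (2, 34, 2), (1, 17, 2), (1, 37, 3), (1, 43, 3), (1, 67, 4), (1, 65, 0), (1, 65, 1), (1, 60, 4), (1, 37, 0), (2, 41, 4), (1, 46, 0), (1, 30, 1), (1, 38, 3), (2, 52, 2), (1, 23, 0), (2, 58, 0), (2, 60, 5), (1, 46, 4), (2, 50, 4), (1, 54, 2), (1, 60, 6), (1, 40, 0), (2, 38, 1), (2, 60, 0), (1, 67, 3), (1, 27, 1), (2, 67, 1), (1, 29, 1), (2, 37, 4), (1, 39, 1), (1, 49, 3), (2, 53, 2), (2, 39, 4), (2, 49, 4), (1, 46, 1), (2, 55, 0), (1, 50, 0), (1, 34, 1), (2, 38, 3), (2, 45, 0), (1, 52, 2), (2, 47, 4), (2, 40, 2), (2, 41, 2), (1, 19, 0), (1, 22, 0), (2, 43, 4), (2, 47, 1), (2, 46, 0), (1, 47, 2), (2, 54, 0), (1, 55, 2), (2, 55, 2), (1, 60, 1), (1, 54, 4), (1, 17, 0), (1, 55, 4), (2, 31, 1), (1, 29, 3), (2, 39, 2), (1, 67, 0), (2, 66, 0), (1, 47, 3), (1, 44, 2),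 (1, 36, 4), (2, 54, 4), (1, 35, 3), (2, 60, 3), (1, 53, 2), (2, 55, 4), (1, 50, 2), (1, 53, 3), (1, 46, 2), (1, 32, 2), (2, 36, 2), (2, 32, 3), (2, 34, 4), (1, 41, 4), (2, 60, 4), (2, 55, 3), (2, 44, 2), (2, 46, 4), (1, 51, 0), (2, 46, 2), (2, 45, 2), (2, 54, 2), (2, 33, 1), (1, 39, 2), (2, 49, 1), (2, 67, 0), (1, 42, 0), (2, 40, 4), (2, 37, 2), (1, 56, 2), (1, 49, 0), (1, 66, 0), (1, 41, 2), (0, 0, 0), (2, 63, 4), (2, 44, 1), (2, 35, 2), (0, 0, 0), (0, 0, 0), (2, 43, 3), (2, 46, 1), (1, 33, 0), (2, 54, 3), (1, 47, 0), (1, 48, 2), (2, 48, 4), (2, 46, 3), (0, 0, 0), (1, 66, 1), (1, 55, 1), (1, 26, 0), (2, 67, 4), (2, 51, 0), (1, 66, 2), (2, 37, 0), (2, 60, 6), (2, 66, 1), (2, 66, 2), (2, 37, 3), (1, 58, 0), (2, 50, 0), (2, 32, 0), (1, 32, 4), (1, 67, 1), (1, 51, 4),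 (2, 47, 2), (1, 60, 0), (1, 58, 1), (2, 42, 0), (2, 43, 1), (1, 58, 3), (2, 52, 1), (2, 58, 4), (2, 56, 4), (1, 48, 3), (2, 43, 2), (1, 52, 4), (1, 57, 1), (1, 42, 4), (1, 50, 3), (2, 40, 0), (1, 48, 0)]
noncomputable def rT : Tr := (.node (.node (.node (.node (.node (.node (.node rT0
 rT1)
 (.node rT2
 rT3))
 (.node (.node rT4
 rT5)
 (.node rT6
 rT7)))
 (.node (.node (.node rT8
 rT9)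
 (.node rT10
 rT11))
 (.node (.node rT12
 rT13)
 (.node rT14
 rT15))))
 (.node (.node (.node (.node rT16
 rT17)
 (.node rT18
 rT19))
 (.node (.node rT20
 rT21)
 (.node rT22
 rT23)))
 (.node (.node (.node rT24
 rT25)
 (.node rT26
 rT27))
 (.node (.node rT28
 rT29)
 (.node rT30
 rT31)))))
 (.node (.node (.node (.node (.node rT32
 rT33)
 (.node rT34
 rT35))
 (.node (.node rT36
 rT37)
 (.node rT38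
 rT39)))
 (.node (.node (.node rT40
 rT41)
 (.node rT42
 rT43))
 (.node (.node rT44
 rT45)
 (.node rT46
 rT47))))
 (.node (.node (.node (.node rT48
 rT49)
 (.node rT50
 rT51))
 (.node (.node rT52
 rT53)
 (.node rT54
 rT55)))
 (.node (.node (.node rT56
 rT57)
 (.node rT58
 rT59))
 (.node (.node rT60
 rT61)
 (.node rT62
 rT63))))))
 (.node (.node (.node (.node (.node (.node rT64
 rT65)
 (.node rT66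
 rT67))
 (.node (.node rT68
 rT69)
 (.node rT70
 rT71)))
 (.node (.node (.node rT72
 rT73)
 (.node rT74
 rT75))
 (.node (.node rT76
 (.leaf (nat_lit 0)))
 (.leaf (nat_lit 0)))))
 (.leaf (nat_lit 0)))
 (.leaf (nat_lit 0))))
noncomputable def gT : Tr := (.node (.node (.node (.node (.node (.node (.node (.node gT0
 gT1)
 (.node gT2
 gT3))
 (.node (.node gT4
 gT5)
 (.node gT6
 gT7)))
 (.node (.node (.node gT8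
 gT9)
 (.node gT10
 gT11))
 (.node (.node gT12
 gT13)
 (.node gT14
 gT15))))
 (.node (.node (.node (.node gT16
 gT17)
 (.node gT18
 gT19))
 (.node (.node gT20
 gT21)
 (.node gT22
 gT23)))
 (.node (.node (.node gT24
 gT25)
 (.node gT26
 gT27))
 (.node (.node gT28
 gT29)
 (.node gT30
 gT31)))))
 (.node (.node (.node (.node (.node gT32
 gT33)
 (.node gT34
 gT35))
 (.node (.node gT36
 gT37)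
 (.node gT38
 gT39)))
 (.node (.node (.node gT40
 gT41)
 (.node gT42
 gT43))
 (.node (.node gT44
 gT45)
 (.node gT46
 gT47))))
 (.node (.node (.node (.node gT48
 gT49)
 (.node gT50
 gT51))
 (.node (.node gT52
 gT53)
 (.node gT54
 gT55)))
 (.node (.node (.node gT56
 gT57)
 (.node gT58
 gT59))
 (.node (.node gT60
 gT61)
 (.node gT62
 gT63))))))
 (.node (.node (.node (.node (.node (.node gT64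
 gT65)
 (.node gT66
 gT67))
 (.node (.node gT68
 gT69)
 (.node gT70
 gT71)))
 (.node (.node (.node gT72
 gT73)
 (.node gT74
 gT75))
 (.node (.node gT76
 gT77)
 (.node gT78
 gT79))))
 (.node (.node (.node (.node gT80
 gT81)
 (.node gT82
 gT83))
 (.node (.node gT84
 gT85)
 (.node gT86
 gT87)))
 (.node (.node (.node gT88
 gT89)
 (.node gT90
 gT91))
 (.node (.node gT92
 gT93)
 (.node gT94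
 gT95)))))
 (.node (.node (.node (.node (.node gT96
 gT97)
 (.node gT98
 gT99))
 (.node (.node gT100
 gT101)
 (.node gT102
 gT103)))
 (.node (.node (.node gT104
 gT105)
 (.node gT106
 gT107))
 (.node (.node gT108
 gT109)
 (.node gT110
 gT111))))
 (.node (.node (.node (.node gT112
 gT113)
 (.node gT114
 gT115))
 (.node (.node gT116
 gT117)
 (.node gT118
 gT119)))
 (.node (.node (.node gT120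
 gT121)
 (.node gT122
 gT123))
 (.node (.node gT124
 gT125)
 (.node gT126
 gT127)))))))
 (.node (.node (.node (.node (.node (.node (.node gT128
 gT129)
 (.node gT130
 gT131))
 (.leaf (nat_lit 0)))
 (.leaf (nat_lit 0)))
 (.leaf (nat_lit 0)))
 (.leaf (nat_lit 0)))
 (.leaf (nat_lit 0))))
noncomputable def rC (i : ℕ) : ℕ := rT.get (nat_lit 4096) i
noncomputable def gC (i : ℕ) : ℕ := gT.get (nat_lit 8192) i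
noncomputable def row (p : ℕ) : ℕ := rec2 rC (nat_lit 4) (nat_lit 15) (nat_lit 338) (nat_lit 0x3ffffffffffffffffffffffffffffffffffffffffffffffffffffffffffffffffffffffffffffffffffff) p
noncomputable def gf (p : ℕ) : ℕ := rec2 gC (nat_lit 6) (nat_lit 63) (nat_lit 49) (nat_lit 0x1ffffffffffff) p
noncomputable def gw (c : ℕ) : List ℕ := nth [] Wr c
noncomputable def wn (c : ℕ) : ℕ := pack (nat_lit 5) (nth [] Wn c) (nat_lit 0)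
noncomputable def C : Cert :=
  { n := (nat_lit 78489), na := (nat_lit 103127), M := (nat_lit 536781), nc := (nat_lit 12), W := (nat_lit 18), EB := (nat_lit 26),
    LB := (nat_lit 5), nreg := (nat_lit 411), ivT := (nat_lit 0x77dbe6757c56d3a464f835cc5a548398a418440), base := (nat_lit 0x2aaaa000),
    row := row, gf := gf, gw := gw, wn := wn }
theorem masks : Masks C (nat_lit 262143) (nat_lit 0x3ffffff) (nat_lit 31) (nat_lit 41) (nat_lit 0x1ffffffffff) :=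
  ⟨by decide +kernel, by decide +kernel, by decide +kernel, by decide +kernel, by decide +kernel⟩
noncomputable def rchk : ℕ → ℕ → ℕ → Bool :=
  rowChk row gf gw (nat_lit 78489) (nat_lit 536781) (nat_lit 12) (nat_lit 18) (nat_lit 262143) (nat_lit 26) (nat_lit 0x3ffffff) (nat_lit 5) (nat_lit 31) (nat_lit 41) (nat_lit 0x1ffffffffff) (nat_lit 411) (nat_lit 0x77dbe6757c56d3a464f835cc5a548398a418440) (nat_lit 20) (nat_lit 0xfffff) (nat_lit 10) (nat_lit 1023)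
noncomputable def fchk : ℕ → ℕ → ℕ → Bool :=
  auxRun row gf wn (nat_lit 78489) (nat_lit 103127) (nat_lit 536781) (nat_lit 12) (nat_lit 18) (nat_lit 262143) (nat_lit 26) (nat_lit 0x3ffffff) (nat_lit 5) (nat_lit 31) (nat_lit 41) (nat_lit 0x77dbe6757c56d3a464f835cc5a548398a418440) (nat_lit 0x2aaaa000) (nat_lit 21) (nat_lit 0x1fffff)
theorem rows_of {lo hi : ℕ} {t : JL} (h : t.run rchk (nat_lit 120) hi lo = true) : C.RowsOK lo hi :=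
  rowsOK_of_run masks h
theorem facts_of {lo hi : ℕ} {t : JL} (h : t.run fchk (nat_lit 20) hi lo = true) : C.FactsOK lo hi :=
  factsOK_of_run masks h
theorem words_ok : wordsChk 78489 12 18 5 411 42767115045661965379907909210611758411018241088 715825152 R S Wr Wn cr cn = true := by
  decide +kernel

end Cfsg.Agent.H70.EJ3

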