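import Mathlib
import Cfsg.Agent.H71.FSDefs

/-!
Piece G4 of project FS2: the double induction.
-/

set_option autoImplicit false

namespace Cfsg.Agent.H70.FsG4

open Cfsg Subgroup Cfsg.Agent.H30 Cfsg.Agent.H71.FS2 QuadraticMap Module

universe u

section kit
variable {F V : Type u} [Field F] [AddCommGroup V] [Module F V] {Q : QuadraticForm F V}
  {X : Subgroup (O Q)} {T : Set V}

theorem add_self [CharP F 2] (v : V) : v + v = 0 := by
  rw [← two_smul F, CharTwo.two_eq_zero, zero_smul]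

theorem finO [Finite F] [FiniteDimensional F V] : Finite (O Q) := by
  have : Finite V := Module.finite_of_finite F
  have : Finite (V ≃ₗ[F] V) := Finite.of_injective _ DFunLike.coe_injective
  infer_instance

theorem DD_map {g : O Q} (h : ∀ x ∈ X, ∀ t ∈ T, ∃ x' ∈ X, g.1 (x.1 t) = x'.1 t) {d : V}
    (hd : d ∈ DD X T) : g.1 d ∈ DD X T := by
  induction hd using Submodule.span_induction with
  | mem v hv =>
    obtain ⟨x, hx, t, ht, rfl⟩ := hv
    obtain ⟨x', hx', e⟩ := h x hx t ht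
    exact Submodule.subset_span ⟨x', hx', t, ht, e⟩
  | zero => rw [map_zero]; exact zero_mem _
  | add a b _ _ ha hb => rw [map_add]; exact add_mem ha hb
  | smul c a _ ha => rw [map_smul]; exact Submodule.smul_mem _ c ha

theorem x_DD {x : O Q} (hx : x ∈ X) {d : V} (hd : d ∈ DD X T) : x.1 d ∈ DD X T :=
  DD_map (fun y hy _ _ => ⟨x * y, X.mul_mem hx hy, rfl⟩) hd

theorem gam_apply {k : O Q × ℤˣ} (hk : k ∈ Gam X T) {x : O Q} (hx : x ∈ X) (v : V) :
    k.1.1 (x.1 v) = (x ^ ((k.2 : ℤˣ) : ℤ)).1 (k.1.1 v) := by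
  rw [← (mem_Gam.1 hk).1 x hx, O_mul_apply, O_mul_apply, O_inv_apply]

theorem gam_DD {k : O Q × ℤˣ} (hk : k ∈ Gam X T) {d : V} (hd : d ∈ DD X T) :
    k.1.1 d ∈ DD X T :=
  DD_map (fun y hy t ht => ⟨_, X.zpow_mem hy ((k.2 : ℤˣ) : ℤ), by
    rw [gam_apply hk hy, (mem_Gam.1 hk).2 t ht]⟩) hd

theorem gam_perp [FiniteDimensional F V] {k : O Q × ℤˣ} (hk : k ∈ Gam X T) {d : V}
    (hd : d ∈ perp Q (DD X T)) : k.1.1 d ∈ perp Q (DD X T) :=
  perp_mem_of_forall_mem k.1 _ (fun _ h => gam_DD hk h) d hd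

theorem x_perp [FiniteDimensional F V] {x : O Q} (hx : x ∈ X) {d : V}
    (hd : d ∈ perp Q (DD X T)) : x.1 d ∈ perp Q (DD X T) :=
  perp_mem_of_forall_mem x _ (fun _ h => x_DD hx h) d hd

theorem gam_Fx {k : O Q × ℤˣ} (hk : k ∈ Gam X T) {v : V} (hv : v ∈ Fx X) : k.1.1 v ∈ Fx X := by
  intro x hx
  have h := gam_apply ((Gam X T).inv_mem hk) hx (k.1.1 v)
  rw [Prod.fst_inv, O_inv_apply, mem_Fx.1 hv _ (X.zpow_mem hx _), O_inv_apply_eq] at h
  exact h

theorem x_Fx {x : O Q} (hx : x ∈ X) {v : V} (hv : v ∈ Fx X) : x.1 v ∈ Fx X := by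
  rw [mem_Fx.1 hv x hx]; exact hv

theorem fix_of_sub (hB : Base X T) (g : O Q) {v : V} (hv : v ∈ perp Q (DD X T))
    (h1 : g.1 v - v ∈ DD X T) (h2 : g.1 v - v ∈ perp Q (DD X T)) : g.1 v = v := by
  rw [← sub_eq_zero]
  apply (hB.rad _ h1 h2).2
  have h3 := mem_perp.1 hv _ h1
  rw [polar_sub_left, polar_self'] at h3
  rw [Q_sub, O_map]
  linear_combination -h3

theorem gam_rad [FiniteDimensional F V] (hB : Base X T) {k : O Q × ℤˣ} (hk : k ∈ Gam X T) {y : V}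
    (h1 : y ∈ DD X T) (h2 : y ∈ perp Q (DD X T)) : k.1.1 y = y :=
  fix_of_sub hB k.1 h2 (sub_mem (gam_DD hk h1) h1) (sub_mem (gam_perp hk h2) h2)

theorem x_RR {x : O Q} (hx : x ∈ X) : (x.1 : V →ₗ[F] V) ∈ RR X :=
  Submodule.subset_span ⟨x, hx, rfl⟩

theorem RR_mem {U : Submodule F V} (hU : ∀ x ∈ X, ∀ u ∈ U, x.1 u ∈ U) {r : End F V}
    (hr : r ∈ RR X) {u : V} (hu : u ∈ U) : r u ∈ U := by
  induction hr using Submodule.span_induction with
  | mem s hs =>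
    obtain ⟨x, hx, rfl⟩ := hs
    exact hU x hx u hu
  | zero => exact zero_mem _
  | add a b _ _ ha hb => exact add_mem ha hb
  | smul c a _ ha => exact Submodule.smul_mem _ c ha

theorem RR_mul_x {r : End F V} (hr : r ∈ RR X) {x : O Q} (hx : x ∈ X) :
    r * (x.1 : V →ₗ[F] V) ∈ RR X := by
  induction hr using Submodule.span_induction with
  | mem s hs =>
    obtain ⟨y, hy, rfl⟩ := hs
    exact x_RR (X.mul_mem hy hx)
  | zero => rw [zero_mul]; exact zero_mem _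
  | add a b _ _ ha hb => rw [add_mul]; exact add_mem ha hb
  | smul c a _ ha => rw [smul_mul_assoc]; exact Submodule.smul_mem _ c ha

theorem exists_adj {r : End F V} (hr : r ∈ RR X) : ∃ r' : End F V, Adj Q r r' ∧
    ∀ k ∈ Gam X T, ∀ v, (k.2 = 1 → k.1.1 (r v) = r (k.1.1 v)) ∧
      (k.2 = -1 → k.1.1 (r v) = r' (k.1.1 v)) := by
  induction hr using Submodule.span_induction with
  | mem s hs =>
    obtain ⟨x, hx, rfl⟩ := hs
    refine ⟨((x⁻¹).1 : V →ₗ[F] V), fun a b => O_polar_inv x a b, fun k hk v => ⟨fun e => ?_, fun e => ?_⟩⟩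
    · have := gam_apply hk hx v
      rw [e, Units.val_one, zpow_one] at this
      exact this
    · have := gam_apply hk hx v
      rw [e, Units.val_neg, Units.val_one, zpow_neg, zpow_one] at this
      exact this
  | zero => exact ⟨0, fun a b => by simp, fun k _ v => by simp⟩
  | add a b _ _ ha hb =>
    obtain ⟨a', a1, a2⟩ := ha
    obtain ⟨b', b1, b2⟩ := hb
    refine ⟨a' + b', fun x y => ?_, fun k hk v => ⟨fun e => ?_, fun e => ?_⟩⟩
    · rw [LinearMap.add_apply, LinearMap.add_apply, polar_add_left, polar_add_right, a1, b1]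
    · rw [LinearMap.add_apply, LinearMap.add_apply, map_add, (a2 k hk v).1 e, (b2 k hk v).1 e]
    · rw [LinearMap.add_apply, LinearMap.add_apply, map_add, (a2 k hk v).2 e, (b2 k hk v).2 e]
  | smul c a _ ha =>
    obtain ⟨a', a1, a2⟩ := ha
    refine ⟨c • a', fun x y => ?_, fun k hk v => ⟨fun e => ?_, fun e => ?_⟩⟩
    · rw [LinearMap.smul_apply, LinearMap.smul_apply, polar_smul_left', polar_smul_right', a1]
    · rw [LinearMap.smul_apply, LinearMap.smul_apply, map_smul, (a2 k hk v).1 e]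
    · rw [LinearMap.smul_apply, LinearMap.smul_apply, map_smul, (a2 k hk v).2 e]

theorem gam_selfadj (hQ : (polarBilin Q).Nondegenerate) {s : End F V} (hs : s ∈ RR X)
    (ha : Adj Q s s) {k : O Q × ℤˣ} (hk : k ∈ Gam X T) (v : V) : k.1.1 (s v) = s (k.1.1 v) := by
  obtain ⟨s', h1, h2⟩ := exists_adj (T := T) hs
  rcases Int.units_eq_one_or k.2 with e | e
  · exact (h2 k hk v).1 e
  · rw [(h2 k hk v).2 e]
    apply eq_of_polar hQ
    intro y
    rw [polar_comm, ← h1, ha, polar_comm]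

theorem exists_RR_of_mem {w u : V} (hu : u ∈ DD X {w}) : ∃ r ∈ RR X, r w = u := by
  induction hu using Submodule.span_induction with
  | mem v hv =>
    obtain ⟨x, hx, t, ht, rfl⟩ := hv
    rw [Set.mem_singleton_iff.1 ht]
    exact ⟨_, x_RR hx, rfl⟩
  | zero => exact ⟨0, zero_mem _, rfl⟩
  | add a b _ _ ha hb =>
    obtain ⟨r, hr, rfl⟩ := ha
    obtain ⟨s, hs, rfl⟩ := hb
    exact ⟨r + s, add_mem hr hs, rfl⟩
  | smul c a _ ha =>
    obtain ⟨r, hr, rfl⟩ := ha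
    exact ⟨c • r, Submodule.smul_mem _ c hr, rfl⟩

theorem self_mem_DD {t : V} (ht : t ∈ T) : t ∈ DD X T :=
  Submodule.subset_span ⟨1, X.one_mem, t, ht, rfl⟩

theorem DD_le {U : Submodule F V} (hU : ∀ x ∈ X, ∀ t ∈ T, x.1 t ∈ U) : DD X T ≤ U :=
  Submodule.span_le.2 (by rintro _ ⟨x, hx, t, ht, rfl⟩; exact hU x hx t ht)

theorem exists_avg [CharP F 2] (ho : Odd (Nat.card X)) (v₀ : V) :
    ∃ v ∈ Fx X, ∀ u ∈ Fx X, polar Q v u = polar Q v₀ u := by
  have : Finite X := Nat.finite_of_card_ne_zero ho.pos.ne'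
  have := Fintype.ofFinite X
  refine ⟨∑ x : X, x.1.1 v₀, fun y hy => ?_, fun u hu => ?_⟩
  · rw [map_sum]
    exact Fintype.sum_equiv (Equiv.mulLeft (⟨y, hy⟩ : X)) _ _ fun x => rfl
  · rw [polar_sum_left]
    have : ∀ x : X, polar Q (x.1.1 v₀) u = polar Q v₀ u := fun x => by
      nth_rewrite 1 [← mem_Fx.1 hu x.1 x.2]
      exact O_polar _ _ _
    rw [Finset.sum_congr rfl fun x _ => this x, Finset.sum_const, Finset.card_univ,
      ← Nat.card_eq_fintype_card, nsmul_eq_mul]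
    obtain ⟨m, hm⟩ := ho
    rw [hm]
    push_cast
    rw [CharTwo.two_eq_zero, zero_mul, zero_add, one_mul]

theorem exists_fix_mod [Finite F] [CharP F 2] [FiniteDimensional F V] {P : Type*} [Group P]
    (hP : IsPGroup 2 P) (ρ : P →* (V ≃ₗ[F] V)) (R U : Submodule F V)
    (hR : ∀ p, ∀ v ∈ R, ρ p v ∈ R) (hU : ∀ p, ∀ v ∈ U, ρ p v ∈ U) (hne : ¬ U ≤ R) :
    ∃ v ∈ U, v ∉ R ∧ ∀ p, ρ p v - v ∈ R := by
  have : Finite V := Module.finite_of_finite F
  have : Finite (V ⧸ R) := Finite.of_surjective _ R.mkQ_surjective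
  let act : MulAction P (U.map R.mkQ) :=
    { smul := fun p a => ⟨R.mapQ R (ρ p : V →ₗ[F] V) (hR p) a.1, by
        obtain ⟨_, u, hu, rfl⟩ := a
        exact ⟨ρ p u, hU p u hu, rfl⟩⟩
      one_smul := by
        rintro ⟨_, u, hu, rfl⟩
        apply Subtype.ext
        show R.mkQ (ρ 1 u) = R.mkQ u
        rw [map_one]; rfl
      mul_smul := by
        rintro p q ⟨_, u, hu, rfl⟩
        apply Subtype.ext
        show R.mkQ (ρ (p * q) u) = R.mkQ (ρ p (ρ q u))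
        rw [map_mul]; rfl }
  obtain ⟨u₀, hu₀, hu₀'⟩ := SetLike.not_le_iff_exists.1 hne
  have : Fact (Nat.Prime 2) := ⟨Nat.prime_two⟩
  have h2 : 2 ∣ Nat.card (U.map R.mkQ) := by
    have h0 : (⟨R.mkQ u₀, u₀, hu₀, rfl⟩ : U.map R.mkQ) ≠ 0 := fun e =>
      hu₀' ((Submodule.Quotient.mk_eq_zero R).1 (congrArg Subtype.val e))
    rw [← addOrderOf_eq_prime (p := 2) (by rw [two_nsmul]; exact add_self (F := F) _) h0]
    exact addOrderOf_dvd_natCard _
  have h0 : (0 : U.map R.mkQ) ∈ MulAction.fixedPoints P (U.map R.mkQ) := fun p =>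
    Subtype.ext (map_zero (R.mapQ R (ρ p : V →ₗ[F] V) (hR p)))
  obtain ⟨⟨_, v, hv, rfl⟩, hb, hb0⟩ := hP.exists_fixed_point_of_prime_dvd_card_of_fixed_point _ h2 h0
  refine ⟨v, hv, fun e => hb0 (Subtype.ext ((Submodule.Quotient.mk_eq_zero R).2 e).symm),
    fun p => ?_⟩
  exact (Submodule.Quotient.eq R).1 (congrArg Subtype.val (hb p))

theorem nb_of_sq {G : Type u} [Group G] [Finite G] {π : G →* ℤˣ} {K : Subgroup G}
    (h : ∀ γ ∈ K, π γ = -1 → γ * γ = 1) : NB π K := by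
  intro ψ e
  obtain ⟨n, -, hn⟩ := H11.exists_pos_degree ψ.2
  have := Fintype.ofFinite {γ : G // γ ∈ K ∧ π γ = -1}
  have h1 : ∀ γ : {γ : G // γ ∈ K ∧ π γ = -1},
      ψ.1 ⟨γ * γ, mul_mem_ev γ.2.1 γ.2.1 rfl⟩ = (n : ℂ) := fun γ => by
    rw [← hn]
    exact congrArg ψ.1 (Subtype.ext (h γ.1 γ.2.1 γ.2.2))
  rw [eps, finsum_eq_sum_of_fintype, Finset.sum_congr rfl fun γ _ => h1 γ, Finset.sum_const,
    nsmul_eq_mul] at e
  have h0 : (Nat.card (ev π K) : ℂ) ≠ 0 := Nat.cast_ne_zero.2 Nat.card_pos.ne'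
  rw [inv_mul_eq_iff_eq_mul₀ h0, mul_neg_one, eq_neg_iff_add_eq_zero] at e
  have h2 : (Finset.univ : Finset {γ : G // γ ∈ K ∧ π γ = -1}).card * n + Nat.card (ev π K) = 0 := by
    exact_mod_cast e
  have := Nat.card_pos (α := ev π K)
  omega

theorem mem_Gam_insert {k : O Q × ℤˣ} {v : V} :
    k ∈ Gam X (insert v T) ↔ k ∈ Gam X T ∧ k.1.1 v = v := by
  simp only [mem_Gam, Set.forall_mem_insert]
  tauto

end kit

section main
variable {F V : Type u} [Field F] [Finite F] [CharP F 2] [AddCommGroup V] [Module F V]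
  [FiniteDimensional F V] {Q : QuadraticForm F V} {X : Subgroup (O Q)} {T : Set V}

/-- a block vector fixed by a `2`-subgroup -/
theorem exists_blk (hQ : (polarBilin Q).Nondegenerate) (hB : Base X T)
    {P : Subgroup (O Q × ℤˣ)} (hPK : P ≤ Gam X T) (hP : IsPGroup 2 P)
    (hW : ¬ perp Q (DD X T) ≤ Fx X) :
    ∃ w ∈ perp Q (DD X T), w ≠ 0 ∧ Blk X w ∧ ∀ p ∈ P, p.1.1 w = w := by
  classical
  let W₁ := perp Q (DD X T) ⊓ perp Q (Fx X)
  have xW : ∀ x ∈ X, ∀ u ∈ W₁, x.1 u ∈ W₁ := fun x hx u hu =>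
    ⟨x_perp hx hu.1, perp_mem_of_forall_mem x _ (fun _ h => x_Fx hx h) u hu.2⟩
  have kW : ∀ k ∈ Gam X T, ∀ u ∈ W₁, k.1.1 u ∈ W₁ := fun k hk u hu =>
    ⟨gam_perp hk hu.1, perp_mem_of_forall_mem k.1 _ (fun _ h => gam_Fx hk h) u hu.2⟩
  have hne : ¬ W₁ ≤ ⊥ := by
    intro h
    apply hW
    intro v hv x hx
    rw [← sub_eq_zero]
    refine (Submodule.mem_bot F).1 (h ⟨sub_mem (x_perp hx hv) hv, mem_perp'.2 fun u hu => ?_⟩)
    rw [polar_sub_left, sub_eq_zero]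
    nth_rewrite 1 [← mem_Fx.1 hu x hx]
    exact O_polar _ _ _
  have hex : ∃ n, ∃ w ∈ W₁, w ≠ 0 ∧ (∀ p ∈ P, p.1.1 w = w) ∧ finrank F (DD X {w}) = n := by
    obtain ⟨v, hv, hv0, hp⟩ := exists_fix_mod hP
      ((O Q).subtype.comp ((MonoidHom.fst _ _).comp P.subtype)) ⊥ W₁
      (fun p v hv => by rw [(Submodule.mem_bot F).1 hv, map_zero]; exact zero_mem _)
      (fun p v hv => kW p.1 (hPK p.2) v hv) hne
    exact ⟨_, v, hv, fun e => hv0 (e ▸ zero_mem _),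
      fun p h => sub_eq_zero.1 ((Submodule.mem_bot F).1 (hp ⟨p, h⟩)), rfl⟩
  obtain ⟨w, hw, hw0, hp, hn⟩ := Nat.find_spec hex
  have fld : ∀ s ∈ RR X, Adj Q s s → s w = 0 ∨ ∃ r ∈ RR X, r (s w) = w := by
    intro s hs ha
    by_cases h0 : s w = 0
    · exact Or.inl h0
    right
    have h1 : Nat.find hex ≤ finrank F (DD X {s w}) :=
      Nat.find_min' hex ⟨s w, RR_mem xW hs hw, h0,
        fun p h => by rw [gam_selfadj hQ hs ha (hPK h), hp p h], rfl⟩
    have h2 : DD X {s w} ≤ DD X {w} := DD_le fun x hx t ht => by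
      rw [Set.mem_singleton_iff.1 ht]
      exact x_DD hx (RR_mem (fun y hy u hu => x_DD hy hu) hs (self_mem_DD rfl))
    have h3 := Submodule.eq_of_le_of_finrank_le h2 (hn.trans_le h1)
    exact exists_RR_of_mem (h3 ▸ self_mem_DD rfl)
  refine ⟨w, hw.1, hw0, ⟨?_, fld⟩, hp⟩
  have hF : w ∉ Fx X := fun h => hw0 (eq_zero_of_polar hQ fun y => by
    obtain ⟨v, hv, e⟩ := exists_avg hB.odd y
    rw [polar_comm, ← e w h]
    exact mem_perp.1 hw.2 v hv)
  obtain ⟨x, hx, hxw⟩ : ∃ x ∈ X, x.1 w ≠ w := by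
    by_contra h
    push Not at h
    exact hF h
  have ha : Adj Q ((x.1 : V →ₗ[F] V) + ((x⁻¹).1 : V →ₗ[F] V))
      ((x.1 : V →ₗ[F] V) + ((x⁻¹).1 : V →ₗ[F] V)) := fun a b => by
    show polar Q (x.1 a + (x⁻¹).1 a) b = polar Q a (x.1 b + (x⁻¹).1 b)
    rw [polar_add_left, polar_add_right, O_polar_inv, O_polar_inv, inv_inv, add_comm]
  rcases fld _ (add_mem (x_RR hx) (x_RR (X.inv_mem hx))) ha with h | ⟨r, hr, e⟩
  · exfalso
    have h1 : (x⁻¹).1 w = x.1 w := by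
      have h' : x.1 w + (x⁻¹).1 w = 0 := h
      rw [← add_self (F := F) (x.1 w)] at h'
      exact add_left_cancel h'
    have h2 : (x * x).1 w = w := (O_inv_apply_eq.1 h1).symm
    have h3 : ∀ m : ℕ, ((x * x) ^ m).1 w = w := by
      intro m
      induction m with
      | zero => rfl
      | succ m ih => rw [pow_succ, O_mul_apply, h2, ih]
    obtain ⟨m, hm⟩ := hB.odd
    have h4 : x ^ Nat.card X = 1 := by
      have := pow_card_eq_one' (x := (⟨x, hx⟩ : X))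
      exact congrArg Subtype.val this
    have h5 := h3 (m + 1)
    rw [← pow_two, ← pow_mul, mul_add, mul_one, pow_succ, ← hm, h4, one_mul] at h5
    exact hxw h5
  · refine ⟨x, hx, r + r * ((x⁻¹).1 : V →ₗ[F] V), add_mem hr (RR_mul_x hr (X.inv_mem hx)), ?_⟩
    have e' : r (x.1 w + (x⁻¹).1 w) = w := e
    show r (w + x.1 w) + r ((x⁻¹).1 (w + x.1 w)) = w
    rw [← map_add, map_add (x⁻¹).1, O_inv_apply]
    have : w + x.1 w + ((x⁻¹).1 w + w) = x.1 w + (x⁻¹).1 w + (w + w) := by abel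
    rw [this, add_self (F := F), add_zero, e']

/-- the `2`-subgroups -/
theorem two_case (hr : REFL.{u}) (hf : PF.{u}) (hu : PU.{u}) (hQ : (polarBilin Q).Nondegenerate)
    (hB : Base X T) (ih : IH X T) {P : Subgroup (O Q × ℤˣ)} (hPK : P ≤ Gam X T)
    (hP : IsPGroup 2 P) : ∃ M, P ≤ M ∧ M ≤ Gam X T ∧ NB (pr Q) M := by
  have := finO (Q := Q)
  by_cases h1 : perp Q (DD X T) ≤ Fx X
  swap
  · obtain ⟨w, hw, hw0, hb, hp⟩ := exists_blk hQ hB hPK hP h1
    exact ⟨_, fun p h => mem_Gam_insert.2 ⟨hPK h, hp p h⟩, fun k hk => (mem_Gam_insert.1 hk).1,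
      hu hQ X T w hB hw hb hw0 ih⟩
  by_cases h2 : perp Q (DD X T) ≤ DD X T
  swap
  · obtain ⟨v, hv, hv0, hp⟩ := exists_fix_mod hP
      ((O Q).subtype.comp ((MonoidHom.fst _ _).comp P.subtype)) (DD X T) (perp Q (DD X T))
      (fun p v hv => gam_DD (hPK p.2) hv) (fun p v hv => gam_perp (hPK p.2) hv) h2
    exact ⟨_, fun p h => mem_Gam_insert.2 ⟨hPK h, fix_of_sub hB p.1 hv (hp ⟨p, h⟩)
      (sub_mem (gam_perp (hPK h) hv) hv)⟩, fun k hk => (mem_Gam_insert.1 hk).1,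
      hf hQ X T v hB hv (h1 hv) hv0 ih⟩
  refine ⟨_, hPK, le_rfl, ?_⟩
  by_cases h3 : perp Q (DD X T) = ⊥
  · have h4 : DD X T = ⊤ := by rw [← perp_perp hQ (DD X T), h3, perp_bot]
    apply nb_of_sq
    intro k hk ho
    refine Prod.ext (O_ext fun v => ?_) (Int.units_mul_self _)
    have hv : v ∈ DD X T := h4 ▸ Submodule.mem_top
    show k.1.1 (k.1.1 v) = v
    induction hv using Submodule.span_induction with
    | mem v hv =>
      obtain ⟨x, hx, t, ht, rfl⟩ := hv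
      rw [gam_apply hk hx, gam_apply hk (X.zpow_mem hx _), (mem_Gam.1 hk).2 t ht,
        (mem_Gam.1 hk).2 t ht, ← zpow_mul, ← Units.val_mul, Int.units_mul_self, Units.val_one,
        zpow_one]
    | zero => rw [map_zero, map_zero]
    | add a b _ _ ha hb => rw [map_add, map_add, ha, hb]
    | smul c a _ ha => rw [map_smul, map_smul, ha]
  · obtain ⟨w, hw, hw0⟩ := Submodule.exists_mem_ne_zero_of_ne_bot h3
    obtain ⟨y, hy⟩ := exists_polar_ne_zero hQ hw0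
    obtain ⟨v, hv, e⟩ := exists_avg hB.odd y
    obtain ⟨b1, b2, b3⟩ := hr hQ X T v w hB hv (h2 hw) hw (by rw [e w (h1 hw), polar_comm]; exact hy)
    refine b3 _ (fun l => ⟨fun hl => ⟨hl, ?_⟩, fun hl => hl.1⟩) (ih _ b1 b2).1
    rw [← perp_perp hQ (DD X T)]
    refine mem_perp'.2 fun u hu => ?_
    rw [polar_sub_left, sub_eq_zero]
    nth_rewrite 1 [← gam_rad hB hl (h2 hu) hu]
    exact O_polar _ _ _

omit [Finite F] [CharP F 2] in
/-- enlarging `X` by an odd commutative subgroup -/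
theorem odd_case (hB : Base X T) {C M : Subgroup (O Q × ℤˣ)} (hC : C ≤ ev (pr Q) (Gam X T))
    (hc : ∀ a ∈ C, ∀ b ∈ C, a * b = b * a) (ho : Odd (Nat.card C))
    (hM : ∀ h, h ∈ M ↔ h ∈ Gam X T ∧ ∀ c ∈ C, h * c * h⁻¹ = c ^ ((pr Q h : ℤˣ) : ℤ))
    [Finite (O Q)] : ∃ X' : Subgroup (O Q), DD X' T = DD X T ∧ Base X' T ∧ Gam X' T = M := by
  have c2 : ∀ c ∈ C, c.2 = 1 := fun c h => (mem_ev.1 (hC h)).2
  have cG : ∀ c ∈ C, c ∈ Gam X T := fun c h => (mem_ev.1 (hC h)).1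
  have cx : ∀ c ∈ C, ∀ x ∈ X, Commute x c.1 := fun c h x hx => by
    have := (mem_Gam.1 (cG c h)).1 x hx
    rw [c2 c h, Units.val_one, zpow_one, mul_inv_eq_iff_eq_mul] at this
    exact this.symm
  have cc : ∀ a ∈ C, ∀ b ∈ C, Commute a.1 b.1 := fun a ha b hb => congrArg Prod.fst (hc a ha b hb)
  let X' : Subgroup (O Q) :=
    { carrier := {g | ∃ x ∈ X, ∃ c ∈ C, g = x * c.1}
      one_mem' := ⟨1, X.one_mem, 1, C.one_mem, (mul_one _).symm⟩
      mul_mem' := by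
        rintro _ _ ⟨x, hx, c, hc, rfl⟩ ⟨y, hy, d, hd, rfl⟩
        refine ⟨x * y, X.mul_mem hx hy, c * d, C.mul_mem hc hd, ?_⟩
        rw [Prod.fst_mul, mul_assoc, mul_assoc, ← mul_assoc c.1, ← (cx c hc y hy).eq, mul_assoc]
      inv_mem' := by
        rintro _ ⟨x, hx, c, hc, rfl⟩
        refine ⟨x⁻¹, X.inv_mem hx, c⁻¹, C.inv_mem hc, ?_⟩
        rw [(cx c hc x hx).eq, mul_inv_rev, Prod.fst_inv] }
  have mX : ∀ {g}, g ∈ X' ↔ ∃ x ∈ X, ∃ c ∈ C, g = x * c.1 := Iff.rfl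
  have XX : X ≤ X' := fun x hx => mX.2 ⟨x, hx, 1, C.one_mem, (mul_one _).symm⟩
  have eD : DD X' T = DD X T := by
    refine le_antisymm (DD_le fun g hg t ht => ?_) (DD_le fun x hx t ht =>
      x_DD (XX hx) (self_mem_DD ht))
    obtain ⟨x, hx, c, hc, rfl⟩ := mX.1 hg
    rw [O_mul_apply, (mem_Gam.1 (cG c hc)).2 t ht]
    exact x_DD hx (self_mem_DD ht)
  refine ⟨X', eD, ⟨?_, ?_, ?_⟩, ?_⟩
  · intro a ha b hb
    obtain ⟨x, hx, c, hc, rfl⟩ := mX.1 ha
    obtain ⟨y, hy, d, hd, rfl⟩ := mX.1 hb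
    exact (Commute.mul_left (Commute.mul_right (hB.comm x hx y hy) (cx d hd x hx))
      (Commute.mul_right (cx c hc y hy).symm (cc c hc d hd))).eq
  · rw [← Nat.not_even_iff_odd, even_iff_two_dvd]
    intro h2
    have : Fact (Nat.Prime 2) := ⟨Nat.prime_two⟩
    obtain ⟨⟨g, hg⟩, e⟩ := exists_prime_orderOf_dvd_card' 2 h2
    rw [← Subgroup.orderOf_coe] at e
    obtain ⟨x, hx, c, hc, rfl⟩ := mX.1 hg
    have h4 : x ^ Nat.card X = 1 := congrArg Subtype.val (pow_card_eq_one' (x := (⟨x, hx⟩ : X)))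
    have h5 : c.1 ^ Nat.card C = 1 :=
      congrArg (fun z : C => z.1.1) (pow_card_eq_one' (x := (⟨c, hc⟩ : C)))
    have h6 : (x * c.1) ^ (Nat.card X * Nat.card C) = 1 := by
      rw [(cx c hc x hx).mul_pow, pow_mul, h4, one_pow, one_mul, mul_comm, pow_mul, h5, one_pow]
    have h7 := orderOf_dvd_of_pow_eq_one h6
    rw [e] at h7
    exact Nat.not_even_iff_odd.2 (hB.odd.mul ho) (even_iff_two_dvd.2 h7)
  · rw [eD]
    intro d h1 h2
    refine ⟨fun g hg => ?_, (hB.rad d h1 h2).2⟩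
    obtain ⟨x, hx, c, hc, rfl⟩ := mX.1 hg
    rw [O_mul_apply, gam_rad hB (cG c hc) h1 h2, mem_Fx.1 (hB.rad d h1 h2).1 x hx]
  · ext k
    rw [hM, mem_Gam, mem_Gam]
    constructor
    · rintro ⟨a, b⟩
      refine ⟨⟨fun x hx => a x (XX hx), b⟩, fun c hc => Prod.ext ?_ ?_⟩
      · exact a c.1 (mX.2 ⟨1, X.one_mem, c, hc, (one_mul _).symm⟩)
      · show k.2 * c.2 * k.2⁻¹ = c.2 ^ _
        rw [c2 c hc, one_zpow, mul_one, mul_inv_cancel]
    · rintro ⟨⟨a, b⟩, a'⟩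
      refine ⟨fun g hg => ?_, b⟩
      obtain ⟨x, hx, c, hc, rfl⟩ := mX.1 hg
      have e : k.1 * c.1 * k.1⁻¹ = c.1 ^ ((k.2 : ℤˣ) : ℤ) := congrArg Prod.fst (a' c hc)
      rw [(cx c hc x hx).mul_zpow, ← a x hx, ← e]
      group

theorem step (ha : PA.{u}) (hr : REFL.{u}) (hf : PF.{u}) (hu : PU.{u})
    (hQ : (polarBilin Q).Nondegenerate) {D : Submodule F V}
    (ih : ∀ (X : Subgroup (O Q)) (T : Set V), DD X T = D → IH X T) (n : ℕ) :
    ∀ (X : Subgroup (O Q)) (T : Set V), Nat.card (Gam X T) = n → DD X T = D → Base X T →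
      NB (pr Q) (Gam X T) := by
  have := finO (Q := Q)
  induction n using Nat.strong_induction_on with
  | _ n ihn =>
    intro X T hn hD hB
    refine ha (pr Q) _ (fun P hPK hP _ => two_case hr hf hu hQ hB (ih X T hD) hPK hP)
      fun C M hC hc ho hM hne => ?_
    obtain ⟨X', e1, e2, rfl⟩ := odd_case hB hC hc ho hM
    refine ihn _ ?_ X' T rfl (e1.trans hD) e2
    rw [← hn]
    by_contra hlt
    exact hne (Subgroup.eq_of_le_of_card_ge (fun h hh => ((hM h).1 hh).1) (not_lt.1 hlt))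

end main

theorem main (ha : PA.{u}) (hr : REFL.{u}) (hf : PF.{u}) (hu : PU.{u}) : MAIN.{u} := by
  intro F V _ _ _ _ _ _ Q hQ
  have key : ∀ (D : Submodule F V) (X : Subgroup (O Q)) (T : Set V), DD X T = D → Base X T →
      NB (pr Q) (Gam X T) ∧ ∀ y, Vec X T y → NB (pr Q) (Gam X (insert y T)) := by
    intro D
    induction D using WellFoundedGT.induction with
    | _ D ihD =>
      have ih : ∀ (X : Subgroup (O Q)) (T : Set V), DD X T = D → IH X T :=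
        fun X T e T' hB hlt => ihD _ (e ▸ hlt) X T' rfl hB
      intro X T hD hB
      have h1 := step ha hr hf hu hQ ih _ X T rfl hD hB
      refine ⟨h1, fun y hy => ?_⟩
      by_cases hyD : y ∈ DD X T
      · have : Gam X (insert y T) = Gam X T := by
          ext k
          rw [mem_Gam_insert]
          exact ⟨fun h => h.1, fun h => ⟨h, gam_rad hB h hyD hy.1⟩⟩
        rw [this]
        exact h1
      · rcases hy.2 with h | h
        · exact hf hQ X T y hB hy.1 h hyD (ih X T hD)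
        · exact hu hQ X T y hB hy.1 h (fun e => hyD (e ▸ zero_mem _)) (ih X T hD)
  exact fun X T hB => (key _ X T rfl hB).1

end Cfsg.Agent.H70.FsG4
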