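import Cfsg.Agent.H78.G40B
import Cfsg.Agent.S0245
import Cfsg.Agent.S0270

/-! Project L40G, piece FZ2A. -/

set_option autoImplicit false

noncomputable section

namespace Cfsg.Agent.H70.G40Fz2a

open Subgroup Matrix Cfsg.Agent.H78.G40 Cfsg.Agent.H46.L40

abbrev I2 := Fin 2 ⊕ Fin 2
abbrev I1 := Fin 1 ⊕ Fin 1
abbrev I3 := Fin 3 ⊕ Fin 3
abbrev Sp4 := symplecticGroup (Fin 2) (ZMod 3)

def ε : I3 ≃ I2 ⊕ I1 where
  toFun := Sum.elim ![.inl (.inl 0), .inl (.inl 1), .inr (.inl 0)]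
    ![.inl (.inr 0), .inl (.inr 1), .inr (.inr 0)]
  invFun := Sum.elim (Sum.map Fin.castSucc Fin.castSucc) (Sum.map (fun _ => 2) (fun _ => 2))
  left_inv := by decide
  right_inv := by decide

def blk (A : Matrix I2 I2 (ZMod 3)) (D : Matrix I1 I1 (ZMod 3)) : Matrix I3 I3 (ZMod 3) :=
  (fromBlocks A 0 0 D).submatrix ε ε

theorem blk_mul (A A' : Matrix I2 I2 (ZMod 3)) (D D' : Matrix I1 I1 (ZMod 3)) :
    blk A D * blk A' D' = blk (A * A') (D * D') := by
  simp [blk, submatrix_mul_equiv, fromBlocks_multiply]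

theorem blk_tr (A : Matrix I2 I2 (ZMod 3)) (D : Matrix I1 I1 (ZMod 3)) :
    (blk A D)ᵀ = blk Aᵀ Dᵀ := by
  simp [blk, transpose_submatrix, fromBlocks_transpose]

theorem sub_inj {M N : Matrix (I2 ⊕ I1) (I2 ⊕ I1) (ZMod 3)} (h : M.submatrix ε ε = N.submatrix ε ε) :
    M = N := (Matrix.reindex ε.symm ε.symm).injective h

theorem blk_inj {A A' : Matrix I2 I2 (ZMod 3)} {D D' : Matrix I1 I1 (ZMod 3)}
    (h : blk A D = blk A' D') : A = A' ∧ D = D' := by
  have := fromBlocks_inj.1 (sub_inj h)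
  exact ⟨this.1, this.2.2.2⟩

theorem blk_J : J (Fin 3) (ZMod 3) = blk (J (Fin 2) (ZMod 3)) (J (Fin 1) (ZMod 3)) := by decide
theorem blk_one : blk 1 1 = 1 := by decide
theorem blk_neg : blk (-1) (-1) = -1 := by decide

def ι : Sp4 →* Sp6 where
  toFun g := ⟨blk g.1 1, by
    have h : g.1 * J (Fin 2) (ZMod 3) * g.1ᵀ = J (Fin 2) (ZMod 3) := g.2
    change _ * J (Fin 3) (ZMod 3) * _ = J (Fin 3) (ZMod 3)
    rw [blk_J, blk_tr, blk_mul, blk_mul, h]
    simp⟩
  map_one' := Subtype.ext blk_one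
  map_mul' g h := Subtype.ext (by
    change blk (g.1 * h.1) 1 = blk g.1 1 * blk h.1 1
    rw [blk_mul, mul_one])

def ψ : Sp4 →* X2 := mk2.comp ι

theorem ψ_inj : Function.Injective ψ := by
  rw [injective_iff_map_eq_one]
  intro g hg
  have : mk2 (ι g) = mk2 1 := hg
  rcases (mk2_eq _ _).1 this with h | h
  · exact Subtype.ext (blk_inj (h.trans blk_one.symm)).1
  · exact absurd (blk_inj (h.trans blk_neg.symm)).2 (by decide)

def m4 : Sp4 := ⟨-1, by
  change _ * J (Fin 2) (ZMod 3) * _ = J (Fin 2) (ZMod 3)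
  decide⟩

def a4 : Sp4 := ⟨fromBlocks !![2, 0; 0, 1] 0 0 !![2, 0; 0, 1], by
  change _ * J (Fin 2) (ZMod 3) * _ = J (Fin 2) (ZMod 3)
  decide⟩

theorem ι_m4 : ι m4 = E2 z0 := Subtype.ext (by
  change blk (-1) 1 = fromBlocks z0.1 0 0 (tr z0).1
  decide +kernel)

theorem ψ_m4 : ψ m4 = e2 z0 := congrArg mk2 ι_m4

theorem ψ_a4 : ψ a4 = e2 a0 := (mk2_eq _ _).2 (Or.inr (by
  change blk (fromBlocks !![2, 0; 0, 1] 0 0 !![2, 0; 0, 1]) 1 = -fromBlocks a0.1 0 0 (tr a0).1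
  decide +kernel))

theorem m4_cen : m4 ∈ center Sp4 := mem_center_iff.2 fun g => Subtype.ext (by
  change g.1 * -1 = -1 * g.1; simp)

theorem card_cen : Nat.card (center Sp4) = 2 :=
  Cfsg.Agent.S0246.result (F := ZMod 3) (q := 3) (by simp) 2 (by norm_num)

theorem card_Sp4 : Nat.card Sp4 = 51840 := by
  have := Cfsg.Agent.S0245.result (F := ZMod 3) (q := 3) (by simp) 2
  exact this.trans (by decide)

theorem cen_eq : zpowers m4 = center Sp4 := by
  have : Finite Sp4 := Nat.finite_of_card_ne_zero (by rw [card_Sp4]; norm_num)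
  refine eq_of_le_of_card_ge ((zpowers_le (H := center Sp4)).2 m4_cen) ?_
  rw [card_cen, Nat.card_zpowers]
  have h1 : m4 ≠ 1 := fun e => absurd (congrArg Subtype.val e) (by
    change ¬ ((-1 : Matrix I2 I2 (ZMod 3)) = 1)
    decide)
  have h2 := orderOf_pos m4
  have h3 : orderOf m4 ≠ 1 := fun e => h1 (orderOf_eq_one_iff.1 e)
  omega

theorem card_W : Nat.card (PSp 2 (ZMod 3)) = 25920 := by
  have := (center Sp4).card_mul_index
  rw [card_cen, card_Sp4, index] at this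
  change Nat.card (Sp4 ⧸ center Sp4) = _
  omega

theorem shape (g : Sp6) (h : mk2 g * e2 z0 = e2 z0 * mk2 g) :
    ∃ (A : Sp4) (D : Matrix I1 I1 (ZMod 3)), g.1 = blk A.1 D := by
  rw [← ψ_m4] at h
  have h' : mk2 (g * ι m4) = mk2 (ι m4 * g) := by rw [map_mul, map_mul]; exact h
  have hz : (ι m4).1 = blk (-1) 1 := rfl
  rcases (mk2_eq _ _).1 h' with e | e
  · change g.1 * blk (-1) 1 = blk (-1) 1 * g.1 at e
    obtain ⟨M, hM⟩ : ∃ M : Matrix (I2 ⊕ I1) (I2 ⊕ I1) (ZMod 3), g.1 = M.submatrix ε ε :=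
      ⟨g.1.submatrix ε.symm ε.symm, by simp⟩
    rw [hM, blk, submatrix_mul_equiv, submatrix_mul_equiv] at e
    have e' := sub_inj e
    rw [← fromBlocks_toBlocks M, fromBlocks_multiply, fromBlocks_multiply] at e'
    simp only [Matrix.mul_neg, Matrix.neg_mul, Matrix.mul_one, Matrix.one_mul, Matrix.mul_zero,
      Matrix.zero_mul, add_zero, zero_add] at e'
    obtain ⟨-, e1, e2, -⟩ := fromBlocks_inj.1 e'
    have k : ∀ a : ZMod 3, a = -a → a = 0 := by decide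
    have hB : M.toBlocks₁₂ = 0 := by
      ext i j
      exact k _ (congrFun (congrFun e1 i) j)
    have hC : M.toBlocks₂₁ = 0 := by
      ext i j
      exact k _ (congrFun (congrFun e2.symm i) j)
    have hg : g.1 = blk M.toBlocks₁₁ M.toBlocks₂₂ := by
      rw [hM, blk, ← hB, ← hC, fromBlocks_toBlocks]
    have hs : g.1 * J (Fin 3) (ZMod 3) * g.1ᵀ = J (Fin 3) (ZMod 3) := g.2
    rw [hg, blk_J, blk_tr, blk_mul, blk_mul] at hs
    exact ⟨⟨M.toBlocks₁₁, (blk_inj hs).1⟩, _, hg⟩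
  · exfalso
    change g.1 * blk (-1) 1 = -(blk (-1) 1 * g.1) at e
    have k1 : g.1 * (g⁻¹).1 = 1 := congrArg Subtype.val (mul_inv_cancel g)
    have k2 : (g⁻¹).1 * g.1 = 1 := congrArg Subtype.val (inv_mul_cancel g)
    have t1 : trace (g.1 * blk (-1) 1 * (g⁻¹).1) = trace (blk (-1) 1) := by
      rw [trace_mul_comm, ← mul_assoc, k2, one_mul]
    rw [e, neg_mul, mul_assoc, k1, mul_one] at t1
    exact absurd t1 (by decide)

theorem x : Fz2aS := by
  have nrm : ∀ c ∈ Cz (e2 z0), ∀ y ∈ ψ.range, c * y * c⁻¹ ∈ ψ.range := by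
    rintro c hc _ ⟨h, rfl⟩
    obtain ⟨g, rfl⟩ := QuotientGroup.mk'_surjective _ c
    obtain ⟨A, D, hg⟩ := shape g (mem_centralizer_singleton_iff.1 hc)
    refine ⟨A * h * A⁻¹, ?_⟩
    rw [eq_mul_inv_iff_mul_eq]
    change mk2 (ι (A * h * A⁻¹)) * mk2 g = mk2 g * mk2 (ι h)
    rw [← map_mul, ← map_mul]
    congr 1
    apply Subtype.ext
    change blk (A * h * A⁻¹).1 1 * g.1 = g.1 * blk h.1 1
    have k : (A * h * A⁻¹).1 * A.1 = A.1 * h.1 := congrArg Subtype.val (inv_mul_cancel_right (A * h) A)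
    rw [hg, blk_mul, blk_mul, k, one_mul, mul_one]
  have hs : IsSimpleGroup (PSp 2 (ZMod 3)) := S0270.result 2 le_rfl fun _ => by simp
  refine ⟨ψ.range, ?_, fun c hc => ?_, ⟨PSp 2 (ZMod 3), inferInstance,
    (QuotientGroup.mk' (center Sp4)).comp (MonoidHom.ofInjective ψ_inj).symm.toMonoidHom,
    (QuotientGroup.mk'_surjective _).comp (MonoidHom.ofInjective ψ_inj).symm.surjective, fun y => ?_, hs,
    fun h => ?_, fun m hm => ?_⟩, ⟨a4, ψ_a4⟩⟩
  · rintro _ ⟨h, rfl⟩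
    rw [mem_centralizer_singleton_iff, ← ψ_m4, ← map_mul, ← map_mul, mem_center_iff.1 m4_cen h]
  · rw [mem_normalizer_iff]
    refine fun y => ⟨nrm c hc y, fun hy => ?_⟩
    simpa [mul_assoc] using nrm c⁻¹ (inv_mem hc) _ hy
  · obtain ⟨g, rfl⟩ := (MonoidHom.ofInjective ψ_inj).surjective y
    change ((((MonoidHom.ofInjective ψ_inj).symm (MonoidHom.ofInjective ψ_inj g) : Sp4) :
      Sp4 ⧸ center Sp4) = 1) ↔ ψ g ∈ _
    rw [MulEquiv.symm_apply_apply, QuotientGroup.eq_one_iff, ← cen_eq, ← ψ_m4, ← MonoidHom.map_zpowers,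
      mem_map_iff_mem ψ_inj]
  · have := @IsSimpleGroup.prime_card (PSp 2 (ZMod 3))
      { (inferInstance : Group (PSp 2 (ZMod 3))) with mul_comm := h.is_comm.comm } hs
    have h2 : Nat.Prime 25920 := card_W ▸ this
    norm_num at h2
  · exfalso
    rw [card_W] at hm
    rcases le_or_gt m 8 with h | h
    · have := Nat.factorial_le h
      rw [← hm] at this
      revert this
      decide
    · have := Nat.factorial_le h
      rw [← hm] at this
      revert this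
      decide

end Cfsg.Agent.H70.G40Fz2a
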