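import Cfsg.Agent.H78.G40B
import Cfsg.Agent.S0243
import Cfsg.Agent.S0249

/-! Project L40G, piece MO1A. -/

set_option autoImplicit false

namespace Cfsg.Agent.H70.G40Mo1a

open Subgroup Cfsg.Agent.H78.G40

theorem x : Mo1aS := by
  have hs : IsSimpleGroup X1 := S0249.result 4 (by norm_num)
  have hc : Nat.card X1 = 6065280 := by
    have h := S0243.result (F := ZMod 3) (q := 3) (by simp) 4 (by norm_num)
    rw [Fin.prod_univ_four] at h
    have h' : 2 * (2 * Nat.card X1) = 24261120 := h
    omega
  refine ⟨hs, fun h => ?_, hc⟩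
  have := @IsSimpleGroup.prime_card X1 { (inferInstance : Group X1) with mul_comm := h.is_comm.comm } hs
  have h2 : Nat.Prime 6065280 := hc ▸ this
  norm_num at h2

end Cfsg.Agent.H70.G40Mo1a
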