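import Cfsg.Agent.H78.G40A

/-! Project L40G, piece STEP. -/

set_option autoImplicit false

namespace Cfsg.Agent.H70.G40Step

open Subgroup Cfsg.Agent.H78.G40

universe u

theorem x : StepS.{u} := by
  intro G _ _ N0 Q τ hτ hN hτ0 _ hQ H H2 y hy hyy
  have τi : τ⁻¹ = τ := inv_eq_of_mul_eq_one_right hτ
  have yi : y⁻¹ = y := inv_eq_of_mul_eq_one_right hyy
  have h2 : (y * τ) ^ 2 ∈ N0 := by
    have := mul_mem hy ((mem_normalizer_iff.1 hN y).1 hy)
    rw [τi] at this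
    have e : (y * τ) ^ 2 = y * (τ * y * τ) := by rw [pow_two]; group
    rwa [e]
  have ev : ∀ k : ℕ, (y * τ) ^ (2 * k) ∈ N0 := fun k => by rw [pow_mul]; exact pow_mem h2 k
  have od : ∀ k : ℕ, (y * τ) ^ (2 * k + 1) * τ ∈ N0 := fun k => by
    rw [pow_succ, mul_assoc, mul_assoc, hτ, mul_one]
    exact mul_mem (ev k) hy
  have hpos := orderOf_pos (y * τ)
  obtain ⟨m, hm | hm⟩ := Nat.even_or_odd' (orderOf (y * τ))
  swap
  · have := od m
    rw [← hm, pow_orderOf_eq_one, one_mul] at this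
    exact absurd this hτ0
  set c0 := (y * τ) ^ m with hc0
  have cc : c0 * c0 = 1 := by rw [hc0, ← pow_add, ← two_mul, ← hm, pow_orderOf_eq_one]
  have c1 : c0 ≠ 1 := pow_ne_one_of_lt_orderOf (by omega) (by omega)
  have ci : c0⁻¹ = c0 := inv_eq_of_mul_eq_one_right cc
  have key : ∀ g : G, g * (y * τ) * g⁻¹ = (y * τ)⁻¹ → c0 * g = g * c0 := by
    intro g hg
    have : g * c0 * g⁻¹ = c0 := by
      rw [hc0, ← conj_pow, hg, inv_pow, ← hc0, ci]
    rw [← mul_inv_eq_iff_eq_mul.1 this]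
  have cy : c0 * y = y * c0 := key y (by
    rw [mul_inv_rev, τi, yi, ← mul_assoc, hyy, one_mul])
  have cτ : c0 * τ = τ * c0 := key τ (by
    rw [mul_inv_rev, τi, yi, mul_assoc, mul_assoc, hτ, mul_one])
  obtain ⟨k, hk | hk⟩ := Nat.even_or_odd' m
  · have h0 : c0 ∈ N0 := by rw [hc0, hk]; exact ev k
    exact Or.inr ⟨c0, H c0 h0 cc cτ, c1, cτ, cy⟩
  · have h0 : c0 * τ ∈ N0 := by rw [hc0, hk]; exact od k
    have e1 : c0 * τ * τ = τ * (c0 * τ) := by rw [← mul_assoc, ← cτ]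
    have e2 : τ * (c0 * τ) = c0 := by rw [← e1, mul_assoc, hτ, mul_one]
    have e3 : c0 * τ * (c0 * τ) = 1 := by rw [mul_assoc, e2, cc]
    obtain ⟨x, hx, hxe⟩ := H2 _ (H _ h0 e3 e1) e1
    rw [e2] at hxe
    have h3 : x⁻¹ * y * x ∈ Q := by
      refine H _ (mul_mem (mul_mem (inv_mem (hQ hx)) hy) (hQ hx)) ?_ ?_
      · calc x⁻¹ * y * x * (x⁻¹ * y * x) = x⁻¹ * (y * y) * x := by group
          _ = 1 := by rw [hyy]; group
      · calc x⁻¹ * y * x * τ = x⁻¹ * (y * (x * τ * x⁻¹)) * x := by group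
          _ = x⁻¹ * ((x * τ * x⁻¹) * y) * x := by rw [← hxe, cy]
          _ = τ * (x⁻¹ * y * x) := by group
    have := mul_mem (mul_mem hx h3) (inv_mem hx)
    left
    simpa [mul_assoc] using this

end Cfsg.Agent.H70.G40Step
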