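import Mathlib
import Cfsg.Agent.H93.GMDefs
import Cfsg.Agent.H38.LqCQB
import Cfsg.Agent.H49.LQTrf
import Cfsg.Agent.H51.U3E1

/-! The end of the special case, with the exact group. -/

set_option autoImplicit false
set_option linter.unusedSectionVars false

namespace Cfsg.Agent.H70.GmCqbx

open Cfsg Subgroup Cfsg.Agent.H86 Cfsg.Agent.H86.U3 Cfsg.Agent.H86.Dbl Cfsg.Agent.H93.LQ
open Cfsg.Agent.H7.LQ Cfsg.Agent.H38.LqK1 Cfsg.Agent.H38.LqCQB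

universe u v

theorem twoX {G : Type u} {F : Type v} [Group G] [Finite G] [Field F] (H : Hy G F)
    (S₁ A₁ A₂ : Subgroup G) (hS : IsSylowIn 2 S₁ H.E) (h1 : A₁ ≤ S₁) (h2 : A₂ ≤ S₁)
    (e1 : ∀ x ∈ A₁, x * x = 1) (e2 : ∀ x ∈ A₂, x * x = 1)
    (hi : ∀ x ∈ S₁, x * x = 1 → x ∈ A₁ ∨ x ∈ A₂) (hp : ∀ x ∈ S₁, ∃ a ∈ A₁, ∃ b ∈ A₂, x = a * b)
    (hn : ∃ x ∈ S₁, ∃ y ∈ S₁, x * y ≠ y * x) (hidx : A₁.relIndex S₁ = Nat.card F)
    (hc : Nat.card S₁ = Nat.card F ^ 3) : H93.GM.XC H := by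
  obtain ⟨x, hx, y, hy, hxy⟩ := hn
  have := H.Es
  have h8 := H.h8
  obtain ⟨S, hS'⟩ := hS.exists_sylow
  have hm : ∀ x : H.E, x ∈ (S : Subgroup H.E) ↔ (x : G) ∈ S₁ := fun x => by
    rw [hS', mem_subgroupOf]
  let ι : (S : Subgroup H.E) →* G := H.E.subtype.comp (S : Subgroup H.E).subtype
  have hι : Function.Injective ι := (subtype_injective _).comp (subtype_injective _)
  let mk : ∀ x ∈ S₁, (S : Subgroup H.E) := fun x hx => ⟨⟨x, hS.le hx⟩, (hm _).2 hx⟩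
  have hr : ι.range = S₁ := le_antisymm (by rintro _ ⟨x, rfl⟩; exact (hm _).1 x.2)
    fun x hx => ⟨mk x hx, rfl⟩
  have hI : (A₁.comap ι).index = Nat.card F := by rw [index_comap, hr, hidx]
  obtain ⟨K, _, _, hK, e⟩ := H51.U3E.psl_of_two S (A₁.comap ι) (A₂.comap ι) (fun x hx => hι (by
      rw [map_mul, map_one]; exact e1 _ hx)) (fun x hx => hι (by
      rw [map_mul, map_one]; exact e2 _ hx)) (fun x hx => hi (ι x) ((hm _).1 x.2) (by
      rw [← map_mul, hx, map_one])) (fun x => by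
      obtain ⟨a, ha, b, hb, e⟩ := hp (ι x) ((hm _).1 x.2)
      exact ⟨mk a (h1 ha), ha, mk b (h2 hb), hb, hι (by rw [map_mul, e]; rfl)⟩)
    (fun h => hxy (congrArg ι (h.is_comm.comm (mk _ hx) (mk _ hy)))) (by omega) (by
      rw [hI, ← hc, ← hr]
      exact Nat.card_congr (MonoidHom.ofInjective hι).toEquiv)
  exact .inr (.inl ⟨K, _, _, hK.trans hI, e⟩)

theorem cqbx : H93.GM.CQBXStmt.{u, v} := by
  have trf : TrfStmt.{u} := H49.LQTrf.trf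
  rintro G F _ _ _ _ H C ⟨tE, UE, S, US, tS, dec, ncv⟩
  have two := H.two
  have VU : H.V ≤ C.U := fun x hx => by
    obtain ⟨b, rfl⟩ := (H.memV x).1 hx
    exact C.sp.z_mem b
  have Ucv : C.U ≤ centralizer (H.V : Set G) := fun x hx =>
    (cv_iff _).1 fun b => (C.sp.z_comm b x hx).symm
  have S2 : ∀ s ∈ (S : Subgroup G), ∃ n, s ^ 2 ^ n = 1 := fun s hs => by
    obtain ⟨n, hn⟩ := S.2 ⟨s, hs⟩
    exact ⟨n, congrArg Subtype.val hn⟩
  have BV : ∀ c ∈ (S : Subgroup G), c ∈ H.E → c ∈ H.B → H.CV c → c ∈ H.V := fun c h1 h2 h3 h4 =>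
    JE tE (H.k1.twoJ c h3 (S2 c h1) h4) h2
  have SCE : ∀ s ∈ (S : Subgroup G), s ∈ H.E → H.CV s → s ∈ C.U := fun s hs hE cv => by
    obtain ⟨u, hu, c, hc, rfl⟩ := dec s hs
    exact mul_mem hu (VU (BV c ((mul_mem_cancel_left (US hu)).1 hs)
      ((mul_mem_cancel_left (UE hu)).1 hE) hc
      ((cv_iff _).2 ((mul_mem_cancel_left (Ucv hu)).1 ((cv_iff _).1 cv)))))
  have h8 := H.h8
  by_cases hA : ∀ u ∈ C.U, ∀ b, IsConj (H.z b) u → u ∈ H.V
  · refine .inl ⟨S, H.V, le_rfl, H.VE, fun x hx => Vsq _ hx, ⟨VU.trans US, fun x hx g hg => ?_⟩,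
      tS, H.tV, ?_⟩
    · obtain ⟨b, rfl⟩ := (H.memV x).1 hx
      have hj : IsConj (H.z b) (g * H.z b * g⁻¹) := isConj_iff.2 ⟨g, rfl⟩
      exact hA _ (SCE _ hg (H.En.conj_mem _ (H.VE hx) g) (ncv _ hg b hj)) b hj
    · have h1 := card_le_of_le (le_inf US UE)
      rw [C.sp.card, Nat.card_prod] at h1
      nlinarith
  push Not at hA
  obtain ⟨u0, hu, b0, hj, hV⟩ := hA
  have u2 : u0 * u0 = 1 := by
    obtain ⟨g, rfl⟩ := isConj_iff.1 hj
    rw [conj_mul, zz]; simp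
  have q0 := C.sp.sq u0 hu
  rw [u2, eq_comm, C.sp.z_eq_one] at q0
  have a0 : (C.ρ u0).1 ≠ 0 := fun h0 => by
    rw [h0] at q0
    have h2 : (C.ρ u0).2 = 0 := by simpa using q0
    exact hV ((H.memV _).2 (C.sp.ker u0 hu (Prod.ext h0 h2)))
  obtain ⟨r, hρ⟩ : ∃ r, C.ρ u0 = ((C.ρ u0).1, r * (C.ρ u0).1) :=
    ⟨(C.ρ u0).2 / (C.ρ u0).1, Prod.ext rfl (by rw [div_mul_cancel₀ _ a0])⟩
  have hr : C.e = r + r ^ 2 := by
    have h1 : (C.ρ u0).2 = r * (C.ρ u0).1 := congrArg Prod.snd hρ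
    rw [h1] at q0
    refine mul_right_cancel₀ (pow_ne_zero 2 a0) ?_
    linear_combination q0 - (r + r ^ 2) * (C.ρ u0).1 ^ 2 * two
  have hj1 : IsConj (H.z 1) u0 := by
    obtain ⟨i, hi⟩ := kconj H.toH1 one_ne_zero (b' := b0) fun e => hV (by
      rw [e, z0, isConj_one_right] at hj
      rw [hj]; exact one_mem _)
    exact (isConj_iff.2 ⟨_, hi⟩).trans hj
  have hsyl : IsSylowIn 2 ((S : Subgroup G) ⊓ H.E) H.E :=
    (isSylowIn_top S).inf_normal le_top (by have := H.En; rw [normalizer_eq_top])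
  have SU : (S : Subgroup G) ⊓ H.E = C.U := by
    refine le_antisymm (fun s hs => ?_) (le_inf US UE)
    by_contra hsU
    have SN : (S : Subgroup G) ≤ normalizer (C.U : Set G) := fun s hs => by
      obtain ⟨u, hu, c, hc, rfl⟩ := dec s hs
      exact mul_mem (le_normalizer hu) (C.nB hc)
    have hn : (C.U.subgroupOf S).Normal := normal_subgroupOf_of_le_normalizer SN
    let π := QuotientGroup.mk' (C.U.subgroupOf S)
    have hπ : ∀ a : S, π a = 1 ↔ (a : G) ∈ C.U := fun a => QuotientGroup.eq_one_iff a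
    obtain ⟨p, hp, hcyc⟩ := H.k0.cyc ((S : Subgroup G) ⊓ H.E ⊓ H.B) inf_le_right
      (S.2.to_le (inf_le_left.trans inf_le_left))
    have hz : ∀ a : S, (a : G) ∈ H.E → π a ∈ zpowers (π ⟨p, hp.1.1⟩) := fun a hE => by
      obtain ⟨u, hu, c, hc, e⟩ := dec a a.2
      have cS : c ∈ (S : Subgroup G) := (mul_mem_cancel_left (US hu)).1 (e ▸ a.2)
      have cE : c ∈ H.E := (mul_mem_cancel_left (UE hu)).1 (e ▸ hE)
      obtain ⟨n, hn⟩ := hcyc c ⟨⟨cS, cE⟩, hc⟩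
      have m := mul_mem (inv_mem (pow_mem hp n)) (show c ∈ _ ⊓ _ ⊓ _ from ⟨⟨cS, cE⟩, hc⟩)
      have h1 : a = ⟨u, US hu⟩ * (⟨p, hp.1.1⟩ ^ n * ⟨_, m.1.1⟩) := Subtype.ext (by simp [e])
      rw [h1, map_mul, map_mul, (hπ ⟨u, US hu⟩).2 hu,
        (hπ ⟨_, m.1.1⟩).2 (SCE _ m.1.1 m.1.2 hn), one_mul, mul_one,
        map_pow]
      exact pow_mem (mem_zpowers _) n
    have pU : p ∉ C.U := fun h => hsU ((hπ ⟨s, hs.1⟩).1 (by
      have := hz ⟨s, hs.1⟩ hs.2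
      rwa [(hπ ⟨p, hp.1.1⟩).2 h, zpowers_one_eq_bot, mem_bot] at this))
    obtain ⟨x0, hx0, x0U, x02⟩ : ∃ x0 ∈ (S : Subgroup G) ⊓ H.E ⊓ H.B, x0 ∉ C.U ∧ x0 * x0 ∈ C.U := by
      classical
      have ex : ∃ n, p ^ 2 ^ n ∈ C.U := by
        obtain ⟨n, hn⟩ := S2 p hp.1.1
        exact ⟨n, hn ▸ one_mem _⟩
      obtain ⟨n, hn⟩ := Nat.exists_eq_succ_of_ne_zero (n := Nat.find ex) fun e => pU (by
        simpa [e] using Nat.find_spec ex)
      refine ⟨p ^ 2 ^ n, pow_mem hp _, Nat.find_min ex (by omega), ?_⟩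
      have := Nat.find_spec ex
      rwa [hn, pow_succ, pow_mul, pow_two] at this
    have cv2 : H.CV (x0 * x0) := (cv_iff _).2 (Ucv x02)
    have m2 := mul_mem hx0 hx0
    have x2V := BV _ m2.1.1 m2.1.2 m2.2 cv2
    obtain ⟨w, hw, e⟩ := (H.k0.fld x0 (H.semi x0 hx0.2) cv2
      fun cv => x0U (SCE _ hx0.1.1 hx0.1.2 cv)).1 _ x2V (by group)
    have xx : w * x0 * (w * x0) = 1 := by
      rw [← Vsq _ x2V]
      nth_rewrite 1 [e]
      group
    have xS : w * x0 ∈ (S : Subgroup G) := mul_mem (US (VU hw)) hx0.1.1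
    have xE : w * x0 ∈ H.E := mul_mem (H.VE hw) hx0.1.2
    have xU : w * x0 ∉ C.U := fun h => x0U ((mul_mem_cancel_left (VU hw)).1 h)
    generalize w * x0 = x at xx xS xE xU
    obtain ⟨S', hS'⟩ := hsyl.exists_sylow
    have mS : ∀ a : H.E, a ∈ (S' : Subgroup H.E) ↔ (a : G) ∈ (S : Subgroup G) := fun a => by
      rw [hS', mem_subgroupOf]; exact ⟨fun h => h.1, fun h => ⟨h, a.2⟩⟩
    refine trf H.E S' (C.U.subgroupOf H.E) ⟨x, xE⟩ (fun a ha => (mS a).2 (US ha))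
      (fun a ha b hb => ?_) (Subtype.ext xx) ((mS _).2 xS) xU (fun d hd hc => ?_)
      (by rw [comm_top]; exact mem_top _)
    · obtain ⟨i, hi⟩ := mem_zpowers_iff.1 (hz ⟨a, (mS a).1 ha⟩ a.2)
      obtain ⟨j, hj⟩ := mem_zpowers_iff.1 (hz ⟨b, (mS b).1 hb⟩ b.2)
      have h1 : Commute (π ⟨a, (mS a).1 ha⟩) (π ⟨b, (mS b).1 hb⟩) := by
        rw [← hi, ← hj]; exact (Commute.refl _).zpow_zpow i j
      rw [← commutatorElement_eq_one_iff_commute, ← map_commutatorElement, hπ] at h1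
      exact h1
    · have hc' : IsConj x d := H.E.subtype.map_isConj hc
      have dS := (mS d).1 hd
      have dd : (d : G) * d = 1 := by
        obtain ⟨g, hg⟩ := isConj_iff.1 hc'
        rw [← hg, conj_mul, xx]; simp
      have dU : (d : G) ∉ C.U := fun h => xU (SCE x xS xE (ncv x xS 1
        ((inv_conj C hu a0 hρ hj1 hr h dd fun e => xU (by
          rw [e, isConj_one_left] at hc'
          rw [hc']; exact one_mem _)).trans hc'.symm)))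
      have sq1 : ∀ a : S, (a : G) * a = 1 → π a ^ 2 = 1 := fun a h => by
        rw [pow_two, ← map_mul, show a * a = 1 from Subtype.ext h, map_one]
      rcases cyc2 (hz ⟨x, xS⟩ xE) (hz ⟨d, dS⟩ d.2) (sq1 _ xx) (sq1 _ dd) with h | h | h
      · exact absurd ((hπ _).1 h) xU
      · exact absurd ((hπ _).1 h) dU
      · refine (hπ (⟨x, xS⟩ * ⟨d, dS⟩)).1 ?_
        rw [map_mul, h, ← pow_two, sq1 _ dd]
  have ad : ∀ c : F, ∀ x ∈ C.U, ∀ y ∈ C.U, (C.ρ (x * y)).2 + c * (C.ρ (x * y)).1 =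
      (C.ρ x).2 + c * (C.ρ x).1 + ((C.ρ y).2 + c * (C.ρ y).1) := fun c x hx y hy => by
    rw [C.sp.add x hx y hy, Prod.fst_add, Prod.snd_add]; ring
  have fac : ∀ x ∈ C.U, x * x = 1 ↔
      ((C.ρ x).2 + r * (C.ρ x).1) * ((C.ρ x).2 + (r + 1) * (C.ρ x).1) = 0 := fun x hx => by
    rw [C.sp.sq x hx, C.sp.z_eq_one, hr]
    refine Eq.congr_left ?_
    linear_combination (-(r * (C.ρ x).1 * (C.ρ x).2)) * two
  refine .inr (twoX H.toHy C.U (onKer (ad r)) (onKer (ad (r + 1))) (SU ▸ hsyl) (fun x hx => hx.1)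
    (fun x hx => hx.1) (fun x hx => (fac x hx.1).2 (mul_eq_zero_of_left hx.2 _))
    (fun x hx => (fac x hx.1).2 (mul_eq_zero_of_right _ hx.2)) (fun x hx h => ?_) (fun x hx => ?_)
    ?_ ?_ (by rw [C.sp.card, Nat.card_prod]; ring))
  · exact (mul_eq_zero.1 ((fac x hx).1 h)).imp (fun h => ⟨hx, h⟩) fun h => ⟨hx, h⟩
  · obtain ⟨b, hb, e⟩ := C.sp.surj ((C.ρ x).2 + r * (C.ρ x).1,
      (r + 1) * ((C.ρ x).2 + r * (C.ρ x).1))
    refine ⟨x * b⁻¹, ⟨mul_mem hx (inv_mem hb), ?_⟩, b, ⟨hb, ?_⟩, by group⟩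
    · beta_reduce
      rw [C.sp.add x hx _ (inv_mem hb), C.sp.π_inv hb, e]
      simp only [Prod.fst_add, Prod.snd_add]
      linear_combination ((C.ρ x).2 + r * (C.ρ x).1 + r * ((C.ρ x).2 + r * (C.ρ x).1)) * two
    · beta_reduce
      rw [e]; exact addF H.toHy _
  · obtain ⟨x, hx, e1⟩ := C.sp.surj (1, 0)
    obtain ⟨y, hy, e2⟩ := C.sp.surj (0, 1)
    refine ⟨x, hx, y, hy, fun h => ?_⟩
    have := C.sp.comm hx hy
    rw [e1, e2, ← h, left_eq_mul, C.sp.z_eq_one] at this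
    simp only [Prod.mk_add_mk] at this
    exact one_ne_zero (α := F) (by linear_combination this - (C.e + 1) * two)
  · rw [relIndex_onKer (ad r) fun b => by
      obtain ⟨x, hx, e⟩ := C.sp.surj (0, b)
      exact ⟨x, hx, by rw [e]; simp⟩]

end Cfsg.Agent.H70.GmCqbx
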