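import Cfsg.Agent.H70.HJ6
import Cfsg.Agent.H36.SL2Pres
import Cfsg.Agent.H82.SL2
import Cfsg.Agent.H28.PSL2Small
import Cfsg.Agent.H77.Mat2

/-!
# The subgroup `SL₂(16) : 2` of `J₃`
-/

set_option autoImplicit false
set_option maxRecDepth 200000

namespace Cfsg.Agent.H70

open Subgroup Cfsg.Spor Cfsg.Agent.H28 Cfsg.Agent.H36 Cfsg.Agent.H42 Cfsg.Agent.H46
  Cfsg.Agent.H46.J3 MatrixGroups

scoped instance factF16 : Fact (∀ r : H28.F4, r ^ 2 ≠ ⟨0, 1⟩ + 1 * r) := ⟨by decide⟩

/-- The field with sixteen elements. -/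
abbrev F16 : Type := QuadraticAlgebra H28.F4 ⟨0, 1⟩ 1

theorem card_F16 : Fintype.card F16 = 16 := by rw [card_quadraticAlgebra, card_F4]; rfl

/-- The number of an element. -/
def n16 (t : F16) : ℕ := t.re.re.val + 2 * t.re.im.val + 4 * t.im.re.val + 8 * t.im.im.val

/-- The root elements. -/
noncomputable def c16 : ℕ → ℕ := getL [nat_lit 0x100000000010000000001000000000100000000010000000001000000000100000000010000000001, nat_lit 0x2133030011123101310111130111112223231112122221331323011312033202333210010232200, nat_lit 0x102232031011123101310332330312121322232312321323131131012221012202332101110311310, nat_lit 0x301001010000000000300301202010000000102100100030010002010020000001301101000010, nat_lit 0x10323003111220022011120121231032021333210302200300233001023000033302003231132020, nat_lit 0x113333132110303123200332132222112123202110132223300123111111111232323100323232100, nat_lit 0x11203331110303123101230121323112132002103203220320313211132121233201310121322100,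 nat_lit 0x112213200111220022311101033331111131130111330201111201300123131032220213032101121, nat_lit 0x110123021111220022010300123132020331330300303200000230001223002333202012132120330, nat_lit 0x10221213110303123000130200321001002302011313120110131313021120130012313220321021, nat_lit 0x113232111110303123201331330322133332202200330321200332112222132132222200120303300, nat_lit 0x13130323111220022210022112130031100233203023003121231201103111331032101233021110, nat_lit 0x101020000010000000101000020000002301300010010000301003000200102003010010000102300, nat_lit 0x201333011123101011133220311111313032103312122121331213222002203112012210231330, nat_lit 0x101023233011123101111013103010010133331101203222011110311131001200201000212220101, nat_lit 0x202100010000000000003202300020020000300202302000020103030000000303002003030030, nat_lit 0x100000000010000000001000000000100000000010000000001000000000100000000010000000001, nat_lit 0x111333212100111333100101120211122332210300102211300333321212133123202210320332201,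 nat_lit 0x33010310212010233231311212002011102111113221001121233233133111121032101023312110, nat_lit 0x120003102302101100031000332010103230000013323210220100112321122002230301303020310, nat_lit 0x111013230112131331130312120012122301121303102213321313321212133223001200010132200, nat_lit 0x12001000100300002300000011020032000000200011100300020000000100001013000031010000, nat_lit 0x100321113011331102011212310223100212321011301113011120112321122101103311230310311, nat_lit 0x101013323003100231120310221012120113101302212200030213233133111323111111211232111, nat_lit 0x10021000100300020000200011023002000300000011100300002000000100031010000001013000, nat_lit 0x31311203213321313121303102222021310130312120112131331321212133010132200223001200, nat_lit 0x31310332200030213101302212202021131120310221003100231233133111211232111323111111, nat_lit 0x112300131113011120321011301200132221011212310011331102112321122230310311101103311, nat_lit 0x133311221211300333210300102222111323100101120100111333321212133320332201123202210,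 nat_lit 0x300000000001000000010000200000000001000000010000000000000100000000001000000010, nat_lit 0x30302120210220100000013323230001203031000332302101100112321122303020310002230301, nat_lit 0x1033301001121233111113221011020120231311212212010233233133111023312110121032101]
/-- The root elements as words. -/
def w16 (i : ℕ) : List ℕ := List.getD [[], [1, 1, 0, 1, 1, 0], [1, 0, 1, 1, 1, 1, 1, 1, 0, 1, 0, 1, 1, 1, 0, 1, 1, 1], [0, 1, 1, 1, 0, 1, 0, 1, 0, 1, 0, 1, 0, 1, 1, 1], [1, 1, 1, 1, 0, 1, 1, 1, 1, 0, 1, 1], [0, 1, 1, 0, 1, 1, 1, 1, 0, 1, 1, 1, 1, 0], [0, 1, 0, 1, 1, 1, 1, 1, 1, 0, 1, 1, 1, 0], [1, 1, 1, 0, 1, 1, 1, 1, 1, 1, 0, 1], [1, 1, 0, 1, 0, 1, 1, 1, 0, 1, 1, 1, 1, 0, 1, 1, 1, 0, 1, 0], [0, 1, 0, 1, 0, 1, 0, 1, 1, 1, 1, 0, 1, 0, 1, 1, 1], [1, 0, 1, 0, 1, 1, 0, 1, 0, 1, 1, 1, 0, 1, 1, 1, 1, 0, 1, 1], [0, 1, 1, 1, 0, 1, 0, 1, 1, 1, 1, 0, 1, 0, 1, 0, 1], [0, 1, 1, 0, 1, 0, 1, 0, 1, 1, 1, 0, 1, 0], [1, 1, 0, 1, 0, 1, 1, 1, 0, 1, 0, 1, 0, 1, 1, 1, 1, 0],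 [1, 0, 1, 0, 1, 1, 0, 1, 1, 1, 0, 1, 1, 0, 1, 1, 0, 1], [1, 0, 1, 1, 1, 0, 1, 0, 1, 0, 1, 1], [], [0, 1, 1, 1, 0, 1, 1, 0, 1, 1, 1, 0, 1, 1, 1, 1, 1, 1], [0, 1, 0, 1, 1, 1, 0, 1, 0, 1, 1, 1, 1, 0, 1, 0, 1], [1, 0, 1, 1, 1, 1, 0, 1, 0, 1, 1, 1, 0, 1, 0, 1, 0], [1, 1, 1, 0, 1, 0, 1, 1, 1, 0, 1, 1, 1, 1, 0, 1, 1, 1], [1, 1, 1, 0, 1, 0, 1, 1, 0, 1, 1, 1, 1, 1, 1, 1, 0], [1, 1, 1, 1, 0, 1, 1, 0, 1, 1, 1, 0, 1, 1, 1, 1, 0], [0, 1, 1, 0, 1, 1, 0, 1, 1, 1, 1, 0, 1, 1, 1, 1], [1, 0, 1, 0, 1, 1, 1, 1, 0, 1, 0, 1, 0, 1, 0, 1, 1], [1, 0, 1, 1, 0, 1, 0, 1, 0, 1, 1, 1, 1, 1, 1, 1, 1, 1], [0, 1, 1, 1, 1, 0, 1, 1, 1, 1, 1, 1], [0, 1, 0, 1, 0, 1, 1, 1, 0, 1, 1, 1], [0, 1, 1, 1, 1, 1, 0, 1, 1, 1, 1, 0, 1, 0], [0, 1, 1, 1, 1, 0, 1, 1, 1, 1, 0, 1, 1, 0, 1, 1, 1, 1], [0, 1, 1, 0, 1, 1, 1, 0, 1, 0, 1, 0, 1, 0], [0, 1, 0, 1, 0, 1, 0, 1, 0, 1, 1, 1, 1, 0, 1, 0, 1, 1, 0]] i []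

theorem chk16 : (∀ i < 32, OJ.wordChk genH 2 (w16 i) (c16 i) = true) ∧
    (∀ t : F16, n16 t < 16 ∧ (t ≠ 0 → t * t ^ 14 = 1)) ∧
    (∀ t u : F16, OJ.eqB (c16 (n16 (t + u))) (OJ.mul (c16 (n16 t)) (c16 (n16 u))) = true ∧
      OJ.eqB (c16 (16 + n16 (t + u))) (OJ.mul (c16 (16 + n16 t)) (c16 (16 + n16 u))) = true) ∧
    (∀ t u : F16, t ≠ 0 → OJ.eqB (OJ.mul (OJ.mul (OJ.mul (c16 (n16 t)) (c16 (16 + n16 (-t ^ 14))))
      (c16 (n16 t))) (c16 (n16 u))) (OJ.mul (c16 (16 + n16 (-((t ^ 14) ^ 2 * u))))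
      (OJ.mul (OJ.mul (c16 (n16 t)) (c16 (16 + n16 (-t ^ 14)))) (c16 (n16 t)))) = true) ∧
    OJ.eqB (OJ.mul (c16 (n16 1)) (c16 (16 + n16 1))) (OJ.mul (c16 (16 + n16 1)) (c16 (n16 1))) =
      false := by
  decide +kernel

theorem exists_sl16 {F : Type*} [Field F] {ω : F} (hF : H46.IsF4 ω) :
    ∃ φ : SL(2, F16) →* J3 F ω, Function.Injective φ ∧ φ.range ≤ H hF := by
  obtain ⟨h1, h2, h3, h4, h5⟩ := chk16
  have hm : ∀ i < 32, (CJ hF).Mem (H hF) (c16 i) := fun i hi =>
    Coded.Tab.of_wordChk _ ((CJ hF).tab_closure (ex_genH hF)) (h1 i hi)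
  have hR : ∀ i < 32, (CJ hF).R (c16 i) ((CJ hF).el (c16 i)) := fun i hi =>
    (CJ hF).R_el (let ⟨g, _, h⟩ := hm i hi; ⟨g, h⟩)
  have x := fun t => hR (n16 t) (by have := (h2 t).1; omega)
  have y := fun t => hR (16 + n16 t) (by have := (h2 t).1; omega)
  obtain ⟨φ, hx, hy⟩ := exists_hom_SL2_finite (x := fun t => (CJ hF).el (c16 (n16 t)))
    (y := fun t => (CJ hF).el (c16 (16 + n16 t)))
    ⟨fun t u => (CJ hF).eq_of_eqB (x _) ((CJ hF).R_mul (x _) (x _)) (h3 t u).1,
      fun t u => (CJ hF).eq_of_eqB (y _) ((CJ hF).R_mul (y _) (y _)) (h3 t u).2,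
      fun t u ht => by
        rw [inv_eq_of_mul_eq_one_right ((h2 t).2 ht)]
        exact (CJ hF).eq_of_eqB ((CJ hF).R_mul ((CJ hF).R_mul ((CJ hF).R_mul (x _) (y _)) (x _))
          (x _)) ((CJ hF).R_mul (y _) ((CJ hF).R_mul ((CJ hF).R_mul (x _) (y _)) (x _)))
          (h4 t u ht)⟩
  refine ⟨φ, φ.ker_eq_bot_iff.1 ?_, ?_⟩
  · rcases H82.normal_le_center_or (N := φ.ker) with h | h
    · rwa [center_SL2_eq_bot (by decide), le_bot_iff] at h
    refine absurd ?_ ((CJ hF).ne_of_eqB ((CJ hF).R_mul (x 1) (y 1)) ((CJ hF).R_mul (y 1) (x 1)) h5)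
    have key : ∀ A, ∃ t, φ A = φ (H82.uu t) := fun A => by
      obtain ⟨k, hk, _, ⟨t, rfl⟩, rfl⟩ := mem_sup_of_normal_left.1 (h.ge (mem_top A))
      exact ⟨_, by rw [map_mul, MonoidHom.mem_ker.1 hk, one_mul]⟩
    obtain ⟨s, hs⟩ := key (sl2U 1)
    obtain ⟨t, ht⟩ := key (sl2L 1)
    rw [← hx, ← hy, hs, ht, ← map_mul, ← map_mul, ← H82.uu_add, ← H82.uu_add, add_comm]
  · rintro _ ⟨A, rfl⟩
    refine sl2_induction (fun A => φ A ∈ H hF) (fun t => ?_) (fun t => ?_)
      (fun A B hA hB => by simpa only [map_mul] using mul_mem hA hB) A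
    · rw [hx]; exact (hm _ (by have := (h2 t).1; omega)).mem (x t)
    · rw [hy]; exact (hm _ (by have := (h2 t).1; omega)).mem (y t)

theorem IsoJ3.sl16 {G : Type*} [Group G] (h : IsoJ3 G) :
    ∃ (H : Subgroup G) (N : Subgroup H) (K : Type) (_ : Field K) (_ : Fintype K), N.Normal ∧
      N.index = 2 ∧ Fintype.card K = 16 ∧ Nonempty (N ≃* SL(2, K)) := by
  obtain ⟨F, _, _, ω, h1, h2, ⟨e⟩⟩ := h
  have hF := H46.isF4_of_card h1 h2
  obtain ⟨φ, hφ, hle⟩ := exists_sl16 hF
  have hi : Function.Injective (e.symm.toMonoidHom.comp φ) := e.symm.injective.comp hφ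
  have hl : (e.symm.toMonoidHom.comp φ).range ≤ (H hF).map e.symm.toMonoidHom := by
    rw [MonoidHom.range_comp]; exact map_mono hle
  have f := (subgroupOfEquivOfLe hl).trans (MonoidHom.ofInjective hi).symm
  have h2 : ((e.symm.toMonoidHom.comp φ).range.subgroupOf
      ((H hF).map e.symm.toMonoidHom)).index = 2 := by
    have := ((e.symm.toMonoidHom.comp φ).range.subgroupOf
      ((H hF).map e.symm.toMonoidHom)).card_mul_index
    rw [Nat.card_congr f.toEquiv, H77.card_SL2, Nat.card_eq_fintype_card, card_F16,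
      card_map_of_injective e.symm.injective, card_H] at this
    omega
  exact ⟨_, _, F16, inferInstance, inferInstance, normal_of_index_eq_two h2, h2, card_F16, ⟨f⟩⟩

end Cfsg.Agent.H70
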