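import Cfsg.Agent.H70.HJP
import Cfsg.Agent.H71.Meta
import Cfsg.Agent.H5.StrCl
import Cfsg.Agent.H5.SmallP
import Cfsg.Agent.H29.SmallGroups
import Cfsg.Agent.H29.Pres235

/-!
# Local subgroups of `J₂`
-/

set_option autoImplicit false
set_option maxRecDepth 200000

namespace Cfsg.Agent.H70

open Subgroup Cfsg.Spor MulAut Cfsg.Agent.H44 Cfsg.Agent.H43 Cfsg.Agent.H47 Cfsg.Agent.H47.J2P

variable {G : Type*} [Group G] {δ : ℕ → G}

theorem isPGroup_zp {p : ℕ} {x : G} (h : orderOf x = p) : IsPGroup p (zpowers x) :=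
  IsPGroup.of_card (n := 1) (by rw [Nat.card_zpowers, h, pow_one])

theorem exists_gen_of_prime {W : Subgroup G} {p : ℕ} [hp : Fact p.Prime] (h : Nat.card W = p) :
    ∃ x, orderOf x = p ∧ zpowers x = W := by
  obtain ⟨x, hx⟩ := (Subgroup.isCyclic_iff_exists_zpowers_eq_top W).1 (isCyclic_of_prime_card h)
  exact ⟨x, by rw [← Nat.card_zpowers, hx, h], hx⟩

theorem cent_zp (x : G) : centralizer (zpowers x : Set G) = centralizer {x} := by
  rw [zpowers_eq_closure, centralizer_closure]

theorem J2T.seven (h : J2T δ) (D : Sylow 7 G) : centralizer ((D : Subgroup G) : Set G) = D ∧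
    Nat.card (normalizer ((D : Subgroup G) : Set G)) = 42 ∧
    ¬ IsMulCommutative (normalizer ((D : Subgroup G) : Set G)) := by
  have := h.finite
  have : Fact (Nat.Prime 7) := ⟨by norm_num⟩
  have hD : Nat.card D = 7 := by rw [h.card_sylow]; decide +kernel
  obtain ⟨x, ox, hx⟩ := exists_gen_of_prime hD
  obtain ⟨i, hi, -, h1, h2⟩ := h.exists_info x
  have t : ∀ i < 21, 7 = nthN ht_os i → nthN ht_cs i = 7 := by decide +kernel
  rw [t i hi (ox ▸ h1), ← cent_zp, hx] at h2
  have hC : centralizer ((D : Subgroup G) : Set G) = D := (eq_of_le_of_card_ge (by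
    rw [← hx]; exact le_centralizer _) (by rw [h2, hD])).symm
  have hN : Nat.card (normalizer ((D : Subgroup G) : Set G)) = 42 := by
    have a := H58.relIndex_centralizer_dvd_card_mulAut (D : Subgroup G)
    have := isCyclic_of_prime_card hD
    rw [IsCyclic.card_mulAut, hD, Nat.totient_prime (by norm_num)] at a
    have b := H39.card_mul_relIndex (centralizer_le_normalizer ((D : Subgroup G) : Set G))
    obtain ⟨m, c, d⟩ := (h.card_norm D D).2
    rw [← b, h2] at d ⊢
    generalize (centralizer ((D : Subgroup G) : Set G)).relIndex _ = k at a d ⊢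
    have := Nat.le_of_dvd (by norm_num) a
    interval_cases k <;> omega
  refine ⟨hC, hN, fun c => ?_⟩
  have := card_le_of_le (H := normalizer ((D : Subgroup G) : Set G))
    (K := centralizer ((D : Subgroup G) : Set G)) fun g hg y hy =>
      congrArg Subtype.val (c.is_comm.comm ⟨y, le_normalizer hy⟩ ⟨g, hg⟩)
  omega

theorem J2T.exists_mem (h : J2T δ) {p : ℕ} [Fact p.Prime] (P : Sylow p G) {x : G}
    (hx : orderOf x = p) : ∃ y ∈ (P : Subgroup G), IsConj x y := by
  have := h.finite
  obtain ⟨Q, hQ⟩ := (isPGroup_zp hx).exists_le_sylow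
  obtain ⟨g, rfl⟩ := MulAction.exists_smul_eq G Q P
  exact ⟨_, smul_mem_pointwise_smul _ (conj g) _ (hQ (mem_zpowers x)), isConj_cj g x⟩

theorem J2T.three (h : J2T δ) (P : Sylow 3 G) : IsExtraspecial 3 (P : Subgroup G) ∧
    Nat.card P = 27 ∧ Nat.card (normalizer ((P : Subgroup G) : Set G)) = 216 ∧
    ∃ a b : G, orderOf a = 3 ∧ orderOf b = 3 ∧ ¬ IsConj a b ∧
      ∀ c : G, orderOf c = 3 → IsConj c a ∨ IsConj c b := by
  have := h.finite
  have hP : ∀ P : Sylow 3 G, Nat.card P = 27 := fun P => by rw [h.card_sylow]; decide +kernel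
  have o3 : orderOf (δ 3) = 3 := h.ord 3 (by norm_num)
  have o4 : orderOf (δ 4) = 3 := h.ord 4 (by norm_num)
  have hX : ∀ P : Sylow 3 G, IsExtraspecial 3 (P : Subgroup G) := fun P =>
    H5.isExtraspecial_of_card_cube (hP P) fun c => by
      obtain ⟨y, hy, cy⟩ := h.exists_mem P o4
      have := card_dvd_of_le (H := (P : Subgroup G)) (K := centralizer {y}) fun g hg =>
        mem_centralizer_singleton_iff.2 (congrArg Subtype.val (c.is_comm.comm ⟨g, hg⟩ ⟨y, hy⟩))
      rw [(h.info (by norm_num) cy).2] at this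
      exact absurd ((hP P).symm.dvd.trans this) (by decide +kernel)
  refine ⟨hX P, hP P, ?_, δ 3, δ 4, o3, o4, fun c => absurd (h.nc 3 (by norm_num) 4 (by norm_num) c)
    (by norm_num), fun c hc => ?_⟩
  swap
  · obtain ⟨i, hi, ci, h1, -⟩ := h.exists_info c
    have t : ∀ i < 21, 3 = nthN ht_os i → i = 3 ∨ i = 4 := by decide +kernel
    rcases t i hi (hc ▸ h1) with rfl | rfl
    exacts [Or.inl ci.symm, Or.inr ci.symm]
  have a3 := h.eq [31, 31, 31] [] (by decide +kernel)
  have b3 := h.eq [32, 32, 32] [] (by decide +kernel)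
  have ac := h.eq [31, 3] [3, 31] (by decide +kernel)
  have bc := h.eq [32, 3] [3, 32] (by decide +kernel)
  have ba := h.eq [32, 31] [3, 3, 31, 32] (by decide +kernel)
  have ab := h.ne [31, 32] [32, 31] (by decide +kernel)
  have ha := h.eq [33, 31] [31, 31, 32, 3, 3, 33] (by decide +kernel)
  have hb := h.eq [33, 32] [31, 31, 32, 32, 3, 3, 33] (by decide +kernel)
  have hc := h.eq [33, 3] [3, 3, 33] (by decide +kernel)
  have h8 := h.eq [34, 13] [33, 34] (by decide +kernel)
  have dc := h.eq [35, 3] [3, 35] (by decide +kernel)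
  have dd := h.eq [35, 35] [] (by decide +kernel)
  have d27 := h.ne (rep 27 [35, 31, 35, 32]) [] (by decide +kernel)
  simp only [ev_rep, ev_cons, ev_nil, mul_one, ← mul_assoc] at a3 b3 ac bc ba ab ha hb hc h8 dc dd d27
  have h8 : orderOf (δ 33) = 8 := (h.info (by norm_num) (isConj_of_mul h8)).1
  have c3 : Nat.card (centralizer {δ 3}) = 1080 := h.cen 3 (by norm_num)
  generalize δ 31 = a, δ 32 = b, δ 33 = u, δ 35 = d, δ 3 = c at *
  have m1 : a ∈ closure {a, c} := subset_closure (by simp)
  have m2 : c ∈ closure {a, c} := subset_closure (by simp)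
  have pa : ∀ a : G, a * a * a = 1 → IsPGroup 3 (closure {a}) := fun a h3 => by
    rw [← zpowers_eq_closure]
    rintro ⟨_, k, rfl⟩
    exact ⟨1, Subtype.ext (by
      simp only [pow_one, SubmonoidClass.coe_pow, OneMemClass.coe_one]
      rw [← zpow_natCast, ← zpow_mul, mul_comm, zpow_mul, zpow_natCast, pow_three', h3, one_zpow])⟩
  have p0 : IsPGroup 3 (closure {b, a, c}) := by
    rw [Set.insert_eq, Subgroup.closure_union]
    refine (pa b b3).to_sup_of_normal_right' ?_ ((closure_le _).2 ?_)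
    · rw [Set.insert_eq, Subgroup.closure_union]
      refine (pa a a3).to_sup_of_normal_right' (pa c (by rw [← pow_three', ← o3, pow_orderOf_eq_one]))
        ((closure_le _).2 ?_)
      rintro _ rfl
      refine H77.mem_normalizer_closure ?_
      rintro _ rfl
      rw [ac, mul_inv_cancel_right]
      exact subset_closure rfl
    · rintro _ rfl
      refine H77.mem_normalizer_closure ?_
      rintro _ (rfl | rfl)
      · rw [ba, mul_inv_cancel_right]
        exact mul_mem (mul_mem m2 m2) m1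
      · rwa [bc, mul_inv_cancel_right]
  have n1 : a ∈ closure {b, a, c} := subset_closure (by simp)
  have n2 : b ∈ closure {b, a, c} := subset_closure (by simp)
  have n3 : c ∈ closure {b, a, c} := subset_closure (by simp)
  obtain ⟨S, hS⟩ := p0.exists_le_sylow
  have eS : closure {b, a, c} = (S : Subgroup G) := eq_of_le_of_card_ge hS (by
    by_contra hlt
    have h1 := card_dvd_of_le hS
    rw [show Nat.card (S : Subgroup G) = 3 ^ 3 from hP S] at h1 hlt
    obtain ⟨k, hk, e⟩ := (Nat.dvd_prime_pow (by norm_num)).1 h1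
    have := H71.isMulCommutative_of_card_le_sq p0 (by
      rw [e] at hlt ⊢
      interval_cases k <;> omega)
    exact ab (congrArg Subtype.val (this.is_comm.comm ⟨a, n1⟩ ⟨b, n2⟩)))
  rw [(h.card_norm P S).1]
  obtain ⟨m, e1, e2⟩ := (h.card_norm S S).2
  have d8 : 8 ∣ Nat.card (normalizer ((S : Subgroup G) : Set G)) := by
    rw [← h8, ← eS]
    refine Subgroup.orderOf_dvd_natCard _ (H77.mem_normalizer_closure ?_)
    rintro _ (rfl | rfl | rfl)
    · rw [hb, mul_inv_cancel_right]
      exact mul_mem (mul_mem (mul_mem (mul_mem (mul_mem n1 n1) n2) n2) n3) n3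
    · rw [ha, mul_inv_cancel_right]
      exact mul_mem (mul_mem (mul_mem (mul_mem n1 n1) n2) n3) n3
    · rw [hc, mul_inv_cancel_right]
      exact mul_mem n3 n3
  have d27' : 27 ∣ Nat.card (normalizer ((S : Subgroup G) : Set G)) :=
    (hP S).symm.dvd.trans (card_dvd_of_le le_normalizer)
  have cS : ∀ y ∈ (S : Subgroup G), y * c = c * y := fun y hy => mem_centralizer_singleton_iff.1 (by
    rw [← eS] at hy
    refine (closure_le (centralizer {c})).2 ?_ hy
    rintro _ (rfl | rfl | rfl) <;> simp [mem_centralizer_singleton_iff, *])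
  obtain ⟨o, ho, e3⟩ := card_eq_mul_orbit (normalizer ((S : Subgroup G) : Set G)) c
    (T := ((center (S : Subgroup G)).map (S : Subgroup G).subtype : Set G) \ {1}) fun g hg => by
      refine ⟨⟨⟨_, (mem_normalizer_iff.1 hg c).1 (eS ▸ n3)⟩, mem_center_iff.2 fun y =>
        Subtype.ext ?_, rfl⟩, fun e => ?_⟩
      · have := cj_comm (conj g) (cS _ ((mem_normalizer_iff''.1 hg y).1 y.2))
        simpa [mul_assoc] using this
      · rw [Set.mem_singleton_iff, conj_eq_one_iff] at e
        simp [e] at o3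
  rw [Set.ncard_sdiff_singleton_of_mem (one_mem _), ← Nat.card_coe_set_eq, SetLike.coe_sort_coe,
    card_map_of_injective Subtype.val_injective, (hX S).2] at ho
  have e4 := card_dvd_of_le (inf_le_right :
    normalizer ((S : Subgroup G) : Set G) ⊓ centralizer {c} ≤ centralizer {c})
  have e5 : Nat.card ↥(normalizer ((S : Subgroup G) : Set G) ⊓ centralizer {c}) ≠ 1080 := fun e => by
    have := eq_of_le_of_card_ge (inf_le_right :
      normalizer ((S : Subgroup G) : Set G) ⊓ centralizer {c} ≤ centralizer {c}) (by omega)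
    have hd := (mem_normalizer_iff.1 (this.ge (mem_centralizer_singleton_iff.2 dc)).1 a).1 (eS ▸ n1)
    rw [inv_eq_of_mul_eq_one_right dd] at hd
    have := pow_card_eq_one' (x := (⟨_, mul_mem hd (eS ▸ n2)⟩ : (S : Subgroup G)))
    rw [show Nat.card (S : Subgroup G) = 27 from hP S] at this
    exact d27 (congrArg Subtype.val this)
  rw [c3] at e4
  generalize Nat.card (normalizer ((S : Subgroup G) : Set G)) = n at *
  generalize Nat.card ↥(normalizer ((S : Subgroup G) : Set G) ⊓ centralizer {c}) = r at *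
  have := Nat.le_of_dvd (by norm_num) e4
  obtain ⟨k, rfl⟩ := Nat.Coprime.mul_dvd_of_dvd_of_dvd (by norm_num) d8 d27'
  have : k ≤ 10 := by nlinarith
  have : k = 1 ∨ k = 4 ∨ k = 7 ∨ k = 10 := by
    clear e3 d8 d27'
    interval_cases k <;> omega
  have : r = 864 ∨ r = 432 ∨ r = 756 ∨ k = 1 := by interval_cases o <;> omega
  rcases this with rfl | rfl | rfl | rfl <;> omega

theorem J2T.five (h : J2T δ) (P : Sylow 5 G) [Fact (Nat.Prime 5)] :
    centralizer ((P : Subgroup G) : Set G) = P ∧
    Nat.card P = 25 ∧ Nat.card (normalizer ((P : Subgroup G) : Set G)) = 300 ∧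
    ∃ X Y : Subgroup G, Nat.card X = 5 ∧ Nat.card Y = 5 ∧
      (∀ g : G, X.map (MulAut.conj g).toMonoidHom ≠ Y) ∧ ∀ W : Subgroup G, Nat.card W = 5 →
        ∃ g : G, W.map (MulAut.conj g).toMonoidHom = X ∨ W.map (MulAut.conj g).toMonoidHom = Y := by
  have := h.finite
  have hP : ∀ P : Sylow 5 G, Nat.card (P : Subgroup G) = 25 := fun P => by
    rw [h.card_sylow]; decide +kernel
  have o6 : orderOf (δ 6) = 5 := h.ord 6 (by norm_num)
  have o8 : orderOf (δ 8) = 5 := h.ord 8 (by norm_num)
  have c6 : Nat.card (centralizer {δ 6}) = 300 := h.cen 6 (by norm_num)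
  have c8 : Nat.card (centralizer {δ 8}) = 50 := h.cen 8 (by norm_num)
  have nz : ∀ a y : G, Nat.card (centralizer {a}) = 300 → Nat.card (centralizer {y}) = 50 →
      y ∉ zpowers a := fun a y ha hy hm => by
    have := card_le_of_le (cent_zp a ▸ centralizer_le (Set.singleton_subset_iff.2 hm) :
      centralizer {a} ≤ centralizer {y})
    omega
  refine ⟨?_, hP P, ?_, zpowers (δ 6), zpowers (δ 8), by rw [Nat.card_zpowers, o6],
    by rw [Nat.card_zpowers, o8], fun g e => ?_, fun W hW => ?_⟩
  · have := H71.isMulCommutative_of_card_le_sq P.2 (hP P).le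
    refine P.3 (fun x => ?_) (le_centralizer _)
    obtain ⟨i, hi, -, h1, h2⟩ := h.exists_info (x : G)
    have := card_dvd_of_le (H := (P : Subgroup G)) (K := centralizer {(x : G)}) fun y hy =>
      mem_centralizer_singleton_iff.2 (mem_centralizer_iff.1 x.2 y hy)
    rw [hP, h2] at this
    have t : ∀ i < 21, 25 ∣ nthN ht_cs i → nthN ht_os i ∣ 5 := by decide +kernel
    exact ⟨1, orderOf_dvd_iff_pow_eq_one.1 (by rw [← orderOf_coe, h1]; exact t i hi this)⟩
  rotate_left
  · rw [MonoidHom.map_zpowers] at e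
    exact nz _ _ ((card_cent_equiv (conj g) _).trans c6) c8 (e ▸ mem_zpowers _)
  · obtain ⟨x, ox, rfl⟩ := exists_gen_of_prime hW
    obtain ⟨i, hi, ci, h1, -⟩ := h.exists_info x
    obtain ⟨g, hg⟩ := isConj_iff.1 ci.symm
    refine ⟨g, ?_⟩
    rw [MonoidHom.map_zpowers, show (conj g).toMonoidHom x = δ i from hg]
    have e7 := h.eq [7] [6, 6] (by decide +kernel)
    have e9 := h.eq [9] [8, 8] (by decide +kernel)
    simp only [ev_cons, ev_nil, mul_one] at e7 e9
    have key : ∀ a : G, orderOf a = 5 → zpowers (a * a) = zpowers a := fun a ha =>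
      le_antisymm (zpowers_le.2 (mul_mem (mem_zpowers a) (mem_zpowers a))) (zpowers_le.2 ⟨3, by
        have := pow_orderOf_eq_one a
        rw [ha] at this
        calc (a * a) ^ (3 : ℤ) = a ^ 5 * a := by rw [← sq]; group
          _ = a := by rw [this, one_mul]⟩)
    have t : ∀ i < 21, 5 = nthN ht_os i → i = 6 ∨ i = 7 ∨ i = 8 ∨ i = 9 := by decide +kernel
    rcases t i hi (ox ▸ h1) with rfl | rfl | rfl | rfl
    exacts [Or.inl rfl, Or.inl (e7 ▸ key _ o6), Or.inr rfl, Or.inr (e9 ▸ key _ o8)]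
  have ca := h.info (by norm_num : 6 < 21) (x := δ 25) (isConj_of_mul (k := δ 26)
    (by simpa only [ev_cons, ev_nil, mul_one] using h.eq [26, 6] [25, 26] (by decide +kernel)))
  have cw := h.info (by norm_num : 11 < 21) (x := δ 27) (isConj_of_mul (k := δ 28)
    (by simpa only [ev_cons, ev_nil, mul_one] using h.eq [28, 11] [27, 28] (by decide +kernel)))
  have oa : orderOf (δ 25) = 5 := ca.1
  have ca : Nat.card (centralizer {δ 25}) = 300 := ca.2
  have ow : orderOf (δ 27) = 6 := cw.1
  have ay := h.eq [25, 8] [8, 25] (by decide +kernel)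
  have wy := h.eq [27, 8] [8, 8, 8, 25, 25, 25, 25, 27] (by decide +kernel)
  have wa := h.eq [27, 25] [8, 8, 25, 25, 25, 27] (by decide +kernel)
  simp only [ev_cons, ev_nil, mul_one, ← mul_assoc] at ay wy wa
  generalize δ 25 = a, δ 27 = w, δ 8 = y at *
  have n1 : a ∈ closure {a, y} := subset_closure (by simp)
  have n2 : y ∈ closure {a, y} := subset_closure (by simp)
  have p0 : IsPGroup 5 (closure {a, y}) := by
    rw [Set.insert_eq, Subgroup.closure_union, ← zpowers_eq_closure, ← zpowers_eq_closure]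
    exact (isPGroup_zp oa).to_sup_of_normal_right' (isPGroup_zp o8) (zpowers_le.2
      (centralizer_le_normalizer _ (cent_zp y ▸ mem_centralizer_singleton_iff.2 ay)))
  obtain ⟨S, hS⟩ := p0.exists_le_sylow
  have eS : closure {a, y} = (S : Subgroup G) := eq_of_le_of_card_ge hS (by
    have h1 := card_dvd_of_le hS
    have h2 := card_dvd_of_le (zpowers_le.2 n1)
    have h3 : Nat.card (closure {a, y}) ≠ 5 := fun e => nz a y ca c8
      ((eq_of_le_of_card_ge (zpowers_le.2 n1) (by rw [Nat.card_zpowers, oa, e])).ge n2)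
    rw [Nat.card_zpowers, oa] at h2
    rw [hP S] at h1 ⊢
    have := Nat.le_of_dvd (by norm_num) h1
    generalize Nat.card (closure {a, y}) = k at *
    interval_cases k <;> omega)
  rw [(h.card_norm P S).1]
  obtain ⟨m, e1, e2⟩ := (h.card_norm S S).2
  have d6 : 6 ∣ Nat.card (normalizer ((S : Subgroup G) : Set G)) := by
    rw [← ow, ← eS]
    refine Subgroup.orderOf_dvd_natCard _ (H77.mem_normalizer_closure ?_)
    rintro _ (rfl | rfl)
    · rw [wa, mul_inv_cancel_right]
      exact mul_mem (mul_mem (mul_mem (mul_mem n2 n2) n1) n1) n1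
    · rw [wy, mul_inv_cancel_right]
      exact mul_mem (mul_mem (mul_mem (mul_mem (mul_mem (mul_mem n2 n2) n2) n1) n1) n1) n1
  have d25 : 25 ∣ Nat.card (normalizer ((S : Subgroup G) : Set G)) :=
    (hP S).symm.dvd.trans (card_dvd_of_le le_normalizer)
  obtain ⟨o, ho, e3⟩ := card_eq_mul_orbit (normalizer ((S : Subgroup G) : Set G)) y
    (T := ((S : Subgroup G) : Set G) \ zpowers a) fun g _hg =>
      ⟨(mem_normalizer_iff.1 _hg y).1 (eS ▸ n2), nz _ _ ca ((card_cent_equiv (conj g) _).trans c8)⟩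
  rw [Set.ncard_sdiff (zpowers_le.2 (eS ▸ n1)), ← Nat.card_coe_set_eq, ← Nat.card_coe_set_eq,
    SetLike.coe_sort_coe, SetLike.coe_sort_coe, hP, Nat.card_zpowers, oa] at ho
  have e4 := card_le_of_le (inf_le_right :
    normalizer ((S : Subgroup G) : Set G) ⊓ centralizer {y} ≤ centralizer {y})
  rw [c8] at e4
  have := e3 ▸ Nat.mul_le_mul e4 ho
  generalize Nat.card (normalizer ((S : Subgroup G) : Set G)) = n at *
  obtain ⟨k, rfl⟩ := Nat.Coprime.mul_dvd_of_dvd_of_dvd (by norm_num) d6 d25
  have : k ≤ 6 := by omega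
  clear e3 d6 d25
  interval_cases k <;> omega

theorem J2T.twoB (h : J2T δ) : Nonempty (centralizer {δ 2} ≃*
      (Multiplicative (ZMod 2) × Multiplicative (ZMod 2)) × alternatingGroup (Fin 5)) ∧
    Nonempty (normalizer (((pCore 2 (centralizer {δ 2})).map (centralizer {δ 2}).subtype :
      Subgroup G) : Set G) ≃* alternatingGroup (Fin 4) × alternatingGroup (Fin 5)) := by
  have := h.finite
  have ot : orderOf (δ 2) = 2 := h.ord 2 (by norm_num)
  have ct : Nat.card (centralizer {δ 2}) = 240 := h.cen 2 (by norm_num)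
  have vt := h.eq [36, 2] [2, 36] (by decide +kernel)
  have xt := h.eq [37, 2] [2, 37] (by decide +kernel)
  have at' := h.eq [38, 2] [2, 38] (by decide +kernel)
  have xs := h.eq [37, 39] [39, 37] (by decide +kernel)
  have as := h.eq [38, 39] [39, 38] (by decide +kernel)
  have st := h.eq [39, 2] [36, 39] (by decide +kernel)
  have sv := h.eq [39, 36] [2, 36, 39] (by decide +kernel)
  have s3 := h.eq (rep 3 [39]) [] (by decide +kernel)
  have s1 := h.ne [39] [] (by decide +kernel)
  have tv := h.ne [2] [36] (by decide +kernel)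
  have xx := h.eq [37, 37] [] (by decide +kernel)
  have a5 := h.eq (rep 5 [38]) [] (by decide +kernel)
  have xa := h.eq (rep 3 [37, 38]) [] (by decide +kernel)
  have a1 := h.ne [38] [] (by decide +kernel)
  simp only [ev_rep, ev_cons, ev_nil, mul_one, ← mul_assoc] at vt xt at' xs as st sv s3 s1 tv xx a5 xa a1
  obtain ⟨eL⟩ := H29.nonempty_closure_mulEquiv_A5 xx a5 xa a1
  have t6 : ∀ i < 21, 6 = nthN ht_os i → ¬ 60 ∣ nthN ht_cs i := by decide +kernel
  have i6 : ∀ g : G, orderOf g = 6 → ¬ 60 ∣ Nat.card (centralizer {g}) := fun g hg => by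
    obtain ⟨i, hi, -, h1, h2⟩ := h.exists_info g
    exact h2 ▸ t6 i hi (hg ▸ h1)
  generalize δ 2 = t, δ 36 = v, δ 37 = x, δ 38 = a, δ 39 = s at *
  generalize hL : closure {x, a} = L at eL
  have cL : Nat.card L = 60 := (Nat.card_congr eL.toEquiv).trans card_A5
  have os : orderOf s = 3 := orderOf_eq_prime s3 s1
  have ov : orderOf v = 2 := ((conj s).orderOf_eq t ▸ congrArg orderOf (cj_iff.2 st)).symm.trans ot
  have cm : ∀ y, x * y = y * x → a * y = y * a → y ∈ centralizer (L : Set G) := fun y h1 h2 => by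
    rw [← hL, centralizer_closure]
    rintro _ (rfl | rfl)
    exacts [h1, h2]
  have tC := cm t xt at'
  have sC := cm s xs as
  have vC : v ∈ centralizer (L : Set G) := by
    rw [← cj_iff.2 st]; exact mul_mem (mul_mem sC tC) (inv_mem sC)
  have pr : ∀ A : Subgroup G, A ≤ centralizer (L : Set G) → Nonempty (↥(A ⊔ L) ≃* A × L) :=
    fun A hA => H5.nonempty_equiv_prod (fun y hy z hz => (mem_centralizer_iff.1 (hA hy) z hz).symm)
      (eq_bot_iff.2 fun y hy => by
        have : eL ⟨y, hy.2⟩ ∈ center (alternatingGroup (Fin 5)) := mem_center_iff.2 fun z => by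
          obtain ⟨z, rfl⟩ := eL.surjective z
          rw [← map_mul, ← map_mul]
          exact congrArg eL (Subtype.ext (mem_centralizer_iff.1 (hA hy.1) z z.2))
        rw [alternatingGroup.center_eq_bot (by simp), mem_bot, eL.map_eq_one_iff] at this
        exact congrArg Subtype.val this) rfl
  obtain ⟨eV⟩ := H5.nonempty_equiv_prod (X := zpowers t) (A := zpowers v) (by
    rintro _ ⟨i, rfl⟩ _ ⟨j, rfl⟩
    exact Commute.zpow_zpow vt.symm i j) (eq_bot_iff.2 fun y hy => by
      by_contra hne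
      exact tv ((((H49.mem_zpowers_invol (H49.orderOf_two_iff.1 ot).2).1 hy.1).resolve_left
        hne).symm.trans (((H49.mem_zpowers_invol (H49.orderOf_two_iff.1 ov).2).1 hy.2).resolve_left
        hne))) rfl
  have m1 : t ∈ zpowers t ⊔ zpowers v := mem_sup_left (mem_zpowers t)
  have m2 : v ∈ zpowers t ⊔ zpowers v := mem_sup_right (mem_zpowers v)
  have sN : s ∈ normalizer ((zpowers t ⊔ zpowers v : Subgroup G) : Set G) := by
    rw [zpowers_eq_closure, zpowers_eq_closure, ← Subgroup.closure_union] at m1 m2 ⊢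
    refine H77.mem_normalizer_closure ?_
    rintro _ (rfl | rfl)
    · rwa [st, mul_inv_cancel_right]
    · rw [sv, mul_inv_cancel_right]; exact mul_mem m1 m2
  have VC : zpowers t ⊔ zpowers v ≤ centralizer (L : Set G) :=
    sup_le (zpowers_le.2 tC) (zpowers_le.2 vC)
  have Vt : zpowers t ⊔ zpowers v ≤ centralizer {t} :=
    sup_le (zpowers_le.2 (mem_centralizer_singleton_iff.2 rfl))
      (zpowers_le.2 (mem_centralizer_singleton_iff.2 vt))
  have Vv : zpowers t ⊔ zpowers v ≤ centralizer {v} :=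
    sup_le (zpowers_le.2 (mem_centralizer_singleton_iff.2 vt.symm))
      (zpowers_le.2 (mem_centralizer_singleton_iff.2 rfl))
  have VV : zpowers t ⊔ zpowers v ≤ centralizer ((zpowers t ⊔ zpowers v : Subgroup G) : Set G) :=
    sup_le (zpowers_le.2 fun y hy => mem_centralizer_singleton_iff.1 (Vt hy))
      (zpowers_le.2 fun y hy => mem_centralizer_singleton_iff.1 (Vv hy))
  have z2 : ∀ y : G, orderOf y = 2 → Nonempty (zpowers y ≃* Multiplicative (ZMod 2)) := fun y hy =>
    ⟨mulEquivOfPrimeCardEq (p := 2) (by rw [Nat.card_zpowers, hy]) (by simp)⟩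
  obtain ⟨e1⟩ := z2 t ot
  obtain ⟨e2⟩ := z2 v ov
  have eV := eV.trans (e1.prodCongr e2)
  generalize zpowers t ⊔ zpowers v = V at *
  have cV : Nat.card V = 4 := by rw [Nat.card_congr eV.toEquiv]; simp
  obtain ⟨f⟩ := pr V VC
  have LV : L ≤ centralizer (V : Set G) := le_centralizer_iff.1 VC
  have eC : V ⊔ L = centralizer {t} := eq_of_le_of_card_ge
    (sup_le Vt fun y hy => mem_centralizer_singleton_iff.2 (mem_centralizer_iff.1 tC y hy))
    (by rw [ct, Nat.card_congr f.toEquiv, Nat.card_prod, cV, cL])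
  have f := ((MulEquiv.subgroupCongr eC).symm.trans f).trans (eV.prodCongr eL)
  refine ⟨⟨f⟩, ?_⟩
  have eO : (pCore 2 (centralizer {t})).map (centralizer {t}).subtype = V := by
    have hn : (V.subgroupOf (centralizer {t})).Normal := (normal_subgroupOf_iff_le_normalizer Vt).2
      (eC ▸ (sup_le VV LV).trans (centralizer_le_normalizer _))
    have c4 : Nat.card (V.subgroupOf (centralizer {t})) = 4 :=
      (Nat.card_congr (subgroupOfEquivOfLe Vt).toEquiv).trans cV
    have hs : Function.Surjective ((MonoidHom.snd _ _).comp f.toMonoidHom) :=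
      Prod.snd_surjective.comp f.surjective
    rw [← map_subgroupOf_eq_of_le Vt]
    congr 1
    refine (eq_of_le_of_card_ge (H3.le_pCore_iff.2 (IsPGroup.of_card (n := 2) c4)) ?_).symm
    have hp : IsPGroup 2 (pCore 2 (centralizer {t})) := H3.le_pCore_iff.1 le_rfl
    rcases ((inferInstance : (pCore 2 (centralizer {t})).Normal).map _ hs).eq_bot_or_eq_top with e | e
    · have a := card_le_of_le ((Subgroup.map_eq_bot_iff _).1 e)
      have b := ((MonoidHom.snd _ _).comp f.toMonoidHom).ker.card_mul_index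
      rw [index_ker, MonoidHom.range_eq_top.2 hs, card_top, card_A5, ct] at b
      omega
    · obtain ⟨k, hk⟩ := (e ▸ hp.map _ : IsPGroup 2 (⊤ : Subgroup (alternatingGroup (Fin 5)))).exists_card_eq
      rw [card_top, card_A5] at hk
      have : 3 ∣ 2 ^ k := hk ▸ by norm_num
      exact absurd (Nat.Prime.dvd_of_dvd_pow (by norm_num) this) (by norm_num)
  rw [eO]
  have AC : V ⊔ zpowers s ≤ centralizer (L : Set G) := sup_le VC (zpowers_le.2 sC)
  obtain ⟨g⟩ := pr _ AC
  have hle : V ⊔ zpowers s ⊔ L ≤ normalizer (V : Set G) :=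
    sup_le (sup_le le_normalizer (zpowers_le.2 sN)) (LV.trans (centralizer_le_normalizer _))
  obtain ⟨o, ho, e3⟩ := card_eq_mul_orbit (normalizer (V : Set G)) t (T := (V : Set G) \ {1})
    fun g hg => ⟨(mem_normalizer_iff.1 hg t).1 m1, fun e => by
      rw [Set.mem_singleton_iff, conj_eq_one_iff] at e
      simp [e] at ot⟩
  rw [Set.ncard_sdiff_singleton_of_mem (one_mem _), ← Nat.card_coe_set_eq, SetLike.coe_sort_coe,
    cV] at ho
  have e4 := card_le_of_le (inf_le_right : normalizer (V : Set G) ⊓ centralizer {t} ≤ centralizer {t})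
  have e5 := e3 ▸ Nat.mul_le_mul (ct ▸ e4) ho
  have e6 := card_le_of_le hle
  have e7 := (Nat.card_congr g.toEquiv).trans (Nat.card_prod _ _)
  have d4 := cV ▸ card_dvd_of_le (le_sup_left : V ≤ V ⊔ zpowers s)
  have d3 := os ▸ Subgroup.orderOf_dvd_natCard _ (mem_sup_right (mem_zpowers s) : s ∈ V ⊔ zpowers s)
  have p0 : 0 < Nat.card ↥(V ⊔ zpowers s) := Nat.card_pos
  rw [cL] at e7
  obtain ⟨eA⟩ := H29.nonempty_mulEquiv_A4 (G := ↥(V ⊔ zpowers s)) (by omega) fun y hy =>
    i6 y ((orderOf_coe y).trans hy) (cL ▸ card_dvd_of_le fun z hz =>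
      mem_centralizer_singleton_iff.2 (mem_centralizer_iff.1 (AC y.2) z hz))
  exact ⟨((MulEquiv.subgroupCongr (eq_of_le_of_card_ge hle (by omega))).symm.trans g).trans
    (eA.prodCongr eL)⟩

end Cfsg.Agent.H70
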