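import Mathlib
import Cfsg.Agent.H99.HNDefs
import Cfsg.Agent.S3335

/-!
Piece A12 of project HN3: the subgroup `A₁₂`.
-/

set_option autoImplicit false

namespace Cfsg.Agent.H70.HnA12

open Cfsg Subgroup Equiv Cfsg.Agent.H99.HN
open Cfsg.Agent.H91 (SL25 slX)
open Cfsg.Agent.S3335 (Rel rels)

universe u

theorem moore {m : ℕ} (hm : 3 ≤ m) {z : Fin m → alternatingGroup (Fin (m + 2))} (hz : Rel z)
    (h1 : ∃ i, z i ≠ 1) : Function.Bijective (PresentedGroup.toGroup hz.lift) := by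
  obtain ⟨e⟩ := S3335.main m
  have : IsSimpleGroup (alternatingGroup (Fin (m + 2))) :=
    alternatingGroup.isSimpleGroup (by simp; omega)
  have : IsSimpleGroup (PresentedGroup (rels m)) := e.isSimpleGroup
  have : Finite (PresentedGroup (rels m)) := Finite.of_equiv _ e.symm.toEquiv
  refine (Nat.bijective_iff_injective_and_card _).2 ⟨?_, Nat.card_congr e.toEquiv⟩
  rcases (PresentedGroup.toGroup hz.lift).normal_ker.eq_bot_or_eq_top with h | h
  · exact (MonoidHom.ker_eq_bot_iff _).1 h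
  · obtain ⟨i, hi⟩ := h1
    have h2 : PresentedGroup.of i ∈ (PresentedGroup.toGroup hz.lift).ker := h ▸ mem_top _
    rw [MonoidHom.mem_ker, PresentedGroup.toGroup.of] at h2
    exact (hi h2).elim

theorem moore_hom {m : ℕ} (hm : 3 ≤ m) {z : Fin m → alternatingGroup (Fin (m + 2))} (hz : Rel z)
    (h1 : ∃ i, z i ≠ 1) {G : Type*} [Group G] {x : Fin m → G} (hx : Rel x) :
    ∃ ψ : alternatingGroup (Fin (m + 2)) →* G, ∀ i, ψ (z i) = x i := by
  let e := MulEquiv.ofBijective _ (moore hm hz h1)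
  refine ⟨(PresentedGroup.toGroup hx.lift).comp e.symm.toMonoidHom, fun i => ?_⟩
  have : e.symm (z i) = PresentedGroup.of i :=
    e.symm_apply_eq.2 (PresentedGroup.toGroup.of hz.lift).symm
  show PresentedGroup.toGroup hx.lift (e.symm (z i)) = x i
  rw [this, PresentedGroup.toGroup.of]

theorem moore_gen {m : ℕ} (hm : 3 ≤ m) {z : Fin m → alternatingGroup (Fin (m + 2))} (hz : Rel z)
    (h1 : ∃ i, z i ≠ 1) (H : Subgroup (alternatingGroup (Fin (m + 2)))) (hH : ∀ i, z i ∈ H)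
    (γ : alternatingGroup (Fin (m + 2))) : γ ∈ H := by
  obtain ⟨w, rfl⟩ := (moore hm hz h1).2 γ
  have : w ∈ H.comap (PresentedGroup.toGroup hz.lift) :=
    PresentedGroup.generated_by _ _ (fun i => by
      rw [mem_comap, PresentedGroup.toGroup.of]; exact hH i) w
  exact this

theorem Rel.map {G H : Type*} [Group G] [Group H] {m : ℕ} {x : Fin m → G} (h : Rel x) (f : G →* H) :
    Rel fun i => f (x i) :=
  ⟨fun i e => by rw [← map_pow, h.h0 i e, map_one], fun i e => by rw [← map_pow, h.h1 i e, map_one],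
    fun i j e => by rw [← map_mul, ← map_pow, h.h3 i j e, map_one],
    fun i j e => by rw [← map_mul, ← map_pow, h.h2 i j e, map_one]⟩

/-- `(0 1 2)` -/
def p : A9 := dd 0 1 1 2
/-- `(3 4 5)` -/
def r : A9 := dd 3 4 4 5
/-- `(6 7 8)` -/
def q : A9 := dd 6 7 7 8
/-- `(0 1 6)` -/
def c0 : A9 := dd 0 1 1 6
/-- `(0 1 8)` -/
def al : A9 := dd 0 1 1 8
/-- `(6 7 3)` -/
def c' : A9 := dd 6 7 7 3
/-- `(0 3 1 4)(2 5)` -/
def k0 : A9 := dd 0 3 3 1 * dd 1 4 2 5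
/-- the rotation of the blocks -/
def τ : A9 := dd 0 6 6 3 * dd 1 7 7 4 * dd 2 8 8 5
/-- Moore generators -/
def m2 : Fin 7 → A9 :=
  ![dd 6 7 7 5, dd 6 7 5 4, dd 6 7 4 3, dd 6 7 3 8, dd 6 7 8 0, dd 6 7 0 1, dd 6 7 1 2]
/-- Moore generators -/
def m4 : Fin 7 → A9 :=
  ![dd 6 7 7 8, dd 6 7 8 0, dd 6 7 0 1, dd 6 7 1 2, dd 6 7 2 3, dd 6 7 3 4, dd 6 7 4 5]
/-- Moore generators -/
def zz : Fin 10 → A12 :=
  ![dd 6 7 7 10, dd 6 7 10 9, dd 6 7 9 8, dd 6 7 8 11, dd 6 7 11 0, dd 6 7 0 2, dd 6 7 2 4,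
    dd 6 7 4 1, dd 6 7 1 3, dd 6 7 3 5]

theorem rel2 : Rel m2 := ⟨by decide +kernel, by decide +kernel, by decide +kernel, by decide +kernel⟩
theorem rel4 : Rel m4 := ⟨by decide +kernel, by decide +kernel, by decide +kernel, by decide +kernel⟩
theorem relz : Rel zz := ⟨by decide +kernel, by decide +kernel, by decide +kernel, by decide +kernel⟩

theorem zz_ne : ∃ i, zz i ≠ 1 := ⟨0, fun e =>
  absurd (congrArg (fun g : A12 => g.1 6) e) (by decide +kernel)⟩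

/-- evaluation of a word -/
def ev {X : Type*} [Group X] {n : ℕ} (g : Fin n → X) (w : List (Fin n)) : X := (w.map g).prod

theorem ev_mem {X : Type*} [Group X] {n : ℕ} {g : Fin n → X} {H : Subgroup X} (h : ∀ i, g i ∈ H)
    (w : List (Fin n)) {x : X} (e : x = ev g w) : x ∈ H := by
  rw [e]
  refine H.list_prod_mem fun y hy => ?_
  obtain ⟨i, -, rfl⟩ := List.mem_map.1 hy
  exact h i

/-- the map with prescribed values off the middle block -/
def fn (a b c d e f : Fin 9) : Fin 9 → Fin 9 := ![a, b, c, 3, 4, 5, d, e, f]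

set_option synthInstance.maxSize 100000 in
set_option synthInstance.maxHeartbeats 1000000 in
set_option maxRecDepth 100000 in
theorem chk : ∀ a : Fin 9, a ≠ 3 → a ≠ 4 → a ≠ 5 → ∀ b : Fin 9, b ≠ 3 → b ≠ 4 → b ≠ 5 → b ≠ a →
    ∀ c : Fin 9, c ≠ 3 → c ≠ 4 → c ≠ 5 → c ≠ a → c ≠ b →
    ∀ d : Fin 9, d ≠ 3 → d ≠ 4 → d ≠ 5 → d ≠ a → d ≠ b → d ≠ c →
    ∀ e : Fin 9, e ≠ 3 → e ≠ 4 → e ≠ 5 → e ≠ a → e ≠ b → e ≠ c → e ≠ d →
    ∀ f : Fin 9, f ≠ 3 → f ≠ 4 → f ≠ 5 → f ≠ a → f ≠ b → f ≠ c → f ≠ d → f ≠ e →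
    (∀ x, fn a b c d e f (fn a b c d e f (fn a b c d e f x)) = x) →
    (∀ x, p.1 (fn a b c d e f (p.1 (fn a b c d e f x))) = x) →
    (¬ ∀ x, fn a b c d e f (q.1 x) = q.1 (fn a b c d e f x)) →
    ∃ i l : Fin 3, ∀ x, fn a b c d e f x =
      (p ^ i.val * q ^ l.val * c0 * (p ^ i.val * q ^ l.val)⁻¹).1 x := by
  decide +kernel

theorem chk3 : ∀ s : Fin 9, r.1 s ≠ s →
    (∀ g : Fin 9 → Fin 9, g 3 = s → g 4 = r.1 s → g 5 = r.1 (r.1 s) → p.1 (g (p.1 s)) = 3 → s = 3) := by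
  intro s hs g h3 h4 h5 h
  have h1 : s = 3 ∨ s = 4 ∨ s = 5 :=
    (by decide : ∀ s : Fin 9, r.1 s ≠ s → s = 3 ∨ s = 4 ∨ s = 5) s hs
  rcases h1 with rfl | rfl | rfl
  · rfl
  · rw [show p.1 4 = 4 by decide, h4] at h
    exact absurd h (by decide)
  · rw [show p.1 5 = 5 by decide, h5] at h
    exact absurd h (by decide)

theorem core {γ : A9} (h1 : γ * r = r * γ) (h2 : γ ^ 3 = 1) (h3 : (p * γ) ^ 2 = 1)
    (h4 : γ * q ≠ q * γ) : ∃ i l : ℕ, γ = p ^ i * q ^ l * c0 * (p ^ i * q ^ l)⁻¹ := by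
  have e1 : ∀ x, γ.1 (r.1 x) = r.1 (γ.1 x) := fun x => congrArg (fun g : A9 => g.1 x) h1
  have e2 : ∀ x, γ.1 (γ.1 (γ.1 x)) = x := fun x => by
    rw [pow_three] at h2
    exact congrArg (fun g : A9 => g.1 x) h2
  have e3 : ∀ x, p.1 (γ.1 (p.1 (γ.1 x))) = x := fun x => by
    rw [pow_two] at h3
    exact congrArg (fun g : A9 => g.1 x) h3
  have e4 : ¬ ∀ x, γ.1 (q.1 x) = q.1 (γ.1 x) := fun h => h4 (Subtype.ext (Equiv.ext h))
  have r3 : r.1 3 = 4 := by decide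
  have r4 : r.1 4 = 5 := by decide
  have g4 : γ.1 4 = r.1 (γ.1 3) := by rw [← e1, r3]
  have g5 : γ.1 5 = r.1 (r.1 (γ.1 3)) := by rw [← g4, ← e1, r4]
  have f3 : γ.1 3 = 3 := chk3 _ (fun e => absurd (γ.1.injective (g4.trans e)) (by decide)) γ.1 rfl
    g4 g5 (e3 3)
  have f4 : γ.1 4 = 4 := by rw [g4, f3, r3]
  have f5 : γ.1 5 = 5 := by rw [g5, f3, r3, r4]
  have ef : fn (γ.1 0) (γ.1 1) (γ.1 2) (γ.1 6) (γ.1 7) (γ.1 8) = γ.1 := by
    funext x
    fin_cases x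
    exacts [rfl, rfl, rfl, f3.symm, f4.symm, f5.symm, rfl, rfl, rfl]
  have n : ∀ {x y : Fin 9}, x ≠ y → γ.1 x ≠ γ.1 y := fun h e => h (γ.1.injective e)
  have n3 : ∀ {x : Fin 9}, x ≠ 3 → γ.1 x ≠ 3 := fun h => f3 ▸ n h
  have n4 : ∀ {x : Fin 9}, x ≠ 4 → γ.1 x ≠ 4 := fun h => f4 ▸ n h
  have n5 : ∀ {x : Fin 9}, x ≠ 5 → γ.1 x ≠ 5 := fun h => f5 ▸ n h
  obtain ⟨i, l, h⟩ := chk (γ.1 0) (n3 (by decide)) (n4 (by decide)) (n5 (by decide))
    (γ.1 1) (n3 (by decide)) (n4 (by decide)) (n5 (by decide)) (n (by decide))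
    (γ.1 2) (n3 (by decide)) (n4 (by decide)) (n5 (by decide)) (n (by decide)) (n (by decide))
    (γ.1 6) (n3 (by decide)) (n4 (by decide)) (n5 (by decide)) (n (by decide)) (n (by decide))
    (n (by decide))
    (γ.1 7) (n3 (by decide)) (n4 (by decide)) (n5 (by decide)) (n (by decide)) (n (by decide))
    (n (by decide)) (n (by decide))
    (γ.1 8) (n3 (by decide)) (n4 (by decide)) (n5 (by decide)) (n (by decide)) (n (by decide))
    (n (by decide)) (n (by decide)) (n (by decide))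
    (by rw [ef]; exact e2) (by rw [ef]; exact e3) (by rw [ef]; exact e4)
  rw [ef] at h
  exact ⟨i, l, Subtype.ext (Equiv.ext h)⟩

variable {G : Type u} [Group G]

/-- a centralizer `3 × A₉` -/
structure E9 (φ : A9 →* G) (a b₁ b₂ b₃ : G) : Prop where
  inj : Function.Injective φ
  e0 : φ p = b₁
  e1 : φ r = b₂
  e2 : φ q = b₃
  a3 : a ^ 3 = 1
  com : ∀ γ, φ γ * a = a * φ γ
  cen : ∀ g, g * a = a * g → ∃ (i : ℕ) (γ : A9), g = a ^ i * φ γ

variable {φ : A9 →* G} {a b₁ b₂ b₃ : G}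

theorem E9.conj (h : E9 φ a b₁ b₂ b₃) (n : G) : E9 ((MulAut.conj n).toMonoidHom.comp φ)
    (n * a * n⁻¹) (n * b₁ * n⁻¹) (n * b₂ * n⁻¹) (n * b₃ * n⁻¹) where
  inj := (MulAut.conj n).injective.comp h.inj
  e0 := h.e0 ▸ rfl
  e1 := h.e1 ▸ rfl
  e2 := h.e2 ▸ rfl
  a3 := by rw [conj_pow, h.a3]; simp
  com γ := by
    show n * φ γ * n⁻¹ * _ = _ * (n * φ γ * n⁻¹)
    rw [conj_mul, conj_mul, h.com]
  cen g e := by
    obtain ⟨i, γ, e'⟩ := h.cen (n⁻¹ * g * n) (by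
      calc n⁻¹ * g * n * a = n⁻¹ * (g * (n * a * n⁻¹)) * n := by group
        _ = n⁻¹ * (n * a * n⁻¹ * g) * n := by rw [e]
        _ = _ := by group)
    refine ⟨i, γ, ?_⟩
    show g = _ * (n * φ γ * n⁻¹)
    rw [conj_pow, conj_mul, ← e']
    group

theorem E9.rel (h : E9 φ a b₁ b₂ b₃) (d : A9) : E9 (φ.comp (MulAut.conj d).toMonoidHom) a
    (φ (d * p * d⁻¹)) (φ (d * r * d⁻¹)) (φ (d * q * d⁻¹)) where
  inj := h.inj.comp (MulAut.conj d).injective
  e0 := rfl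
  e1 := rfl
  e2 := rfl
  a3 := h.a3
  com _ := h.com _
  cen g e := by
    obtain ⟨i, γ, e'⟩ := h.cen g e
    refine ⟨i, d⁻¹ * γ * d, ?_⟩
    show g = _ * φ (d * (d⁻¹ * γ * d) * d⁻¹)
    rw [e']
    congr 2
    group

theorem E9.y1 (h : E9 φ a b₁ b₂ b₃) {y : G} (ya : y * a = a * y) (y2 : y * b₂ = b₂ * y)
    (y1 : (b₁ * y) ^ 2 = 1) (y0 : y ^ 3 = 1) (y3 : y * b₃ ≠ b₃ * y) :
    ∃ i l : ℕ, y = φ (p ^ i * q ^ l * c0 * (p ^ i * q ^ l)⁻¹) := by
  obtain ⟨i, γ, e⟩ := h.cen y ya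
  have cm : ∀ δ, Commute (a ^ i) (φ δ) := fun δ => (show Commute a (φ δ) from (h.com δ).symm).pow_left i
  have h1 : (a ^ i) ^ 2 * φ ((p * γ) ^ 2) = 1 := by
    rw [map_pow, ← (cm _).mul_pow, map_mul, ← mul_assoc, (cm p).eq, mul_assoc, ← e, h.e0, y1]
  have h2 : (p * γ) ^ 2 = 1 := by
    have : IsSimpleGroup A9 := alternatingGroup.isSimpleGroup (by simp)
    have h3 : (p * γ) ^ 2 ∈ center A9 := mem_center_iff.2 fun δ => h.inj (by
      rw [map_mul, map_mul, eq_inv_of_mul_eq_one_right h1]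
      exact ((cm δ).pow_left 2).inv_left.eq.symm)
    rcases (inferInstance : (center A9).Normal).eq_bot_or_eq_top with h4 | h4
    · rwa [h4, mem_bot] at h3
    · exact absurd (mem_center_iff.1 (h4 ▸ mem_top p) c0) (by decide)
  rw [h2, map_one, mul_one] at h1
  have h3 : a ^ i = 1 := by
    have : (a ^ i) ^ 3 = 1 := by rw [← pow_mul, mul_comm, pow_mul, h.a3, one_pow]
    rwa [pow_succ, h1, one_mul] at this
  rw [h3, one_mul] at e
  subst e
  obtain ⟨i, l, e⟩ := core (γ := γ) (h.inj (by rw [map_mul, map_mul, h.e1, y2]))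
    (h.inj (by rw [map_pow, y0, map_one])) h2
    (fun e => y3 (by rw [← h.e2, ← map_mul, ← map_mul, e]))
  exact ⟨i, l, congrArg φ e⟩

theorem E9.y2 (h : E9 φ a b₁ b₂ b₃) {y : G} (ya : y * a = a * y) (y2 : y * b₁ = b₁ * y)
    (y1 : (b₃ * y) ^ 2 = 1) (y0 : y ^ 3 = 1) (y3 : y * b₂ ≠ b₂ * y) :
    ∃ i l : ℕ, y = b₃ ^ i * b₂ ^ l * φ c' * (b₃ ^ i * b₂ ^ l)⁻¹ := by
  have h' := h.rel τ
  rw [show τ * p * τ⁻¹ = q by decide, show τ * r * τ⁻¹ = p by decide,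
    show τ * q * τ⁻¹ = r by decide, h.e0, h.e1, h.e2] at h'
  obtain ⟨i, l, e⟩ := h'.y1 ya y2 y1 y0 y3
  refine ⟨i, l, ?_⟩
  have e' : (φ.comp (MulAut.conj τ).toMonoidHom) c0 = φ c' := by
    have e1 : τ * c0 * τ⁻¹ = c' := by decide
    rw [← e1]
    rfl
  rw [e, map_mul, map_inv, map_mul, map_mul, map_pow, map_pow, h'.e0, h'.e2, e']

theorem comm_of {k D c : G} (h1 : Commute k D) (h2 : k * c * k⁻¹ = D * c * D⁻¹) (h3 : k ^ 4 = 1)
    (h4 : D ^ 3 = 1) : Commute c k := by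
  have h5 : Commute c (D⁻¹ * k) := by
    show c * (D⁻¹ * k) = D⁻¹ * k * c
    calc c * (D⁻¹ * k) = D⁻¹ * (D * c * D⁻¹) * k := by group
      _ = D⁻¹ * (k * c * k⁻¹) * k := by rw [h2]
      _ = _ := by group
  have h6 : (D⁻¹ * k) ^ 4 = D⁻¹ := by
    rw [h1.symm.inv_left.mul_pow, h3, mul_one, inv_pow, pow_succ, h4, one_mul]
  have h7 : Commute c D := by
    have := (h5.pow_right 4).inv_right
    rwa [h6, inv_inv] at this
  have := h7.mul_right h5
  rwa [mul_inv_cancel_left] at this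

variable {χ : A9 →* G} {a₁ a₂ a₃ a₄ : G}

/-- normalising the second embedding -/
theorem agree (h : E9 φ a₄ a₁ a₂ a₃) (h' : E9 χ a₂⁻¹ a₁ a₄ a₃) :
    ∃ χ : A9 →* G, E9 χ a₂⁻¹ a₁ a₄ a₃ ∧ χ c0 = φ c0 := by
  obtain ⟨i, l, e⟩ := h'.y1 (y := φ c0)
    (by rw [← h.e1, ← map_inv, ← map_mul, ← map_mul]; exact congrArg φ (by decide)) (h.com _)
    (by rw [← h.e0, ← map_mul, ← map_pow, show (p * c0) ^ 2 = 1 by decide, map_one])
    (by rw [← map_pow, show c0 ^ 3 = 1 by decide, map_one])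
    (by rw [← h.e2, ← map_mul, ← map_mul]; exact fun e => absurd (h.inj e) (by decide))
  have k := h'.rel (p ^ i * q ^ l)
  have c : ∀ x : A9, Commute p x → Commute q x → p ^ i * q ^ l * x * (p ^ i * q ^ l)⁻¹ = x :=
    fun x h1 h2 => by rw [((h1.pow_left i).mul_left (h2.pow_left l)).eq, mul_inv_cancel_right]
  rw [c p (Commute.refl p) (show q * p = p * q by decide),
    c r (show p * r = r * p by decide) (show q * r = r * q by decide),
    c q (show p * q = q * p by decide) (Commute.refl q), h'.e0, h'.e1, h'.e2] at k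
  exact ⟨_, k, e.symm⟩

theorem build (h : E9 φ a₄ a₁ a₂ a₃) (h' : E9 χ a₂⁻¹ a₁ a₄ a₃) (hc : χ c0 = φ c0) :
    ∃ ψ : A12 →* G, ψ c1 = a₁ ∧ ψ c2 = a₂ ∧ ψ c3 = a₃ ∧ ψ c4 = a₄ ∧ ∀ γ, φ γ ∈ ψ.range := by
  have ag : ∀ i, ![p, q, c0] i ∈ χ.eqLocus φ := by
    intro i
    fin_cases i
    exacts [h'.e0.trans h.e0.symm, h'.e2.trans h.e2.symm, hc]
  have g0 : χ al = φ al := ev_mem ag [1, 1, 2, 1] (by decide)
  have g1 : χ (m2 4) = φ (m4 1) := ev_mem ag [1, 2, 1, 2, 2] (by decide)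
  have g2 : χ (m2 5) = φ (m4 2) := ev_mem ag [2, 1, 2, 2, 1, 1, 2] (by decide)
  have g3 : χ (m2 6) = φ (m4 3) := ev_mem ag [2, 0, 1, 2, 1, 1, 2, 2] (by decide)
  have mc : ∀ {f : A9 →* G} {x y : A9}, x * y = y * x → Commute (f x) (f y) := fun e =>
    (show Commute _ _ from e).map _
  have c1' : Commute (χ c') a₁ := h'.e0 ▸ mc (by decide)
  have c2' : Commute (χ c') a₂ := by
    have := (show Commute (χ c') a₂⁻¹ from h'.com c').inv_right
    rwa [inv_inv] at this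
  have k3 : Commute (φ k0) a₃ := h.e2 ▸ mc (by decide)
  have k4 : Commute (φ k0) a₄ := h.com k0
  have k1 : φ k0 * a₁ * (φ k0)⁻¹ = a₂ := by
    rw [← h.e0, ← h.e1, ← map_inv, ← map_mul, ← map_mul]; exact congrArg φ (by decide)
  have k2 : φ k0 * a₂⁻¹ * (φ k0)⁻¹ = a₁ := by
    rw [← h.e0, ← h.e1, ← map_inv, ← map_inv, ← map_mul, ← map_mul]; exact congrArg φ (by decide)
  have ck : Commute (χ c') (φ k0) := by
    obtain ⟨i, l, e⟩ := h'.y2 (y := φ k0 * χ c' * (φ k0)⁻¹)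
      (by rw [← k1]; exact ((c1'.map (MulAut.conj (φ k0))).inv_right).eq)
      (by rw [← k2]; exact (c2'.inv_right.map (MulAut.conj (φ k0))).eq)
      (by
        have : a₃ * (φ k0 * χ c' * (φ k0)⁻¹) = φ k0 * (a₃ * χ c') * (φ k0)⁻¹ := by
          rw [← mul_assoc, ← mul_assoc, ← k3.eq, mul_assoc (φ k0)]
        rw [this, conj_pow, ← h'.e2, ← map_mul, ← map_pow, show (q * c') ^ 2 = 1 by decide]
        simp)
      (by rw [conj_pow, ← map_pow, show c' ^ 3 = 1 by decide]; simp)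
      (fun e => by
        have h1 : Commute (φ k0 * χ c' * (φ k0)⁻¹) a₄ := e
        have h2 := (k4.inv_left.mul_left h1).mul_left k4
        rw [show (φ k0)⁻¹ * (φ k0 * χ c' * (φ k0)⁻¹) * φ k0 = χ c' by group, ← h'.e1] at h2
        have h3 := h2.eq
        rw [← map_mul, ← map_mul] at h3
        exact absurd (h'.inj h3) (by decide))
    refine comm_of ((k3.pow_right i).mul_right (k4.pow_right l)) e
      (by rw [← map_pow, show k0 ^ 4 = 1 by decide, map_one]) ?_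
    rw [← h'.e2, ← h'.e1, ← map_pow, ← map_pow, ← map_mul, ← map_pow,
      ((show Commute q r by show q * r = r * q; decide).pow_pow i l).mul_pow, ← pow_mul, ← pow_mul,
      mul_comm i, mul_comm l, pow_mul, pow_mul, show q ^ 3 = 1 by decide, show r ^ 3 = 1 by decide]
    simp
  have cc : ∀ i, ![p, r, al, k0] i ∈ (centralizer {χ c'}).comap φ := by
    intro i
    rw [mem_comap, mem_centralizer_singleton_iff]
    fin_cases i
    · exact (h.e0 ▸ c1').symm.eq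
    · exact (h.e1 ▸ c2').symm.eq
    · exact (g0 ▸ mc (f := χ) (x := al) (y := c') (by decide)).eq
    · exact ck.symm.eq
  have key : ∀ ξ : A9, ξ ∈ (centralizer {χ c'}).comap φ → ξ * q = q * ξ →
      ξ * m4 2 * ξ = m4 2 → ∀ i : Fin 7, i.val < 4 → (χ (m2 i) * φ (m4 2 * ξ)) ^ 2 = 1 := by
    intro ξ h1 h2 h3 i hi
    have cy : ∀ i, ![q, r, c'] i ∈ (centralizer {φ ξ}).comap χ := by
      intro i
      rw [mem_comap, mem_centralizer_singleton_iff]
      fin_cases i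
      · exact (h'.e2.trans h.e2.symm ▸ mc (f := φ) h2.symm).eq
      · exact h'.e1 ▸ (h.com ξ).symm
      · exact (mem_centralizer_singleton_iff.1 h1).symm
    have h4 : m2 i ∈ (centralizer {φ ξ}).comap χ := by
      fin_cases i
      · exact ev_mem cy [1, 1, 2, 1] (by decide)
      · exact ev_mem cy [1, 2, 1, 1, 2, 2, 1, 2] (by decide)
      · exact ev_mem cy [2, 1, 2, 2, 1, 1, 2] (by decide)
      · exact ev_mem cy [0, 2, 2, 0] (by decide)
      all_goals exact absurd hi (by decide)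
    have h5 : χ (m2 i) * φ ξ = φ ξ * χ (m2 i) := mem_centralizer_singleton_iff.1 h4
    have h6 := (Rel.map rel2 χ).h2 i 5 (by show i.val + 1 < 5; omega)
    have h7 : φ ξ * φ (m4 2) * φ ξ = φ (m4 2) := by rw [← map_mul, ← map_mul, h3]
    simp only [g2] at h6
    rw [← h6, map_mul, pow_two, pow_two]
    calc χ (m2 i) * (φ (m4 2) * φ ξ) * (χ (m2 i) * (φ (m4 2) * φ ξ))
        = χ (m2 i) * φ (m4 2) * (φ ξ * χ (m2 i)) * (φ (m4 2) * φ ξ) := by simp only [mul_assoc]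
      _ = χ (m2 i) * φ (m4 2) * (χ (m2 i) * (φ ξ * φ (m4 2) * φ ξ)) := by
        rw [← h5]; simp only [mul_assoc]
      _ = _ := by rw [h7]
  let x : Fin 10 → G := ![χ (m2 0), χ (m2 1), χ (m2 2), χ (m2 3), χ (m2 4), χ (m2 5), χ (m2 6),
    φ (m4 4), φ (m4 5), φ (m4 6)]
  have x2 : ∀ (i : Fin 10) (hi : i.val < 7), x i = χ (m2 ⟨i, hi⟩) := by
    intro i hi
    fin_cases i
    all_goals first | rfl | exact absurd hi (by decide)
  have x4 : ∀ (i : Fin 10) (_ : 4 ≤ i.val), x i = φ (m4 ⟨i - 3, by omega⟩) := by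
    intro i hi
    fin_cases i
    all_goals first | exact absurd hi (by decide) | rfl | exact g1 | exact g2 | exact g3
  have hx : Rel x := by
    have r2 := Rel.map rel2 χ
    have r4 := Rel.map rel4 φ
    refine ⟨fun i hi => ?_, fun i hi => ?_, fun i j hi => ?_, fun i j hi => ?_⟩
    · rw [x2 i (by omega)]; exact r2.h0 _ hi
    · by_cases h7 : i.val < 7
      · rw [x2 i h7]; exact r2.h1 _ hi
      · rw [x4 i (by omega)]; exact r4.h1 _ (by show 1 ≤ i.val - 3; omega)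
    · by_cases h7 : j.val < 7
      · rw [x2 i (by omega), x2 j h7]; exact r2.h3 _ _ hi
      · rw [x4 i (by omega), x4 j (by omega)]
        exact r4.h3 _ _ (by show j.val - 3 = i.val - 3 + 1; omega)
    · by_cases h7 : j.val < 7
      · rw [x2 i (by omega), x2 j h7]; exact r2.h2 _ _ hi
      by_cases h4 : 4 ≤ i.val
      · rw [x4 i h4, x4 j (by omega)]
        exact r4.h2 _ _ (by show i.val - 3 + 1 < j.val - 3; omega)
      rw [x2 i (by omega)]
      have hj : j = 7 ∨ j = 8 ∨ j = 9 := by omega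
      rcases hj with rfl | rfl | rfl
      · rw [show x 7 = φ (m4 2 * dd 0 1 2 3) from congrArg φ (by decide)]
        exact key _ (ev_mem cc [0, 0, 2, 3, 2, 3, 2, 0, 0] (by decide +kernel)) (by decide) (by decide) _
          (by show i.val < 4; omega)
      · rw [show x 8 = φ (m4 2 * dd 0 1 3 4) from congrArg φ (by decide)]
        exact key _ (ev_mem cc [3, 3] (by decide)) (by decide) (by decide) _
          (by show i.val < 4; omega)
      · rw [show x 9 = φ (m4 2 * dd 0 1 4 5) from congrArg φ (by decide)]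
        exact key _ (ev_mem cc [3, 3, 1] (by decide)) (by decide) (by decide) _
          (by show i.val < 4; omega)
  obtain ⟨ψ, hψ⟩ := moore_hom (m := 10) (by omega) relz zz_ne hx
  have s3 : ψ c3 = a₃ := by
    rw [show c3 = (zz 3 * zz 2 * zz 1 * zz 0 * (zz 3 * zz 2 * zz 1)⁻¹)⁻¹ by decide, ← h'.e2,
      show q = (m2 3 * m2 2 * m2 1 * m2 0 * (m2 3 * m2 2 * m2 1)⁻¹)⁻¹ by decide]
    simp only [map_mul, map_inv, hψ]
    rfl
  refine ⟨ψ, ?_, ?_, s3, ?_, fun γ => ?_⟩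
  · rw [show c1 = zz 5 * zz 6 by decide, ← h'.e0, show p = m2 5 * m2 6 by decide, map_mul, map_mul,
      hψ, hψ]
    rfl
  · rw [show c2 = zz 8 * zz 9 by decide, ← h.e1, show r = m4 5 * m4 6 by decide, map_mul, map_mul,
      hψ, hψ]
    rfl
  · rw [show c4 = zz 2 * zz 1 by decide, ← h'.e1, show r = m2 2 * m2 1 by decide, map_mul, map_mul,
      hψ, hψ]
    rfl
  · refine moore_gen (m := 7) (by omega) rel4 ⟨0, by decide⟩ (ψ.range.comap φ) (fun i => ?_) γ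
    fin_cases i
    exacts [⟨c3, s3.trans h.e2.symm⟩, ⟨zz 4, (hψ 4).trans g1⟩, ⟨zz 5, (hψ 5).trans g2⟩,
      ⟨zz 6, (hψ 6).trans g3⟩, ⟨zz 7, hψ 7⟩, ⟨zz 8, hψ 8⟩, ⟨zz 9, hψ 9⟩]

theorem a12 : A12Stmt.{u} := by
  intro G _ _ j ι φ hs ha
  have j0 : j 0 = 1 := by
    have := hs.add 0 0
    rw [add_zero] at this
    exact mul_eq_left.1 this.symm
  have jneg : ∀ v, j (-v) = (j v)⁻¹ := fun v =>
    eq_inv_of_mul_eq_one_left (by rw [← hs.add, neg_add_cancel, j0])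
  have j3 : ∀ v, j v ^ 3 = 1 := fun v => by
    rw [pow_three, ← hs.add, ← hs.add, ← j0]
    exact congrArg j (by revert v; decide)
  have jc : ∀ v w, Commute (j v) (j w) := fun v w => by
    show j v * j w = j w * j v
    rw [← hs.add, ← hs.add, add_comm]
  have h4 : E9 φ (j ![0, 0, 0, 1]) (j ![1, 0, 0, 0]) (j ![0, 1, 0, 0]) (j ![0, 0, 1, 0]) :=
    ⟨ha.inj, ha.e0, ha.e1, ha.e2, j3 _, ha.com, ha.cen⟩
  obtain ⟨n, hn⟩ := hs.exM ![1, -1, 1, 1] (swap 1 3) (by decide)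
  have h2 := h4.conj n
  rw [hn, hn, hn, hn,
    show ![1, -1, 1, 1] * ![0, 0, 0, 1] ∘ (swap (1 : Fin 4) 3) = -(![0, 1, 0, 0] : W4) by decide,
    show ![1, -1, 1, 1] * ![1, 0, 0, 0] ∘ (swap (1 : Fin 4) 3) = (![1, 0, 0, 0] : W4) by decide,
    show ![1, -1, 1, 1] * ![0, 1, 0, 0] ∘ (swap (1 : Fin 4) 3) = (![0, 0, 0, 1] : W4) by decide,
    show ![1, -1, 1, 1] * ![0, 0, 1, 0] ∘ (swap (1 : Fin 4) 3) = (![0, 0, 1, 0] : W4) by decide,
    jneg] at h2
  obtain ⟨χ, h2', hc⟩ := agree h4 h2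
  obtain ⟨ψ, s1, s2, s3, s4, sr⟩ := build h4 h2' hc
  have inj : Function.Injective ψ := by
    have : IsSimpleGroup A12 := alternatingGroup.isSimpleGroup (by simp)
    rcases ψ.normal_ker.eq_bot_or_eq_top with h | h
    · exact (MonoidHom.ker_eq_bot_iff _).1 h
    · have h1 : ψ c1 = 1 := (h ▸ mem_top c1 : c1 ∈ ψ.ker)
      exact absurd (hs.inj _ (s1 ▸ h1)) (by decide)
  have sz : ψ (c1 * c2 * c4) = j ![1, 1, 0, 1] := by
    rw [map_mul, map_mul, s1, s2, s4, ← hs.add, ← hs.add]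
    exact congrArg j (by decide)
  have sx : ψ (c1 * c2 * c4⁻¹) = j ![1, 1, 0, -1] := by
    rw [map_mul, map_mul, map_inv, s1, s2, s4, ← jneg, ← hs.add, ← hs.add]
    exact congrArg j (by decide)
  have cb : ∀ (v : W4) (c : A12), ψ c = j v → ψ (u0 * c * u0⁻¹) = j ![v 1, v 0, -v 2, v 3] →
      Commute ((ψ u0)⁻¹ * ι (-1)) (j v) := by
    intro v c e1 e2
    rw [← hs.ιu, map_mul, map_mul, map_inv, e1] at e2
    show _ * _ = _ * _
    calc (ψ u0)⁻¹ * ι (-1) * j v = (ψ u0)⁻¹ * (ι (-1) * j v * (ι (-1))⁻¹) * ι (-1) := by group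
      _ = (ψ u0)⁻¹ * (ψ u0 * j v * (ψ u0)⁻¹) * ι (-1) := by rw [e2]
      _ = _ := by group
  have b1 := cb _ c1 s1 (by
    rw [show u0 * c1 * u0⁻¹ = c2 by decide, s2]; exact congrArg j (by decide))
  have b2 := cb _ c2 s2 (by
    rw [show u0 * c2 * u0⁻¹ = c1 by decide, s1]; exact congrArg j (by decide))
  have b3 := cb _ c3 s3 (by
    rw [show u0 * c3 * u0⁻¹ = c3⁻¹ by decide, map_inv, s3, ← jneg]; exact congrArg j (by decide))
  have b4 := cb _ c4 s4 (by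
    rw [show u0 * c4 * u0⁻¹ = c4 by decide, s4]; exact congrArg j (by decide))
  have jn : ∀ (m : ℕ) v, j (m • v) = j v ^ m := fun m v => by
    induction m with
    | zero => rw [zero_smul, j0, pow_zero]
    | succ m ih => rw [succ_nsmul, hs.add, ih, pow_succ]
  obtain ⟨v, hv⟩ := hs.cJ ((ψ u0)⁻¹ * ι (-1)) fun w => by
    rw [show w = (w 0).val • ![1, 0, 0, 0] + (w 1).val • ![0, 1, 0, 0] + (w 2).val • ![0, 0, 1, 0] +
      (w 3).val • ![0, 0, 0, 1] by revert w; decide, hs.add, hs.add, hs.add, jn, jn, jn, jn]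
    exact ((((b1.pow_right _).mul_right (b2.pow_right _)).mul_right (b3.pow_right _)).mul_right
      (b4.pow_right _)).eq
  have e1 : ι (-1) = ψ u0 * j v := by rw [← hv, mul_inv_cancel_left]
  have e2 : ψ u0 * ψ u0 = 1 := by rw [← map_mul, show u0 * u0 = 1 by decide, map_one]
  have e3 : ι (-1) * ι (-1) = 1 := by rw [← map_mul, neg_mul_neg, mul_one, map_one]
  have e4 : (j v)⁻¹ * ι (-1) * (j v)⁻¹⁻¹ = ψ u0 := by
    have k1 : (j v)⁻¹ * ψ u0 = ψ u0 * j v := by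
      rw [e1] at e3
      rw [eq_inv_of_mul_eq_one_left e3, mul_inv_rev, inv_eq_of_mul_eq_one_left e2]
    rw [e1, inv_inv, ← mul_assoc, k1, mul_assoc, mul_assoc, ← pow_three, j3, mul_one]
  have cj : ∀ w, (j v)⁻¹ * j w * (j v)⁻¹⁻¹ = j w := fun w => by
    rw [(jc v w).inv_left.eq, mul_inv_cancel_right]
  refine ⟨{ ψ := ψ, ι := (MulAut.conj (j v)⁻¹).toMonoidHom.comp ι, inj := inj, cA := ?_
            ιinj := (MulAut.conj (j v)⁻¹).injective.comp hs.ιinj, ιX := ?_, ιu := e4, ιz := ?_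
            dec := ?_, nc := by rw [s4, sz]; exact hs.nc, simple := hs.simple }⟩
  · intro g hg
    rw [s4] at hg
    obtain ⟨i, γ, rfl⟩ := ha.cen g hg
    exact mul_mem (pow_mem (show j ![0, 0, 0, 1] ∈ ψ.range from ⟨c4, s4⟩) i) (sr γ)
  · show (j v)⁻¹ * ι slX * (j v)⁻¹⁻¹ = _
    rw [hs.ιX, cj, sx]
  · intro k
    show (j v)⁻¹ * ι k * (j v)⁻¹⁻¹ * _ = _ * ((j v)⁻¹ * ι k * (j v)⁻¹⁻¹)
    rw [sz, ← cj ![1, 1, 0, 1], conj_mul, conj_mul, hs.ιz]
  · intro g h1 h2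
    rw [sz] at h1 ⊢
    rw [← e4] at h2
    obtain ⟨i, k, e⟩ := hs.dec (j v * g * (j v)⁻¹) (by
      have c1 : Commute g (j ![1, 1, 0, 1]) := h1
      exact (((jc v _).mul_left c1).mul_left (jc v _).inv_left).eq) (by
      calc j v * g * (j v)⁻¹ * ι (-1) = j v * (g * ((j v)⁻¹ * ι (-1) * (j v)⁻¹⁻¹)) * (j v)⁻¹ := by group
        _ = j v * ((j v)⁻¹ * ι (-1) * (j v)⁻¹⁻¹ * g) * (j v)⁻¹ := by rw [h2]
        _ = _ := by group)
    refine ⟨i, k, ?_⟩
    show g = _ * ((j v)⁻¹ * ι k * (j v)⁻¹⁻¹)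
    rw [← cj ![1, 1, 0, 1], conj_pow, conj_mul, ← e]
    group

end Cfsg.Agent.H70.HnA12
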