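import Cfsg.Agent.H44.K5Defs

/-! Project K5: unimodular positive definite forms of rank at most five. -/

set_option autoImplicit false

namespace Cfsg.Agent.H70.K5Uni

open Matrix Cfsg.Agent.H44.K5

def Gd {n : ℕ} (A : Matrix (Fin n) (Fin n) ℤ) : Prop :=
  Aᵀ = A ∧ (∀ x : Fin n → ℤ, x ≠ 0 → 0 < x ⬝ᵥ A *ᵥ x) ∧ A.det = 1

theorem Gd.cj {n : ℕ} {A U : Matrix (Fin n) (Fin n) ℤ} (h : Gd A) (hU : IsUnit U.det) :
    Gd (Uᵀ * A * U) := by
  refine ⟨by rw [transpose_mul, transpose_mul, transpose_transpose, h.1, Matrix.mul_assoc],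
    fun x hx => ?_, ?_⟩
  · rw [← mulVec_mulVec, ← mulVec_mulVec, dotProduct_mulVec, vecMul_transpose]
    exact h.2.1 _ fun e => hx (eq_zero_of_mulVec_eq_zero hU.ne_zero e)
  · rw [det_mul, det_mul, det_transpose, h.2.2, mul_one]
    rcases Int.isUnit_iff.1 hU with e | e <;> rw [e] <;> norm_num

theorem uni (herm : HermStmt) : UniStmt := by
  intro n
  induction n with
  | zero => exact fun _ A _ _ _ => ⟨1, Subsingleton.elim _ _⟩
  | succ n ih =>
  intro hn A h1 h2 h3
  obtain ⟨U, hU, hb⟩ := herm n A h1 h2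
  have gB := Gd.cj ⟨h1, h2, h3⟩ hU
  set B := Uᵀ * A * U with hB
  have b0 : 0 < B 0 0 := by
    have := gB.2.1 (Pi.single 0 1) (by simp)
    simpa using this
  have b1 : B 0 0 = 1 := by
    by_contra k
    have h2 : (2 : ℤ) ^ (n + 1) ≤ B 0 0 ^ (n + 1) := pow_le_pow_left₀ (by norm_num) (by omega) _
    have := (mul_le_mul_of_nonneg_right h2 (by positivity)).trans hb
    rw [h3] at this
    have : n ≤ 4 := by omega
    interval_cases n <;> norm_num at *
  have sy : ∀ i j, B i j = B j i := fun i j => (congrFun (congrFun gB.1 i) j).symm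
  let E : Matrix (Fin (n + 1)) (Fin (n + 1)) ℤ :=
    of fun i j => if i = j then 1 else if i = 0 then -B 0 j else 0
  have dE : E.det = 1 := by
    rw [det_of_upperTriangular (M := E) fun i j hij => by
      have : j < i := hij
      simp [E, this.ne', (Fin.pos_iff_ne_zero.1 ((Fin.zero_le j).trans_lt this))]]
    simp [E]
  have gC := gB.cj (U := E) (by rw [dE]; exact isUnit_one)
  set C := Eᵀ * B * E with hC
  have e0 : ∀ i, E i 0 = if i = 0 then 1 else 0 := fun i => by
    by_cases h : i = 0 <;> simp [E, h]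
  have r0 : ∀ k, (Eᵀ * B) 0 k = B 0 k := fun k => by simp [mul_apply, e0]
  have c00 : C 0 0 = 1 := by
    rw [hC, mul_apply]; simp [r0, e0, b1]
  have c0 : ∀ j : Fin n, C 0 j.succ = 0 := fun j => by
    rw [hC, mul_apply, Fin.sum_univ_succ]
    simp [r0, E, b1, (Fin.succ_ne_zero j).symm]
  have c0' : ∀ j : Fin n, C j.succ 0 = 0 := fun j =>
    (congrFun (congrFun gC.1 0) j.succ).trans (c0 j)
  obtain ⟨V, hV⟩ := ih (by omega) (C.submatrix Fin.succ Fin.succ)
    (by rw [transpose_submatrix, gC.1]) (fun x hx => by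
      have := gC.2.1 (Fin.cons 0 x) fun e => hx (funext fun i => by simpa using congrFun e i.succ)
      simpa [dotProduct, mulVec, Fin.sum_univ_succ] using this)
    (by simpa [det_succ_row_zero, Fin.sum_univ_succ, c00, c0] using gC.2.2)
  let W : Matrix (Fin (n + 1)) (Fin (n + 1)) ℤ :=
    of (Fin.cons (Fin.cons 1 fun _ => 0) fun i => Fin.cons 0 (V i))
  refine ⟨U * E * W, ?_⟩
  have : (U * E * W)ᵀ * A * (U * E * W) = Wᵀ * C * W := by
    simp only [hC, hB, transpose_mul, Matrix.mul_assoc]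
  rw [this]
  ext i j
  refine Fin.cases ?_ (fun i => ?_) i <;> refine Fin.cases ?_ (fun j => ?_) j
  · simp [mul_apply, Fin.sum_univ_succ, W, c00]
  · simp [mul_apply, Fin.sum_univ_succ, W, c0, one_apply, (Fin.succ_ne_zero j).symm]
  · simp [mul_apply, Fin.sum_univ_succ, W, c0', one_apply]
  · have := congrFun (congrFun hV i) j
    simpa [mul_apply, Fin.sum_univ_succ, W, one_apply] using this

end Cfsg.Agent.H70.K5Uni
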