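import Cfsg.Agent.H11.CyLp
import Cfsg.Agent.H98.SL2Two

/-! Project CY, chapter LP: kit part V (involutions). -/

set_option autoImplicit false

namespace Cfsg.Agent.H70.LpLv

open Subgroup MulAction Cfsg.Agent.H11.Cy Cfsg.Agent.H11.Cy.Lp
open Cfsg.Agent.H11.EL (Nm Ct Ex)
open Cfsg.Agent.H77 (PSL2 SL2 pm pm_surj pm_eq_one_iff' pm_eq_iff pm_neg pm_neg_one sl_neg_ne_self)

section Psl
variable {F : Type} [Field F] [Finite F]

omit [Finite F] in
theorem lift (h2 : (2 : F) ≠ 0) {s : PSL2 F} (hs : orderOf s = 2) :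
    ∃ X : SL2 F, X * X = -1 ∧ pm F X = s := by
  obtain ⟨X, rfl⟩ := pm_surj s
  have e : pm F (X * X) = 1 := by
    have := pow_orderOf_eq_one (pm F X)
    rwa [hs, sq, ← map_mul] at this
  refine ⟨X, (pm_eq_one_iff'.1 e).resolve_left fun h => ?_, rfl⟩
  rw [pm_eq_one_iff'.2 (H98.sl2_eq_of_sq h2 h)] at hs
  simp at hs

omit [Finite F] in
theorem ord_pm (h2 : (2 : F) ≠ 0) {X : SL2 F} (h : X * X = -1) : orderOf (pm F X) = 2 := by
  refine orderOf_eq_prime (by rw [sq, ← map_mul, h, pm_neg_one]) fun e => ?_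
  rcases pm_eq_one_iff'.1 e with rfl | rfl
  · exact H98.sl2_neg_one_ne h2 (by simpa using h.symm)
  · exact H98.sl2_neg_one_ne h2 (by simpa using h.symm)

theorem psl_cls (h2 : (2 : F) ≠ 0) {s t : PSL2 F} (hs : orderOf s = 2) (ht : orderOf t = 2) :
    ∃ g, g * s * g⁻¹ = t := by
  obtain ⟨X, hX, rfl⟩ := lift h2 hs
  obtain ⟨Y, hY, rfl⟩ := lift h2 ht
  obtain ⟨c, hc⟩ := H98.sl2_conj_of_sq h2 hX hY
  exact ⟨pm F c, by rw [← hc, map_mul, map_mul, map_inv]⟩

theorem psl_four (h2 : (2 : F) ≠ 0) {s : PSL2 F} (hs : orderOf s = 2) :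
    ∃ w, orderOf w = 2 ∧ w ≠ s ∧ s * w = w * s := by
  have : Fact (Nat.Prime 2) := ⟨Nat.prime_two⟩
  obtain ⟨i, j, h⟩ := H98.exists_sylData h2 (default : Sylow 2 (SL2 F))
  obtain ⟨g, rfl⟩ := psl_cls h2 (ord_pm h2 h.hi) hs
  refine ⟨g * pm F j * g⁻¹, ?_, fun e => ?_, ?_⟩
  · exact ((MulAut.conj g).orderOf_eq _).trans (ord_pm h2 h.hj)
  · have e' : pm F j = pm F i := by simpa using e
    refine sl_neg_ne_self h2 (i * j) ?_
    rw [← h.anti]
    rcases pm_eq_iff.1 e' with e | e <;> rw [e]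
    simp
  · have c : pm F i * pm F j = pm F j * pm F i := by
      rw [← map_mul, ← map_mul, h.anti, pm_neg]
    calc g * pm F i * g⁻¹ * (g * pm F j * g⁻¹) = g * (pm F i * pm F j) * g⁻¹ := by group
      _ = g * pm F j * g⁻¹ * (g * pm F i * g⁻¹) := by rw [c]; group

end Psl

/-- no free four-group on `2 mod 4` points -/
theorem free4 {α : Type} [Finite α] (h : Nat.card α % 4 = 2) (a b : Equiv.Perm α)
    (ha : a ^ 2 = 1) (hb : b ^ 2 = 1) (hab : (a * b) ^ 2 = 1) (fa : ∀ z, a z ≠ z)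
    (fb : ∀ z, b z ≠ z) (fab : ∀ z, (a * b) z ≠ z) : False := by
  classical
  have := Fintype.ofFinite α
  have key : ∀ c : Equiv.Perm α, c ^ 2 = 1 → (∀ z, c z ≠ z) → Equiv.Perm.sign c = -1 := by
    intro c hc fc
    have : IsEmpty (Function.fixedPoints c) := ⟨fun z => fc z.1 z.2⟩
    rw [Equiv.Perm.sign_of_pow_two_eq_one hc, Fintype.card_eq_zero (α := Function.fixedPoints c),
      ← Nat.card_eq_fintype_card]
    exact Odd.neg_one_pow (Nat.odd_iff.2 (by omega))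
  have := key _ hab fab
  rw [map_mul, key a ha fa, key b hb fb] at this
  exact absurd this (by decide)

section Main
variable {G : Type} [Group G] {Ω : Type} [MulAction G Ω] {p : ℕ} {A : Ω → Subgroup G}

theorem cls_four (h : St p A) (l : L0 p A) {x y : Ω} (hxy : x ≠ y) :
    (∀ s ∈ Fl A x y, ∀ t ∈ Fl A x y, orderOf s = 2 → orderOf t = 2 →
      ∃ g ∈ Fl A x y, g * s * g⁻¹ = t) ∧
    ∀ s ∈ Fl A x y, orderOf s = 2 → ∃ w ∈ Fl A x y, orderOf w = 2 ∧ w ≠ s ∧ Commute s w := by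
  obtain ⟨⟨F, _, _, hF, ⟨e⟩⟩, -⟩ := l.ty.2 x y hxy
  have h2 : (2 : F) ≠ 0 := by
    intro h0
    have h1 : ((Fintype.card F : ℕ) : F) = 0 := FiniteField.cast_card_eq_zero F
    obtain ⟨m, hm⟩ := h.pp.odd_of_ne_two l.mc.p2
    rw [hF, hm] at h1
    push_cast at h1
    rw [h0] at h1
    simp at h1
  have o : ∀ s (hs : s ∈ Fl A x y), orderOf s = 2 → orderOf (e ⟨s, hs⟩) = 2 := fun s hs os => by
    rw [e.orderOf_eq, ← os, ← Subgroup.orderOf_coe]
  constructor
  · intro s hs t ht os ot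
    obtain ⟨g, hg⟩ := psl_cls h2 (o s hs os) (o t ht ot)
    refine ⟨e.symm g, (e.symm g).2, ?_⟩
    have := congrArg (fun z => ((e.symm z : Fl A x y) : G)) hg
    simpa using this
  · intro s hs os
    obtain ⟨w, ow, ne, c⟩ := psl_four h2 (o s hs os)
    refine ⟨e.symm w, (e.symm w).2, by rw [Subgroup.orderOf_coe, e.symm.orderOf_eq, ow],
      fun k => ne ?_, ?_⟩
    · have : e.symm w = ⟨s, hs⟩ := Subtype.ext k
      rw [← this]; simp
    · have := congrArg (fun z => ((e.symm z : Fl A x y) : G)) c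
      change s * _ = _ * s
      simpa using this

/-- the involution induced on an invariant set -/
def ip (S : Set Ω) (u : G) (hS : ∀ z ∈ S, u • z ∈ S) (hu : ∀ z ∈ S, u • u • z = z) :
    Equiv.Perm S :=
  Function.Involutive.toPerm (fun z => ⟨u • z.1, hS _ z.2⟩) fun z => Subtype.ext (hu _ z.2)

theorem second [Finite Ω] {S : Set Ω} (h2 : 2 ∣ S.ncard) {u : G} (hS : ∀ z ∈ S, u • z ∈ S)
    (hu : ∀ z ∈ S, u • u • z = z) {z : Ω} (hz : z ∈ S) (e : u • z = z) :
    ∃ w ∈ S, u • w = w ∧ w ≠ z := by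
  classical
  have := Fintype.ofFinite S
  have : Fact (Nat.Prime 2) := ⟨Nat.prime_two⟩
  obtain ⟨w, hw, ne⟩ := Equiv.Perm.exists_fixed_point_of_prime' (p := 2) (n := 1)
    (by rwa [← Nat.card_eq_fintype_card, Nat.card_coe_set_eq]) (σ := ip S u hS hu)
    (Equiv.ext fun z => Subtype.ext (hu _ z.2)) (a := ⟨z, hz⟩) (Subtype.ext e)
  exact ⟨w, w.2, congrArg Subtype.val hw, fun k => ne (Subtype.ext k)⟩

theorem free4' [Finite Ω] {S : Set Ω} (h : S.ncard % 4 = 2) {a b : G} (aS : ∀ z ∈ S, a • z ∈ S)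
    (bS : ∀ z ∈ S, b • z ∈ S) (ha : ∀ z ∈ S, a • a • z = z) (hb : ∀ z ∈ S, b • b • z = z)
    (hab : ∀ z ∈ S, a • b • a • b • z = z) (fa : ∀ z ∈ S, a • z ≠ z) (fb : ∀ z ∈ S, b • z ≠ z)
    (fab : ∀ z ∈ S, a • b • z ≠ z) : False :=
  free4 (α := S) (by rwa [Nat.card_coe_set_eq]) (ip S a aS ha) (ip S b bS hb)
    (Equiv.ext fun z => Subtype.ext (ha _ z.2)) (Equiv.ext fun z => Subtype.ext (hb _ z.2))
    (Equiv.ext fun z => Subtype.ext (hab _ z.2)) (fun z e => fa _ z.2 (congrArg Subtype.val e))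
    (fun z e => fb _ z.2 (congrArg Subtype.val e)) fun z e => fab _ z.2 (congrArg Subtype.val e)

theorem gen [Finite G] (h : St p A) (x : Ω) : ∃ a ∈ A x, orderOf a = p := by
  have : Fact p.Prime := ⟨h.pp⟩
  obtain ⟨a, ha⟩ := exists_prime_orderOf_dvd_card' (G := A x) p (h.card x ▸ dvd_rfl)
  exact ⟨a, a.2, by rw [Subgroup.orderOf_coe, ha]⟩

omit [MulAction G Ω] in
theorem kc {x y : Ω} {k l : G} (hk : k ∈ Kl A x y) (hl : l ∈ Fl A x y) : l * k = k * l :=
  mem_centralizer_iff.1 hk l hl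

theorem exm [Finite G] (h : St p A) {x y : Ω} {f : G} (t : LT p A x y f) {u : G}
    (hu : u ∈ Hs G x y) (h2 : u * u ∈ Kl A x y) (h1 : u ∉ Kl A x y) : Ex u (A x) (-1) := by
  refine ((t.small u hu).resolve_left h1).resolve_right ?_
  rintro ⟨i, hi, hp⟩
  obtain ⟨a, ha, oa⟩ := gen h x
  refine hp ?_
  rw [← oa, orderOf_dvd_iff_zpow_eq_one, zpow_sub, zpow_one, mul_inv_eq_one, sq, zpow_mul,
    ← hi _ (zpow_mem ha i), ← hi a ha]
  have := kc h2 (mem_sup_left ha : a ∈ Fl A x y)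
  calc u * (u * a * u⁻¹) * u⁻¹ = (u * u * a) * (u * u)⁻¹ := by group
    _ = a := by rw [← this]; group

theorem mulK (l : L0 p A) {x y : Ω} (hxy : x ≠ y) {u v : G} (hu : u ∈ Hs G x y)
    (hv : v ∈ Hs G x y) (eu : Ex u (A x) (-1)) (ev : Ex v (A x) (-1)) : u * v ∈ Kl A x y := by
  refine l.mc.ep.eps x y hxy _ (mul_mem hu hv) (mem_centralizer_iff.2 fun a ha => ?_)
  have e1 := eu a ha
  have e2 := ev a ha
  rw [zpow_neg_one] at e1 e2
  calc a * (u * v) = (u * a * u⁻¹)⁻¹ * (u * v) := by rw [e1, inv_inv]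
    _ = u * (v * a * v⁻¹) * v := by rw [e2]; group
    _ = u * v * a := by group

theorem half {x y : Ω} {f s : G} (c : LC p A x y f s) (h1 : p % 4 = 1) :
    orderOf (f ^ (orderOf f / 2)) = 2 ∨ p = 1 := by
  by_cases h0 : orderOf f = 0
  · exact Or.inr (by have := c.fo; omega)
  exact Or.inl (orderOf_pow_orderOf_div h0 (by have := c.fo; omega))

theorem sq1 {t : G} (h : orderOf t = 2) : t * t = 1 := by rw [← sq, ← h, pow_orderOf_eq_one]

theorem sqK {x y : Ω} {k l : G} (la : LA p A x y) (hk : k ∈ Kl A x y) (hl : l ∈ Fl A x y)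
    (h2 : k * l * (k * l) ∈ Kl A x y) : l * l = 1 := by
  refine la.ctr _ (mul_mem hl hl) ?_
  have e : l * l = (k * k)⁻¹ * (k * l * (k * l)) := by
    calc l * l = (k * k)⁻¹ * (k * (k * l) * l) := by group
      _ = (k * k)⁻¹ * (k * (l * k) * l) := by rw [kc hk hl]
      _ = _ := by group
  rw [e]
  exact mul_mem (inv_mem (mul_mem hk hk)) h2

variable [Finite G] [Finite Ω] (h : St p A) (l : L0 p A) (la : ∀ x y, x ≠ y → LA p A x y)
  (lc : ∀ x y, x ≠ y → ∃ f s, LC p A x y f s ∧ LT p A x y f)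
include h l la lc

omit [Finite Ω] in
theorem parA {x y : Ω} (hxy : x ≠ y) {u : G} (hu : u ∈ Hs G x y) (h2 : u * u ∈ Kl A x y)
    (h1 : u ∉ Kl A x y) : u ∈ Kl A x y ⊔ Fl A x y ↔ p % 4 = 1 := by
  obtain ⟨f, s, c, t⟩ := lc x y hxy
  have hodd : p % 2 = 1 := h.pp.eq_two_or_odd.resolve_left l.mc.p2
  constructor
  · intro hm
    by_contra h3
    obtain ⟨k, hk, n, rfl⟩ := t.kf u hu hm
    have e := sqK (la x y hxy) hk (pow_mem c.fL n) h2
    rw [← pow_add, ← orderOf_dvd_iff_pow_eq_one, ← two_mul] at e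
    have o : Nat.Coprime (orderOf f) 2 :=
      Nat.coprime_two_right.2 (Nat.odd_iff.2 (by have := c.fo; omega))
    rw [orderOf_dvd_iff_pow_eq_one.1 (o.dvd_of_dvd_mul_left e), mul_one] at h1
    exact h1 hk
  · intro h4
    have o := (half c h4).resolve_right h.pp.one_lt.ne'
    have tL := pow_mem c.fL (orderOf f / 2)
    have tH := pow_mem c.fH (orderOf f / 2)
    have et := exm h t tH (by rw [sq1 o]; exact one_mem _) fun k => by
      rw [(la x y hxy).ctr _ tL k] at o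
      simp at o
    have := mul_mem (mem_sup_left (mulK l hxy hu tH (exm h t hu h2 h1) et) :
      _ ∈ Kl A x y ⊔ Fl A x y) (mem_sup_right (inv_mem tL))
    simpa using this

omit [Finite G] [Finite Ω] h la lc in
theorem tr {x y z w : Ω} (hxy : x ≠ y) (hz : z ∈ Ln A x y) (hw : w ∈ Ln A x y) (hzw : z ≠ w) :
    Fl A z w = Fl A x y ∧ Kl A z w = Kl A x y ∧ Ln A z w = Ln A x y := by
  have e := l.mc.ep.span x y hxy z hz w hw hzw
  exact ⟨e, by unfold Kl; rw [e], by unfold Ln; rw [e]⟩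

theorem parF {x y : Ω} (hxy : x ≠ y) {u : G} (hu : u ∈ Nm (Fl A x y)) (h2 : u * u ∈ Kl A x y)
    (h1 : u ∉ Kl A x y) {z : Ω} (hz : z ∈ Ln A x y) (e : u • z = z) :
    u ∈ Kl A x y ⊔ Fl A x y ↔ p % 4 = 1 := by
  have hodd : p % 2 = 1 := h.pp.eq_two_or_odd.resolve_left l.mc.p2
  obtain ⟨w, hw, ew, ne⟩ := second (S := Ln A x y) (by rw [(l.ty.2 x y hxy).2]; omega)
    ((l.mc.ep.nrm x y hxy u).1 hu)
    (fun v hv => by rw [← mul_smul]; exact (l.mc.ep.kfix x y hxy _).1 h2 v hv) hz e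
  obtain ⟨e1, e2, -⟩ := tr l hxy hz hw ne.symm
  rw [← e2] at h1 h2 ⊢
  rw [← e1]
  exact parA h l la lc ne.symm ⟨e, ew⟩ h2 h1

theorem parS {x y : Ω} (hxy : x ≠ y) {u : G} (hu : u ∈ Nm (Fl A x y)) (ux : u • x = y)
    (uy : u • y = x) (hf : ∀ z ∈ Ln A x y, u • z ≠ z) :
    u ∉ Kl A x y ⊔ Fl A x y ↔ p % 4 = 1 := by
  obtain ⟨f, s, c, t⟩ := lc x y hxy
  have a := la x y hxy
  have ep := l.mc.ep
  have hodd : p % 2 = 1 := h.pp.eq_two_or_odd.resolve_left l.mc.p2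
  have kk : ∀ g : G, g * g ∈ Kl A x y → ∀ v ∈ Ln A x y, g • g • v = v := fun g hg v hv => by
    rw [← mul_smul]; exact (ep.kfix x y hxy _).1 hg v hv
  constructor
  · intro hm
    by_contra h4
    have h3 : p % 4 = 3 := by omega
    have ne : ¬ E1 A x y := fun e => hm (t.e1M e hu)
    rw [t.e3 h3] at ne
    push Not at ne
    obtain ⟨g, hg, eg⟩ := ne
    have g2 := mulK l hxy hg hg eg eg
    have g1 : g ∉ Kl A x y := fun k => by
      obtain ⟨b, hb, ob⟩ := gen h x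
      have e := eg b hb
      rw [← kc k (mem_sup_left hb : b ∈ Fl A x y), mul_inv_cancel_right, zpow_neg_one,
        eq_inv_iff_mul_eq_one, ← sq, ← orderOf_dvd_iff_pow_eq_one, ob] at e
      have := Nat.le_of_dvd two_pos e
      have := l.ty.1
      omega
    have gm : g ∉ Kl A x y ⊔ Fl A x y := fun k => h4 ((parA h l la lc hxy hg g2 g1).1 k)
    have gN := a.hN hg
    have ug := t.idx u hu g gN hm gm
    have gx : g • x = x := hg.1
    have gy : g • y = y := hg.2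
    have sx : (u * g) • x = y := by rw [mul_smul, gx, ux]
    have sy : (u * g) • y = x := by rw [mul_smul, gy, uy]
    have ug2 := t.sq _ sx sy
    have ug1 : u * g ∉ Kl A x y := fun k => hxy (by rw [← sx, (ep.kfix x y hxy _).1 k x a.mx])
    have cS : (Ln A x y \ {x, y}).ncard % 4 = 2 := by
      rw [Set.ncard_sdiff (by rintro v (rfl | rfl); exacts [a.mx, a.my]), (l.ty.2 x y hxy).2,
        Set.ncard_pair hxy]
      omega
    refine free4' cS (a := u) (b := g) ?_ ?_ (fun v hv => kk u (t.sq u ux uy) v hv.1)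
      (fun v hv => kk g g2 v hv.1) (fun v hv => ?_) (fun v hv => hf v hv.1) (fun v hv e => ?_)
      fun v hv e => ?_
    · refine fun v hv => ⟨(ep.nrm x y hxy u).1 hu v hv.1, ?_⟩
      rintro (e | e)
      · exact hv.2 (Or.inr (smul_left_cancel u (e.trans uy.symm)))
      · exact hv.2 (Or.inl (smul_left_cancel u (e.trans ux.symm)))
    · refine fun v hv => ⟨(ep.nrm x y hxy g).1 gN v hv.1, ?_⟩
      rintro (e | e)
      · exact hv.2 (Or.inl (smul_left_cancel g (e.trans gx.symm)))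
      · exact hv.2 (Or.inr (smul_left_cancel g (e.trans gy.symm)))
    · simpa only [mul_smul] using kk _ ug2 v hv.1
    · exact g1 (a.three g x a.mx y a.my v hv.1 hxy (fun k => hv.2 (Or.inr k.symm))
        (fun k => hv.2 (Or.inl k.symm)) gx gy e)
    · exact h4 ((parF h l la lc hxy (mul_mem hu gN) ug2 ug1 hv.1 (by rw [mul_smul, e])).1 ug)
  · intro h4 hm0
    obtain ⟨k, hk, m, hm, rfl⟩ := a.dec u hm0
    have m2 := sqK a hk hm (t.sq _ ux uy)
    have kf := (ep.kfix x y hxy k).1 hk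
    have m1 : m ≠ 1 := fun e => hf x a.mx (by rw [e, mul_one, kf x a.mx])
    have o := (half c h4).resolve_right h.pp.one_lt.ne'
    obtain ⟨g, hg, e⟩ := (cls_four h l hxy).1 _ (pow_mem c.fL (orderOf f / 2)) m hm o
      (orderOf_eq_prime (by rwa [sq]) m1)
    have gx := (ep.nrm x y hxy g).1 (le_normalizer hg) x a.mx
    have tx : f ^ (orderOf f / 2) • x = x := (pow_mem c.fH (orderOf f / 2)).1
    refine hf _ gx ?_
    rw [mul_smul, ← e, mul_smul, mul_smul, inv_smul_smul, tx, kf _ gx]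

end Main

theorem lv : LVStmt := by
  intro G _ _ Ω _ _ p A h l la lc x y hxy
  refine ⟨(cls_four h l hxy).1, (cls_four h l hxy).2, fun u hu h2 h1 => ?_⟩
  by_cases hf : ∃ z ∈ Ln A x y, u • z = z
  · rw [iff_true_intro hf, iff_true]
    obtain ⟨z, hz, e⟩ := hf
    exact parF h l la lc hxy hu h2 h1 hz e
  · rw [iff_false_intro hf, iff_false]
    push Not at hf
    have mx := (la x y hxy).mx
    have hw := (l.mc.ep.nrm x y hxy u).1 hu x mx
    have ne : x ≠ u • x := (hf x mx).symm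
    have uu : u • u • x = x := by
      rw [← mul_smul]; exact (l.mc.ep.kfix x y hxy _).1 h2 x mx
    obtain ⟨e1, e2, e3⟩ := tr l hxy mx hw ne
    rw [← e3] at hf
    rw [← e2]
    rw [← e1] at hu ⊢
    exact parS h l la lc ne hu rfl uu hf

end Cfsg.Agent.H70.LpLv
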