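import Cfsg.Agent.H78.McDefs
import Cfsg.Agent.H3.Fitting

/-! Project MC: the centraliser of a uniform element outside a normal subgroup. -/

set_option autoImplicit false

namespace Cfsg.Agent.H70.McInd

open Subgroup Cfsg.Agent.H78.Mc

universe u

theorem rel {G : Type u} [Group G] {x z : G} (hz : ∀ g, g * z = z * g) (H : Subgroup G)
    (hH : ∀ g ∈ H, g * x * g⁻¹ * x⁻¹ ∈ zpowers z) :
    (centralizer ({x} : Set G)).relIndex H ∣ orderOf z := by
  have cz : ∀ c ∈ zpowers z, ∀ g, g * c = c * g := by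
    rintro _ ⟨k, rfl⟩ g
    exact (Commute.zpow_right (hz g) k)
  let φ : H →* G := MonoidHom.mk' (fun g => g.1 * x * g.1⁻¹ * x⁻¹) fun g h => by
    have := cz _ (hH _ h.2)
    simp only [coe_mul]
    calc g.1 * h.1 * x * (g.1 * h.1)⁻¹ * x⁻¹
        = g.1 * (h.1 * x * h.1⁻¹ * x⁻¹) * (x * g.1⁻¹ * x⁻¹) := by group
      _ = (h.1 * x * h.1⁻¹ * x⁻¹) * (g.1 * x * g.1⁻¹ * x⁻¹) := by rw [this]; group
      _ = _ := (this _).symm
  have k : (centralizer ({x} : Set G)).subgroupOf H = φ.ker := by
    ext g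
    rw [mem_subgroupOf, mem_centralizer_singleton_iff, MonoidHom.mem_ker]
    change _ ↔ g.1 * x * g.1⁻¹ * x⁻¹ = 1
    rw [mul_inv_eq_one, mul_inv_eq_iff_eq_mul]
  rw [relIndex, k, index_ker, ← Nat.card_zpowers]
  exact card_dvd_of_le (by rintro _ ⟨g, rfl⟩; exact hH _ g.2)

theorem cent {G : Type u} [Group G] [Finite G] {p : ℕ} [Fact p.Prime] {D Z : Subgroup G}
    (hD : IsPGroup p D) (hZ : Nat.card Z = p) (hn : D ≤ normalizer (Z : Set G)) :
    D ≤ centralizer (Z : Set G) := by
  have : IsCyclic Z := isCyclic_of_prime_card hZ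
  intro d hd
  obtain ⟨k, hk⟩ := hD ⟨d, hd⟩
  have hk' : (⟨d, hn hd⟩ : normalizer (Z : Set G)) ^ p ^ k = 1 :=
    Subtype.ext (by simpa using congrArg Subtype.val hk)
  have h1 : orderOf (Z.normalizerMonoidHom ⟨d, hn hd⟩) ∣ p ^ k :=
    orderOf_dvd_of_pow_eq_one (by rw [← map_pow, hk', map_one])
  have h2 : orderOf (Z.normalizerMonoidHom ⟨d, hn hd⟩) ∣ p - 1 := by
    have := orderOf_dvd_natCard (Z.normalizerMonoidHom ⟨d, hn hd⟩)
    rwa [IsCyclic.card_mulAut, hZ, Nat.totient_prime Fact.out] at this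
  have pp : p.Prime := Fact.out
  have c : Nat.Coprime (p ^ k) (p - 1) := Nat.Coprime.pow_left _
    ((Nat.coprime_self_sub_right pp.one_le).2 (Nat.coprime_one_right _))
  have h3 : (⟨d, hn hd⟩ : normalizer (Z : Set G)) ∈ Z.normalizerMonoidHom.ker :=
    orderOf_eq_one_iff.1 (Nat.eq_one_of_dvd_coprimes c h1 h2)
  rw [normalizerMonoidHom_ker] at h3
  exact h3

theorem key (p : ℕ) [Fact p.Prime] (n : ℕ) : ∀ (G : Type u) [Group G] [Finite G] (P : Sylow p G)
    (N : Subgroup G), Nat.card G = n → N.Normal → N.relIndex (P : Subgroup G) = p →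
    ∀ x ∈ (P : Subgroup G), x ∉ N →
    Nat.card ((P : Subgroup G) ⊓ centralizer ({x} : Set G) : Subgroup G) = p ^ 2 →
    ¬ p ^ 3 ∣ Nat.card (centralizer ({x} : Set G)) := by
  induction n using Nat.strong_induction_on with
  | _ n ih =>
  intro G _ _ P N hn hN hi x xP xN hE h3
  have pp : p.Prime := Fact.out
  set E := (P : Subgroup G) ⊓ centralizer ({x} : Set G) with hEd
  have xE : x ∈ E := ⟨xP, mem_centralizer_singleton_iff.2 rfl⟩
  -- a central element of order `p`
  obtain ⟨z, zP, zN, oz, zc⟩ : ∃ z ∈ (P : Subgroup G), z ∈ N ∧ orderOf z = p ∧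
      ∀ g ∈ (P : Subgroup G), g * z = z * g := by
    have nt : Nontrivial (N.subgroupOf (P : Subgroup G)) := by
      rw [nontrivial_iff_ne_bot]
      intro e
      rw [relIndex, e, index_bot] at hi
      have := card_dvd_of_le (inf_le_left : E ≤ P)
      rw [hE, hi] at this
      have := Nat.le_of_dvd pp.pos this
      nlinarith [pp.two_le]
    have := P.2.isNilpotent
    obtain ⟨c, hc, c1⟩ := (Subgroup.bot_or_exists_ne_one _).resolve_left
      (H3.inf_center_ne_bot (N.subgroupOf (P : Subgroup G)) ((nontrivial_iff_ne_bot _).1 nt))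
    have d : p ∣ orderOf c := by
      obtain ⟨k, hk⟩ := (IsPGroup.iff_orderOf.1 P.2) c
      rw [hk]
      refine dvd_pow_self p fun k0 => c1 (orderOf_eq_one_iff.1 (by rw [hk, k0, pow_zero]))
    have hc' := pow_mem hc (orderOf c / p)
    refine ⟨(c ^ (orderOf c / p) : P), Subtype.prop _, hc'.1, ?_, fun g hg => ?_⟩
    · rw [Subgroup.orderOf_coe]; exact orderOf_pow_orderOf_div (orderOf_pos c).ne' d
    · exact congrArg Subtype.val (mem_center_iff.1 hc'.2 ⟨g, hg⟩)
  have zE : zpowers z ≤ E ⊓ N := zpowers_le.2 ⟨⟨zP, mem_centralizer_singleton_iff.2 (zc x xP).symm⟩, zN⟩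
  have cZ : Nat.card (zpowers z) = p := by rw [Nat.card_zpowers, oz]
  have eZ : zpowers z = E ⊓ N := by
    refine eq_of_le_of_card_ge zE ?_
    obtain ⟨k, hk, e⟩ := (Nat.dvd_prime_pow pp).1 (hE ▸ card_dvd_of_le (inf_le_left : E ⊓ N ≤ E))
    have : k ≠ 2 := fun h => xN ((eq_of_le_of_card_ge (inf_le_left : E ⊓ N ≤ E)
      (by rw [e, hE, h])).ge xE).2
    rw [cZ, e]
    calc p ^ k ≤ p ^ 1 := Nat.pow_le_pow_right pp.pos (by omega)
      _ = p := pow_one p
  by_cases hc : centralizer ({z} : Set G) = ⊤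
  · have hz : ∀ g, g * z = z * g := fun g => mem_centralizer_singleton_iff.1 (hc ▸ mem_top g)
    have : (zpowers z).Normal := ⟨by
      rintro _ ⟨k, rfl⟩ g
      rw [(Commute.zpow_right (hz g) k).eq, mul_inv_cancel_right]
      exact ⟨k, rfl⟩⟩
    let π := QuotientGroup.mk' (zpowers z)
    have hs : Function.Surjective π := QuotientGroup.mk'_surjective _
    have hk : π.ker = zpowers z := QuotientGroup.ker_mk' _
    have cc : ∀ K : Subgroup (G ⧸ zpowers z), Nat.card (K.comap π) = p * Nat.card K := fun K => by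
      rw [← cZ]; exact QuotientGroup.card_preimage_mk (zpowers z) (K : Set (G ⧸ zpowers z))
    have hL : ∀ g ∈ (centralizer ({π x} : Set _)).comap π, g * x * g⁻¹ * x⁻¹ ∈ zpowers z :=
      fun g hg => by
        rw [← hk, MonoidHom.mem_ker, map_mul, map_mul, map_mul,
          mem_centralizer_singleton_iff.1 hg]
        simp
    have CL : centralizer ({x} : Set G) ≤ (centralizer ({π x} : Set _)).comap π := fun g hg =>
      mem_centralizer_singleton_iff.2 (by rw [← map_mul, mem_centralizer_singleton_iff.1 hg, map_mul])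
    have zP' : π.ker ≤ P := hk.trans_le (zpowers_le.2 zP)
    have zN' : π.ker ≤ N := hk.trans_le (zpowers_le.2 zN)
    let Q := P.mapSurjective hs
    have hQ : (Q : Subgroup _) = (P : Subgroup G).map π := rfl
    have cQ : (Q : Subgroup _).comap π = P := by rw [hQ, comap_map_eq, sup_eq_left.2 zP']
    set K := (Q : Subgroup _) ⊓ centralizer ({π x} : Set _) with hK
    have eH : K.comap π = (P : Subgroup G) ⊓ (centralizer ({π x} : Set _)).comap π := by rw [hK, comap_inf, cQ]
    have r1 := rel hz (K.comap π) fun g hg => hL g (eH ▸ hg).2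
    have rc : ∀ H : Subgroup G, Nat.card H = (centralizer ({x} : Set G)).relIndex H *
        Nat.card (H ⊓ centralizer ({x} : Set G) : Subgroup G) := fun H => by
      rw [← inf_relIndex_left, relIndex, ← Nat.card_congr (subgroupOfEquivOfLe
        (inf_le_left : H ⊓ centralizer ({x} : Set G) ≤ H)).toEquiv, index_mul_card]
    have c1 := rc (K.comap π)
    rw [cc, show K.comap π ⊓ centralizer {x} = E by
      rw [eH, inf_assoc, inf_eq_right.2 CL], hE] at c1
    rw [oz] at r1
    have xb : π x ∉ N.map π := fun h => xN (by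
      have := mem_comap.2 h
      rwa [comap_map_eq, sup_eq_left.2 zN'] at this)
    have xQ : π x ∈ (Q : Subgroup _) := mem_map_of_mem π xP
    rcases (Nat.dvd_prime pp).1 r1 with r | r
    · have cK : Nat.card K = p := by
        rw [r, one_mul, sq] at c1
        exact Nat.eq_of_mul_eq_mul_left pp.pos c1
      have : Nontrivial (Q : Subgroup _) := ⟨⟨⟨_, xQ⟩, 1, fun e => xb (by
        rw [show π x = 1 from congrArg Subtype.val e]; exact one_mem _)⟩⟩
      obtain ⟨c, hc, c1⟩ := (Subgroup.bot_or_exists_ne_one _).resolve_left Q.2.bot_lt_center.ne'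
      have cm : ∀ g ∈ (Q : Subgroup _), g * c.1 = c.1 * g := fun g hg =>
        congrArg Subtype.val (mem_center_iff.1 hc ⟨g, hg⟩)
      have cK' : c.1 ∈ K := ⟨c.2, mem_centralizer_singleton_iff.2 (cm _ xQ).symm⟩
      have xK : π x ∈ K := ⟨xQ, mem_centralizer_singleton_iff.2 rfl⟩
      obtain ⟨k, hk'⟩ := mem_zpowers_of_prime_card cK (g := ⟨_, cK'⟩) (g' := ⟨_, xK⟩)
        fun e => c1 (Subtype.ext (congrArg (fun t : K => t.1) e))
      have e : c.1 ^ k = π x := congrArg Subtype.val hk'
      have QK : K = Q := inf_eq_left.2 fun g hg => mem_centralizer_singleton_iff.2 (by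
        rw [← e]; exact Commute.zpow_right (cm g hg) k)
      have cP : Nat.card P = p ^ 2 := by rw [← cQ, cc, ← QK, cK, sq]
      have := (pp.pow_dvd_iff_le_factorization Nat.card_pos.ne').1
        (h3.trans (card_subgroup_dvd_card _))
      rw [P.card_eq_multiplicity] at cP
      have := Nat.pow_right_injective pp.two_le cP
      omega
    · have cK : Nat.card K = p ^ 2 := by
        rw [r] at c1
        exact Nat.eq_of_mul_eq_mul_left pp.pos c1
      have r2 := rel hz _ hL
      have c2 := rc ((centralizer ({π x} : Set _)).comap π)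
      rw [cc, inf_eq_right.2 CL] at c2
      rw [oz] at r2
      have r3 := ((Nat.dvd_prime pp).1 r2).resolve_left fun e => by
        have := relIndex_eq_one.2 ((eH.trans_le inf_le_right).trans (relIndex_eq_one.1 e))
        rw [r] at this
        exact pp.one_lt.ne' this
      rw [r3] at c2
      refine ih _ ?_ _ Q (N.map π) rfl (hN.map π hs) ?_ _ xQ xb cK ?_
      · rw [← hn, card_eq_card_quotient_mul_card_subgroup (zpowers z), cZ]
        exact lt_mul_of_one_lt_right Nat.card_pos pp.one_lt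
      · rw [hQ, relIndex_map_map, sup_eq_left.2 zN', sup_eq_left.2 zP', hi]
      · rwa [Nat.eq_of_mul_eq_mul_left pp.pos c2]
  · set C := centralizer ({z} : Set G) with hC
    have PC : (P : Subgroup G) ≤ C := fun g hg => mem_centralizer_singleton_iff.2 (zc g hg)
    obtain ⟨D0, cD0, ED0⟩ := Sylow.exists_subgroup_card_pow_succ (n := 2) h3
      (H := E.subgroupOf (centralizer {x}))
      (by rw [Nat.card_congr (subgroupOfEquivOfLe (inf_le_right : E ≤ _)).toEquiv, hE])
    set D := D0.map (centralizer ({x} : Set G)).subtype with hD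
    have cD : Nat.card D = p ^ 3 := by rw [hD, card_subtype, cD0]
    have ED : E ≤ D := (map_subgroupOf_eq_of_le (inf_le_right : E ≤ _)).ge.trans (map_mono ED0)
    have nE : (E.subgroupOf D).Normal := by
      refine normal_of_index_eq_minFac_card ?_
      have := (E.subgroupOf D).index_mul_card
      rw [Nat.card_congr (subgroupOfEquivOfLe ED).toEquiv, hE, cD, pow_succ' p 2] at this
      rw [cD, Nat.eq_of_mul_eq_mul_right (pow_pos pp.pos 2) this, pp.pow_minFac (by omega)]
    have DC : D ≤ C := by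
      refine (cent (IsPGroup.of_card cD) cZ fun d hd => ?_).trans
        (centralizer_le (Set.singleton_subset_iff.2 (mem_zpowers z)))
      rw [eZ]
      refine mem_normalizer_fintype fun a ha => ⟨?_, hN.conj_mem a ha.2 d⟩
      exact nE.conj_mem ⟨a, ED ha.1⟩ ha.1 ⟨d, hd⟩
    have em : ∀ g : C, g ∈ centralizer ({(⟨x, PC xP⟩ : C)} : Set C) ↔
        g.1 ∈ centralizer ({x} : Set G) := fun g => by
      simp only [mem_centralizer_singleton_iff, Subtype.ext_iff, coe_mul]
    refine ih _ ?_ C (P.subtype PC) (N.subgroupOf C) rfl inferInstance ?_ ⟨x, PC xP⟩ xP xN ?_ ?_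
    · rw [← hn, ← card_top (G := G)]
      exact lt_of_le_of_ne (card_le_of_le le_top) fun e => hc (eq_of_le_of_card_ge le_top e.ge)
    · rw [Sylow.coe_subtype, relIndex_subgroupOf PC, hi]
    · rw [← hE, ← Nat.card_congr (subgroupOfEquivOfLe (inf_le_left.trans PC : E ≤ C)).toEquiv]
      congr 2
      ext g
      exact and_congr Iff.rfl (em g)
    · rw [← cD, ← Nat.card_congr (subgroupOfEquivOfLe DC).toEquiv]
      exact card_dvd_of_le fun g hg => (em g).2 (map_subtype_le D0 hg)

theorem ind : IndStmt.{u} := by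
  intro G _ _ p _ P N hN hi x xP xN hE
  have pp : p.Prime := Fact.out
  have h3 := key p _ G P N rfl hN hi x xP xN hE
  have h2 : p ^ 2 ∣ Nat.card (centralizer ({x} : Set G)) := hE ▸ card_dvd_of_le inf_le_right
  rw [pp.pow_dvd_iff_le_factorization Nat.card_pos.ne'] at h2 h3
  omega

end Cfsg.Agent.H70.McInd
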