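import Cfsg.Agent.H70.SpH3k

/-!
# The relations `swap`, `shear`, `add`, `adds` of the canonical movers
-/

set_option autoImplicit false

namespace Cfsg.Agent.H70.SpH

open Cfsg Cfsg.Agent.H63 Cfsg.Agent.H63.SL Cfsg.Agent.H26 Cfsg.Agent.H68.Sp Cfsg.Agent.H29.SpK
open Cfsg.Agent.H78 hiding tv tv_zero
open Subgroup Module
open scoped commutatorElement

universe u v

variable {F V : Type v} [Field F] [AddCommGroup V] [Module F V] {G : Type u} [Group G]
  {P : PForm F V} {φ : P.E →* G} {L : Subgroup G} {k : ℕ} {t : G} {y : V → V → G}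

section Main

variable (h : SG P φ L k) (g1 : G1 P k) (k3 : 3 ≤ k) (hb : HB P φ L t) (hy : Y0 P φ t y)

include h hy in
/-- `y u v` commutes with the Eichler maps orthogonal to `u`, `v`. -/
theorem yc {u v a b : V} (H : I2 P u v) (h1 : P.f u a = 0) (h2 : P.f u b = 0) (h3 : P.f v a = 0)
    (h4 : P.f v b = 0) (c : F) : Commute (y u v) (ET P φ a b c) :=
  cy h (hy.mv u v H).cent h1 h2 h3 h4 c

include h g1 k3 hy in
theorem swap0 : ∃ l : F, ∀ u v, I2 P u v → y v u = y u v * Es P φ u (l • v) := by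
  obtain ⟨a, b, c, H0⟩ := exists_i3 g1 k3
  have H := i3_12 H0
  have H' := i2_swap h H
  obtain ⟨l, hl⟩ := hy.uniq a b H 1 (y b a) (mv_swap h (hy.mv b a H')) (fun w e hw =>
    (hy.can b a H' w e (i3_213 h hw)).symm)
  rw [one_smul] at hl
  refine ⟨l, fun u v huv => ?_⟩
  obtain ⟨e, rfl, rfl⟩ := witt2 h g1 H huv
  rw [← hy.conj _ _ H', ← hy.conj _ _ H, ← map_smul, ← conj_Es h, hl]
  group

include h g1 k3 hy in
theorem shear1 : ∃ l ε : F, ∀ u v, I2 P u v →
    y u (v + u) = y u v * tv P φ u l * Es P φ u (ε • v) := by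
  obtain ⟨a, b, w, H0⟩ := exists_i3 g1 k3
  have H := i3_12 H0
  have H1 := i2_shear h H 1
  obtain ⟨e, e1, e2⟩ := witt2 h g1 H (i3_12 (i3_add23 h H0))
  obtain ⟨l, ε, hl⟩ := hy.uniq2 a b H 1 (y a (b + (1 : F) • a))
    (mv_congr (span_shear a b 1) (by rw [one_smul, one_smul F b, ← Es_shear h a b 1, one_smul])
      (hy.mv _ _ H1))
    ⟨w, e, H0, e1, e2, (hy.can _ _ H1 w e (i3_shear21 h H0 1)).1 e1 (by
      rw [map_add, map_smul, e1, e2]; abel)⟩
  rw [one_smul, one_smul] at hl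
  rw [one_smul] at H1
  refine ⟨l, ε, fun u v huv => ?_⟩
  obtain ⟨e, rfl, rfl⟩ := witt2 h g1 H huv
  rw [← map_add, ← hy.conj _ _ H1, ← hy.conj _ _ H, ← map_smul, ← conj_Es h, ← conj_tv h, hl]
  group

include h hb hy in
theorem add_mem (g1 : G1 P k) {u v w : V} (H : I3 P u v w) :
    y u (v + w) * y u v * y u w ∈ S2 P φ {u, w} := by
  have H12 := i3_12 H
  have H13 := i3_13 h H
  have Hs := i3_12 (i3_add23 h H)
  obtain ⟨h1, h2, h3, -⟩ := id H
  obtain ⟨e, e1, e2⟩ := witt2 h g1 H12 Hs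
  obtain ⟨b, hp⟩ := (hy.can u v H12 w e H).1 e1 e2
  rw [hy.conj _ _ H12, e1, e2] at hp
  have hb1 : b = 1 := by
    have m := hp.mv
    have m1 := (hy.mv _ _ H12).mv
    have m2 := (hy.mv _ _ Hs).mv
    rw [one_smul] at m1 m2
    have c : Commute (y u (v + w)) (Es P φ u v) := yc h hy Hs (fs h u) h1
      (by rw [P.f_add_left, fc h v u, h1, fc h w u, h2, add_zero])
      (by rw [P.f_add_left, fs h, fc h w v, h3, add_zero]) 0
    have : t * Es P φ u (b • w) = t * Es P φ u ((1 : F) • w) := by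
      calc _ = y u (v + w) * (y u v * t * (y u v)⁻¹) * (y u (v + w))⁻¹ := by rw [← m]; group
        _ = (y u (v + w) * t * (y u (v + w))⁻¹) *
            (y u (v + w) * Es P φ u v * (y u (v + w))⁻¹) := by rw [m1]; group
        _ = _ := by
          rw [m2, c.eq, mul_inv_cancel_right, one_smul, add_comm v w,
            Es_add0 h h2 h1 ((fc h w v).trans h3), mul_assoc, mul_assoc, Es_sq h, mul_one]
    exact Es_inj h H13 (mul_left_cancel this)
  subst hb1
  exact (hb.mul u w H13 1 1 _ _ hp (hy.mv _ _ H13)).zero (fadd_self h 1)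

include h hb hy in
theorem com0 {u v w : V} (H : I3 P u v w) : Commute (y u v) (y u w) :=
  hb.com3 u v w H 1 1 _ _ (hy.mv _ _ (i3_12 H)) (hy.mv _ _ (i3_13 h H))

include h g1 k3 hb hy in
theorem add0 : ∃ α : F, ∀ u v w, I3 P u v w →
    y u (v + w) = y u v * y u w * tv P φ u α := by
  obtain ⟨u, v, w, H⟩ := exists_i3 g1 k3
  obtain ⟨h1, h2, h3, -⟩ := id H
  have m1 := add_mem h hb hy g1 H
  have m2 := add_mem h hb hy g1 (i3_132 h H)
  rw [add_comm w v, mul_assoc, ← (com0 h hb hy H).eq, ← mul_assoc] at m2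
  obtain ⟨a, b, c, e1⟩ := (crd2 h u w h2 _).1 m1
  obtain ⟨a', b', c', e2⟩ := (crd2 h u v h1 _).1 m2
  have h21 := (fc h v u).trans h1
  have h31 := (fc h w u).trans h2
  have h32 := (fc h w v).trans h3
  have key : tv P φ u (a + a') * tv P φ v b' * tv P φ w b * Es P φ u (c' • v) *
      Es P φ u (c • w) * Es P φ v ((0 : F) • w) = 1 := by
    have e3 := e1.symm.trans e2
    have c1 : Commute (tv P φ v b') (tv P φ w b) := comm_tv_tv h h3 _ _
    have c2 : Commute (tv P φ w b) (Es P φ u (c' • v)) :=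
      comm_tv_ET h h31 (by rw [fr h, h32, mul_zero]) _ _
    have c3 : Commute (tv P φ u a) (tv P φ v b') := comm_tv_tv h h1 _ _
    have c4 : Commute (tv P φ u a) (Es P φ u (c' • v)) := comm_same h _ _ _ _ _
    have sq : (tv P φ u a' * tv P φ v b' * Es P φ u (c' • v)) *
        (tv P φ u a' * tv P φ v b' * Es P φ u (c' • v)) = 1 := by
      have c5 : Commute (tv P φ u a') (tv P φ v b') := comm_tv_tv h h1 _ _
      have c6 : Commute (tv P φ u a') (Es P φ u (c' • v)) := comm_same h _ _ _ _ _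
      have c7 : Commute (tv P φ v b') (Es P φ u (c' • v)) :=
        comm_tv_ET h h21 (by rw [fr h, fs h, mul_zero]) _ _
      rw [← sq, (c6.mul_left c7).mul_pow, c5.mul_pow, sq, sq, sq, tv_sq h, tv_sq h, Es_sq h,
        mul_one, mul_one]
    rw [zero_smul, Es_zero, mul_one, add_comm, tv_add h, ← sq]
    nth_rewrite 2 [← e3]
    simp only [mul_assoc]
    rw [← mul_assoc (tv P φ w b), c2.eq, mul_assoc, ← mul_assoc (tv P φ u a), c3.eq, mul_assoc,
      ← mul_assoc (tv P φ u a), c4.eq, mul_assoc]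
  obtain ⟨-, -, z3, -, z5, -⟩ := uni3 h u v w H _ _ _ _ _ _ key
  rw [z3, z5, zero_smul, Es_zero, tv_zero, mul_one, mul_one] at e1
  have H12 := i3_12 H
  have H13 := i3_13 h H
  have Hs := i3_12 (i3_add23 h H)
  have e4 : y u (v + w) = y u v * y u w * tv P φ u a := by
    have c1 : Commute (y u v) (tv P φ u a) :=
      yc h hy H12 (fs h u) (P.f_zero_right _) h21 (P.f_zero_right _) _
    have c2 : Commute (y u w) (tv P φ u a) :=
      yc h hy H13 (fs h u) (P.f_zero_right _) h31 (P.f_zero_right _) _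
    rw [(c1.mul_left c2).eq, ← e1, (com0 h hb hy H).eq, mul_assoc, mul_assoc,
      ← mul_assoc (y u w), mv_sq (hy.mv _ _ H13), one_mul,
      mv_sq (hy.mv _ _ H12), mul_one]
  refine ⟨a, fun u' v' w' H' => ?_⟩
  obtain ⟨e, rfl, rfl, rfl⟩ := witt3 h g1 H H'
  rw [← map_add, ← hy.conj _ _ Hs, ← hy.conj _ _ H12, ← hy.conj _ _ H13, ← conj_tv h, e4]
  group

include h g1 k3 hy in
theorem eps_zero {l ε α : F}
    (hs : ∀ u v, I2 P u v → y u (v + u) = y u v * tv P φ u l * Es P φ u (ε • v))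
    (ha : ∀ u v w, I3 P u v w → y u (v + w) = y u v * y u w * tv P φ u α) : ε = 0 := by
  obtain ⟨u, v, w, H⟩ := exists_i3 g1 k3
  obtain ⟨h1, h2, h3, -⟩ := id H
  have H13 := i3_13 h H
  have h31 := (fc h w u).trans h2
  have h32 := (fc h w v).trans h3
  have e1 := hs _ _ (i3_12 (i3_add23 h H))
  have e2 := ha _ _ _ (i3_shear21 h H 1)
  rw [one_smul, hs _ _ (i3_12 H), add_right_comm, e1, ha _ _ _ H, smul_add,
    Es_add0 h (by rw [fr h, h1, mul_zero]) (by rw [fr h, h2, mul_zero])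
      (by rw [fr h, P.f_smul_left, h3, mul_zero, mul_zero])] at e2
  have c1 : Commute (y u w) (tv P φ u l) :=
    yc h hy H13 (fs h u) (P.f_zero_right _) h31 (P.f_zero_right _) _
  have c2 : Commute (y u w) (Es P φ u (ε • v)) :=
    yc h hy H13 (fs h u) (by rw [fr h, h1, mul_zero]) h31 (by rw [fr h, h32, mul_zero]) _
  have c3 : Commute (tv P φ u α) (tv P φ u l) := comm_same h _ _ _ _ _
  have c4 : Commute (tv P φ u α) (Es P φ u (ε • v)) := comm_same h _ _ _ _ _
  simp only [mul_assoc] at e2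
  rw [← c2.left_comm, ← c1.left_comm, ← c4.eq, ← c3.left_comm] at e2
  have e3 := mul_left_cancel (mul_left_cancel (mul_left_cancel (mul_left_cancel e2)))
  exact (Es_eq_one h H13).1 (mul_eq_left.1 e3)

include h hy in
theorem shear_of [Finite F] {l : F} (hs : ∀ u v, I2 P u v → y u (v + u) = y u v * tv P φ u l)
    (u v : V) (H : I2 P u v) (r : F) : y u (v + r • u) = y u v * tv P φ u (l * r) := by
  obtain ⟨c, rfl⟩ := exists_sqrt h r
  rcases eq_or_ne c 0 with rfl | hc
  · simp [tv_zero]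
  have H1 := i2_smul h H one_ne_zero (inv_ne_zero hc)
  have H2 := i2_shear h H1 c
  rw [one_smul] at H1 H2
  have e := hs _ _ (i2_smul h H hc (inv_ne_zero hc))
  rw [hy.smul _ _ H1 c hc, hy.smul _ _ H2 c hc, smul_add, smul_smul, smul_smul,
    mul_inv_cancel₀ hc, one_smul, tv_smul h] at e
  rw [e, mul_comm l]

end Main

section Fin

variable (h : SG P φ L k) {l l0 α : F}
  (hs : ∀ u v, I2 P u v → y v u = y u v * Es P φ u (l • v))
  (hsh : ∀ u v, I2 P u v → ∀ r : F, y u (v + r • u) = y u v * tv P φ u (l0 * r))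
  (ha : ∀ u v w, I3 P u v w → y u (v + w) = y u v * y u w * tv P φ u α)

include h hs hsh in
theorem shear_fst {u w : V} (H : I2 P u w) : y (u + w) w = y u w * tv P φ w l0 := by
  have H' := i2_swap h H
  have H1 := i2_shear h H' 1
  have e := hsh _ _ H' 1
  rw [one_smul] at H1 e
  rw [hs _ _ H1, e, hs _ _ H', mul_one, smul_add, Es_shear h, mul_assoc, mul_assoc,
    (comm_same h _ _ _ _ _).eq]

include h hs ha in
theorem add_fst (hy : Y0 P φ t y) {u u' v : V} (H : I3 P u u' v) :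
    y (u + u') v = y u v * y u' v * tv P φ v α := by
  obtain ⟨h1, h2, h3, -⟩ := id H
  have H' : I3 P v u u' := i3_213 h (i3_132 h H)
  obtain ⟨h4, h5, -, -⟩ := id H'
  rw [hs _ _ (i3_12 (i3_add23 h H')), ha _ _ _ H', hs _ _ (i3_12 H'), hs _ _ (i3_13 h H'),
    smul_add, Es_add0 h (by rw [fr h, h4, mul_zero]) (by rw [fr h, h5, mul_zero])
      (by rw [fr h, P.f_smul_left, h1, mul_zero, mul_zero])]
  have c1 : Commute (y v u') (Es P φ v (l • u)) :=
    yc h hy (i3_13 h H') (fs h v) (by rw [fr h, h4, mul_zero]) h3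
      (by rw [fr h, fc h u' u, h1, mul_zero]) _
  have c2 : Commute (tv P φ v α) (Es P φ v (l • u)) := comm_same h _ _ _ _ _
  have c3 : Commute (tv P φ v α) (Es P φ v (l • u')) := comm_same h _ _ _ _ _
  simp only [mul_assoc]
  rw [c2.left_comm, c3.eq, c1.left_comm]

include h hs hsh ha in
theorem alpha_zero (g1 : G1 P k) (k3 : 3 ≤ k) (hb : HB P φ L t) (hy : Y0 P φ t y) : α = 0 := by
  obtain ⟨u, v, w, H⟩ := exists_i3 g1 k3
  obtain ⟨h1, h2, h3, -⟩ := id H
  have h21 := (fc h v u).trans h1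
  have h31 := (fc h w u).trans h2
  have h32 := (fc h w v).trans h3
  have Hw : I3 P w u v := i3_213 h (i3_132 h H)
  have Hwv := i3_13 h Hw
  have H13 := i3_13 h H
  -- first variable first
  have e1 := add_fst h hs ha hy (i3_132 h (i3_add23 h H))
  have e3 := hsh _ _ Hwv 1
  rw [one_smul, mul_one] at e3
  rw [ha _ _ _ H, e3, ha _ _ _ (i3_add13 h H), add_fst h hs ha hy (i3_132 h H),
    shear_fst h hs hsh H13, tv_add_vec h h2, tv_add_vec h h3] at e1
  have c0 : Commute (y w v) (y u w) :=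
    hb.com3 w v u (i3_132 h Hw) 1 1 _ _ (hy.mv _ _ Hwv) (mv_swap h (hy.mv _ _ H13))
  have c1 : Commute (y u w) (tv P φ v α) :=
    yc h hy H13 h1 (P.f_zero_right _) h32 (P.f_zero_right _) _
  have c2 : Commute (y w v) (tv P φ u α) :=
    yc h hy Hwv h31 (P.f_zero_right _) h21 (P.f_zero_right _) _
  have c3 : Commute (tv P φ v α) (tv P φ w l0) := comm_tv_tv h h3 _ _
  have c4 : Commute (tv P φ u α) (tv P φ w l0) := comm_tv_tv h h2 _ _
  have c5 : Commute (tv P φ v α) (tv P φ u α) := comm_tv_tv h h21 _ _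
  simp only [mul_assoc] at e1
  rw [← c1.left_comm, c0.left_comm, c3.left_comm, c5.left_comm, ← c2.left_comm,
    c4.left_comm] at e1
  have e4 := mul_left_cancel (mul_left_cancel (mul_left_cancel (mul_left_cancel
    (mul_left_cancel (mul_left_cancel (mul_left_cancel e1))))))
  exact (uni3 h u v w H 0 0 0 0 α α (by
    rw [tv_zero, tv_zero, tv_zero, zero_smul, Es_zero, e4]
    simp only [one_mul, Es_sq h])).2.2.2.2.1

include h hs hsh in
theorem l_eq (g1 : G1 P k) (k3 : 3 ≤ k) : l = l0 := by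
  obtain ⟨u, v, w, H0⟩ := exists_i3 g1 k3
  have H := i3_12 H0
  have H' := i2_swap h H
  have H1 := i2_swap h (i2_shear h H' 1)
  have e1 := hsh _ _ H1 1
  rw [one_smul, one_smul, mul_one, add_left_comm, vadd_self h, add_zero, shear_fst h hs hsh H,
    add_comm u v, shear_fst h hs hsh H', hs _ _ H, add_comm v u, tv_add_vec h H.1] at e1
  have c1 : Commute (tv P φ v l0) (tv P φ u l0) := comm_tv_tv h H'.1 _ _
  have c2 : Commute (tv P φ u l0) (Es P φ u (l • v)) := comm_same h _ _ _ _ _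
  simp only [mul_assoc] at e1
  rw [c1.left_comm, ← mul_assoc (tv P φ v l0), tv_sq h, one_mul, ← c2.eq] at e1
  exact Es_inj h H (mul_left_cancel (mul_left_cancel e1))

include h in
theorem adds_of (g1 : G1 P k) (k3 : 3 ≤ k) (hy : Y0 P φ t y)
    (ha : ∀ u v w, I3 P u v w → y u (v + w) = y u v * y u w) (u v : V) (H : I2 P u v) (a b : F) :
    y u ((a + b) • v) = y u (a • v) * y u (b • v) := by
  rcases eq_or_ne a 0 with rfl | ha0
  · rw [zero_add, zero_smul, hy.zero, one_mul]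
  rcases eq_or_ne b 0 with rfl | hb0
  · rw [add_zero, zero_smul, hy.zero, mul_one]
  rcases eq_or_ne (a + b) 0 with hab | hab
  · have : b = a := by rw [← fneg h a]; exact (neg_eq_of_add_eq_zero_right hab).symm
    have H1 := i2_smul h H one_ne_zero ha0
    rw [one_smul] at H1
    rw [hab, zero_smul, hy.zero, this, mv_sq (hy.mv _ _ H1)]
  obtain ⟨w, Hw⟩ := exists_third h g1 k3 H
  have e1 := ha _ _ _ (i3_smul2 h Hw hab)
  have H2 : I3 P u (a • v) (b • v + w) :=
    i3_comb h Hw 1 0 0 0 a 0 0 b 1 (fun x y z e1 e2 e3 => by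
      have hz : z = 0 := by simpa using e3
      exact ⟨by simpa using e1, by simpa [hz, ha0] using e2, hz⟩) (by simp) (by simp) (by simp)
  rw [add_smul, add_assoc, ha _ _ _ H2, ha _ _ _ (i3_smul2 h Hw hb0), ← mul_assoc,
    ← add_smul] at e1
  exact (mul_right_cancel e1).symm

end Fin

/-- The fields `swap`, `shear`, `add`, `adds` of `Y1`. -/
theorem h3a' [Finite F] (h : SG P φ L k) (g1 : G1 P k) (k3 : 3 ≤ k) (hb : HB P φ L t)
    (hy : Y0 P φ t y) : ∃ l0 : F,
    (∀ u v, I2 P u v → y v u = y u v * Es P φ u (l0 • v)) ∧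
    (∀ u v, I2 P u v → ∀ r : F, y u (v + r • u) = y u v * tv P φ u (l0 * r)) ∧
    (∀ u v w, I3 P u v w → y u (v + w) = y u v * y u w) ∧
    ∀ u v, I2 P u v → ∀ a b : F, y u ((a + b) • v) = y u (a • v) * y u (b • v) := by
  obtain ⟨l, hs⟩ := swap0 h g1 k3 hy
  obtain ⟨l0, ε, h1⟩ := shear1 h g1 k3 hy
  obtain ⟨α, ha⟩ := add0 h g1 k3 hb hy
  obtain rfl := eps_zero h g1 k3 hy h1 ha
  have hsh := shear_of h hy (l := l0) fun u v H => by
    rw [h1 u v H, zero_smul, Es_zero, mul_one]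
  obtain rfl := alpha_zero h hs hsh ha g1 k3 hb hy
  obtain rfl := l_eq h hs hsh g1 k3
  have ha' : ∀ u v w, I3 P u v w → y u (v + w) = y u v * y u w := fun u v w H => by
    rw [ha u v w H, tv_zero, mul_one]
  exact ⟨l, hs, hsh, ha', adds_of h g1 k3 hy ha'⟩

/-- **H3a** -/
theorem h3a : CAll.{u, v} fun {F} _ _ _ _ _ _ P φ L _ t => R2 L t → HB P φ L t →
    ∀ y, Y0 P φ t y → ∃ l0 : F,
    (∀ u v, I2 P u v → y v u = y u v * Es P φ u (l0 • v)) ∧
    (∀ u v, I2 P u v → ∀ r : F, y u (v + r • u) = y u v * tv P φ u (l0 * r)) ∧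
    (∀ u v w, I3 P u v w → y u (v + w) = y u v * y u w) ∧
    ∀ u v, I2 P u v → ∀ a b : F, y u ((a + b) • v) = y u (a • v) * y u (b • v) :=
  fun _ _ _ _ _ c _ hb _ hy => h3a' c.toSG c.g1 c.k3 hb hy

end Cfsg.Agent.H70.SpH
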