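import Cfsg.Agent.H34.UKit0

/-!
Project UM: the computation with triple commutators shared by the pieces C0 and LINE.
-/

set_option autoImplicit false
set_option linter.unusedSectionVars false

namespace Cfsg.Agent.H70.UM

open Cfsg Cfsg.Agent.H63 Cfsg.Agent.H63.SL Cfsg.Agent.H34 Cfsg.Agent.H34.TW Cfsg.Agent.H34.UM
  Cfsg.Agent.H31 Subgroup Module
open Cfsg.Agent.H27.End (mem_C comm_of_C conj_mem is2_of_sq mem_C1 mem_N_of_conj comm_mem_right)
open scoped commutatorElement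

universe u v

/-! ### Commutators with an abelian subgroup -/

section Grp

variable {G : Type u} [Group G] {M : Subgroup G} (hM : ∀ p ∈ M, ∀ q ∈ M, Commute p q)
include hM

theorem cm_mul {n g h : G} (hn : n ∈ N[M]) (hg : g ∈ M) (hh : h ∈ M) :
    ⁅n, g * h⁆ = ⁅n, g⁆ * ⁅n, h⁆ := by
  have e := (hM _ (comm_mem_right hn hh) _ (inv_mem hg)).eq
  calc ⁅n, g * h⁆ = n * g * n⁻¹ * (⁅n, h⁆ * g⁻¹) := by simp only [commutatorElement_def]; group
    _ = _ := by rw [e]; simp only [commutatorElement_def]; group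

theorem cm_swap {n n' g : G} (hn : n ∈ N[M]) (hn' : n' ∈ N[M]) (c : Commute n n') (hg : g ∈ M) :
    ⁅n, ⁅n', g⁆⁆ = ⁅n', ⁅n, g⁆⁆ := by
  have a := inv_mem (conj_mem hn hg)
  have b := inv_mem (conj_mem hn' hg)
  have e : (n * g * n⁻¹)⁻¹ * g * (n' * g * n'⁻¹)⁻¹ = (n' * g * n'⁻¹)⁻¹ * g * (n * g * n⁻¹)⁻¹ := by
    rw [(hM _ (mul_mem a hg) _ b).eq, (hM _ a _ hg).eq]
    exact (mul_assoc _ _ _).symm
  calc ⁅n, ⁅n', g⁆⁆ = n * n' * g * (n * n')⁻¹ *
        ((n * g * n⁻¹)⁻¹ * g * (n' * g * n'⁻¹)⁻¹) := by simp only [commutatorElement_def]; group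
    _ = _ := by rw [e, c.eq]; simp only [commutatorElement_def]; group

theorem cm_sq {n g : G} (hn : n ∈ N[M]) (h2 : n * n = 1) (hg : g ∈ M) :
    ⁅n, ⁅n, g⁆⁆ = ⁅n, g * g⁆⁻¹ := by
  rw [cm_mul hM hn hg hg, eq_inv_iff_mul_eq_one]
  calc ⁅n, ⁅n, g⁆⁆ * (⁅n, g⁆ * ⁅n, g⁆) = n * n * g * n⁻¹ * g⁻¹ * (n⁻¹ * n) * g * n⁻¹ * g⁻¹ := by
        simp only [commutatorElement_def]; group
    _ = g * (n * n)⁻¹ * g⁻¹ := by
        conv_lhs => rw [h2]
        group
    _ = 1 := by rw [h2]; group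

theorem cm_inv {n g : G} (hn : n ∈ N[M]) (hg : g ∈ M) : ⁅n, g⁻¹⁆ = ⁅n, g⁆⁻¹ := by
  rw [eq_inv_iff_mul_eq_one, ← cm_mul hM hn (inv_mem hg) hg, inv_mul_cancel,
    commutatorElement_one_right]

/-- an additive model of an abelian subgroup -/
theorem exists_model : ∃ (X : Type u) (_ : AddCommGroup X) (ι : X → G), Function.Injective ι ∧
    (∀ x x', ι (x + x') = ι x * ι x') ∧ (∀ x, ι x ∈ M) ∧ ∀ g ∈ M, ∃ x, ι x = g := by
  let _ : CommGroup M :=
    { (inferInstance : Group M) with mul_comm := fun a b => Subtype.ext (hM _ a.2 _ b.2).eq }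
  exact ⟨Additive M, inferInstance, fun x => (x.toMul : M), fun _ _ e => Subtype.ext e,
    fun _ _ => rfl, fun x => x.toMul.2, fun g hg => ⟨Additive.ofMul ⟨g, hg⟩, rfl⟩⟩

omit hM in
theorem comm_closure {s : Set G} (h : ∀ p ∈ s, ∀ q ∈ s, Commute p q) :
    ∀ p ∈ closure s, ∀ q ∈ closure s, Commute p q := fun p hp q hq =>
  comm_of_C ((closure_le _).2 (fun x hx => by
    rw [SetLike.mem_coe, centralizer_closure]
    exact fun y hy => (h y hy x hx).eq) hp) hq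

omit hM in
theorem pow_closure {s : Set G} (h : ∀ p ∈ s, ∀ q ∈ s, Commute p q) {k : ℕ}
    (hk : ∀ p ∈ s, p ^ k = 1) {p : G} (hp : p ∈ closure s) : p ^ k = 1 := by
  induction hp using closure_induction with
  | mem x hx => exact hk x hx
  | one => exact one_pow k
  | mul x y hx hy a b => rw [(comm_closure h x hx y hy).mul_pow, a, b, one_mul]
  | inv x _ a => rw [inv_pow, a, inv_one]

omit hM in
theorem mem_N_closure [Finite G] {s : Set G} {g : G} (h : ∀ p ∈ s, g * p * g⁻¹ ∈ closure s) :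
    g ∈ N[closure s] :=
  mem_N_of_conj fun _ hx =>
    (closure_le ((closure s).comap (MulAut.conj g).toMonoidHom)).2 h hx

end Grp

variable {F E V : Type v} [Field F] [Field E] [AddCommGroup V] [Module E V] {i : F →+* E}
  {σ : E ≃+* E} {B : V →ₛₗ[(σ : E →+* E)] V →ₗ[E] E} {G : Type u} [Group G] {φ : sisom B →* G}
  {L : Subgroup G}

theorem totIso_span {s : Set V} (h : ∀ x ∈ s, ∀ y ∈ s, B x y = 0) :
    TotIso B (Submodule.span E s) :=
  totIso_iff_le_perp.2 (Submodule.span_le.2 fun y hy => mem_perp_span.2 fun x hx => h x hx y hy)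

theorem EE_symm (v w : V) : EE φ v w 0 = EE φ w v 0 := by
  unfold EE
  congr 1
  funext x
  simp only [zero_mul, zero_smul, add_zero]
  abel

theorem EE_one (v : V) : EE φ v 0 0 = 1 := by
  rw [← map_one φ]
  exact el_eq _ fun x => by simp

section Ctx

variable [FiniteDimensional E V] [Finite E] (c : UCtx i φ L)
include c

theorem totIso_sup {D : Submodule E V} (hD : TotIso B D) {f : V} (hf : B f f = 0)
    (h : ∀ b ∈ D, B f b = 0) : TotIso B ((E ∙ f) ⊔ D) := by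
  intro x hx y hy
  obtain ⟨_, h1, b, hb, rfl⟩ := Submodule.mem_sup.1 hx
  obtain ⟨_, h2, b', hb', rfl⟩ := Submodule.mem_sup.1 hy
  obtain ⟨a, rfl⟩ := Submodule.mem_span_singleton.1 h1
  obtain ⟨a', rfl⟩ := Submodule.mem_span_singleton.1 h2
  simp only [map_add, map_smul, LinearMap.add_apply, sm_left, hf, h b' hb', c.flip (h b hb),
    hD b hb b' hb', smul_eq_mul, mul_zero, add_zero]

/-- a dual vector -/
theorem exists_dual {D : Submodule E V} {f : V} (hf : B f f = 0) (h : ∀ b ∈ D, B f b = 0)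
    (hn : f ∉ D) : ∃ f', B f' f' = 0 ∧ B f' f = 1 ∧ ∀ b ∈ D, B f' b = 0 := by
  obtain ⟨e, h1, h2⟩ := c.herm.exists_perp_of_notMem hn
  obtain ⟨f', k1, k2, k3⟩ := c.herm.toIsHermSymm.exists_hyperbolic hf
    (mem_perp.2 fun b hb => c.flip (h b hb)) h1 (c.herm.toIsHermSymm.flip_ne_zero h2)
  exact ⟨f', k2, c.flip1 k3, fun b hb => c.flip (mem_perp.1 k1 b hb)⟩

theorem herm_of {S : Submodule E V} (hS : TotIso B S) {s : sisom B} (h : ∀ x, s.1 x - x ∈ S)
    (x y : V) : B (s.1 x - x) y = B x (s.1 y - y) := by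
  have h1 := iso_map s x y
  have h2 := hS _ (h x) _ (h y)
  simp only [map_sub, LinearMap.sub_apply] at h2 ⊢
  linear_combination -h2 + h1 - (B x (s.1 y) - B x y) * c.qf.two

theorem fix_of {S : Submodule E V} (hS : TotIso B S) {s : sisom B} (h : ∀ x, s.1 x - x ∈ S)
    {x : V} (hx : x ∈ perp B S) : s.1 x = x :=
  sub_eq_zero.1 (c.herm.nondeg _ fun y => by
    rw [herm_of c hS h]
    exact c.flip (mem_perp.1 hx _ (h y)))

theorem sq_of {S : Submodule E V} (hS : TotIso B S) {s : sisom B} (h : ∀ x, s.1 x - x ∈ S) :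
    s * s = 1 :=
  s_ext fun x => by
    have h1 := fix_of c hS h (totIso_iff_le_perp.1 hS (h x))
    rw [map_sub] at h1
    rw [mul_app]
    change _ = x
    linear_combination (norm := module) h1 + c.add_self (s.1 x - x)

theorem mem_AS (k : KitA i φ L) {S : Submodule E V} (hS : TotIso B S) {g : G} :
    g ∈ AS i φ S ↔ ∃ s : sisom B, φ s = g ∧ ∀ x, s.1 x - x ∈ S := by
  rw [k.as S hS]
  exact ⟨fun ⟨s, h1, h2, _⟩ => ⟨s, h1, h2⟩,
    fun ⟨s, h1, h2⟩ => ⟨s, h1, h2, fun x hx => fix_of c hS h2 hx⟩⟩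

theorem AS_inf (k : KitA i φ L) {S S' : Submodule E V} (hS : TotIso B S) (hS' : TotIso B S')
    {g : G} (h : g ∈ AS i φ S) (h' : g ∈ AS i φ S') : g ∈ AS i φ (S ⊓ S') := by
  obtain ⟨s, rfl, h1⟩ := (mem_AS c k hS).1 h
  obtain ⟨s', e, h2⟩ := (mem_AS c k hS').1 h'
  obtain rfl := c.inj2 (is2_of_sq (sq_of c hS' h2)) (is2_of_sq (sq_of c hS h1)) e
  exact (mem_AS c k (S := S ⊓ S') fun x hx y hy => hS x hx.1 y hy.1).2
    ⟨_, rfl, fun x => ⟨h1 x, h2 x⟩⟩

omit c [FiniteDimensional E V] [Finite E] in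
theorem AS_bot {S : Submodule E V} (hS : ∀ x ∈ S, x = 0) {g : G} (h : g ∈ AS i φ S) : g = 1 := by
  refine mem_bot.1 ((closure_le ⊥).2 ?_ h)
  rintro _ ⟨x, hx, a, rfl⟩
  rw [hS x hx]
  exact UCtx.TT_zero_left a

theorem AS_le {S : Submodule E V} (hS : TotIso B S) : AS i φ S ≤ L := by
  refine (closure_le _).2 ?_
  rintro _ ⟨x, hx, a, rfl⟩
  exact c.TT_mem (hS x hx x hx) a

theorem AS_comm {S : Submodule E V} (hS : TotIso B S) :
    ∀ p ∈ AS i φ S, ∀ q ∈ AS i φ S, Commute p q := by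
  refine comm_closure ?_
  rintro _ ⟨x, hx, a, rfl⟩ _ ⟨y, hy, b, rfl⟩
  exact c.TT_comm (hS x hx x hx) (hS y hy y hy) (hS x hx y hy) a b

theorem EE_inj {v w v' w' : V} {d d' : E} (h1 : B v v = 0) (h2 : B v w = 0) (h3 : B w w = 0)
    (h4 : d + σ d = 0) (h1' : B v' v' = 0) (h2' : B v' w' = 0) (h3' : B w' w' = 0)
    (h4' : d' + σ d' = 0) (e : EE φ v w d = EE φ v' w' d') (x : V) :
    B v x • w + B w x • v + (d * B v x) • v = B v' x • w' + B w' x • v' + (d' * B v' x) • v' := by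
  have key : ∀ {v w : V} {d : E} {s : sisom B}, B v v = 0 → B v w = 0 → B w w = 0 →
      (∀ x, s.1 x = x + B v x • w + B w x • v + (d * B v x) • v) → s * s = 1 := by
    intro v w d s h1 h2 h3 h
    refine s_ext fun x => ?_
    rw [mul_app, h, h]
    change _ = x
    simp only [map_add, map_smul, h1, h2, h3, c.flip h2, smul_eq_mul, mul_zero, add_zero]
    linear_combination (norm := module)
      c.add_self (B v x • w + B w x • v + (d * B v x) • v)
  obtain ⟨s, k, e1⟩ := c.ee h1 h2 (h4.trans h3.symm)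
  obtain ⟨s', k', e2⟩ := c.ee h1' h2' (h4'.trans h3'.symm)
  obtain rfl := c.inj2 (is2_of_sq (key h1 h2 h3 k)) (is2_of_sq (key h1' h2' h3' k'))
    (e1.trans (e.trans e2.symm))
  have := (k x).symm.trans (k' x)
  linear_combination (norm := module) this

omit [FiniteDimensional E V] [Finite E] in
theorem hz {a w : V} (ha : a ≠ 0) (h : ∀ x, B a x • w + B w x • a = 0) : ∃ r : F, w = i r • a := by
  obtain ⟨x, hx⟩ := c.herm.exists_eq_one ha
  have h1 := h x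
  rw [hx, one_smul] at h1
  obtain ⟨e, rfl⟩ : ∃ e : E, w = e • a :=
    ⟨B w x, by linear_combination (norm := module) h1 - c.add_self (B w x • a)⟩
  rw [sm_left, hx, mul_one, ← add_smul, smul_eq_zero] at h1
  obtain ⟨r, hr⟩ := (c.qf.fix e).1 (by
    linear_combination h1.resolve_right ha - c.qf.add_self e)
  exact ⟨r, by rw [hr]⟩

theorem EE_sq {v w : V} (h1 : B v v = 0) (h2 : B v w = 0) (h3 : B w w = 0) :
    EE φ v w 0 * EE φ v w 0 = 1 := by
  have e : (0 : E) + σ 0 = B w w := by rw [map_zero, add_zero, h3]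
  rw [c.EE_mul h1 h2 e h2 e, c.add_self, h3, add_zero, add_zero, EE_one]

theorem EE_comm {v w w' : V} (h1 : B v v = 0) (h2 : B v w = 0) (h3 : B w w = 0)
    (h2' : B v w' = 0) (h3' : B w' w' = 0) (h : B w w' = 0) :
    Commute (EE φ v w 0) (EE φ v w' 0) := by
  have e : (0 : E) + σ 0 = B w w := by rw [map_zero, add_zero, h3]
  have e' : (0 : E) + σ 0 = B w' w' := by rw [map_zero, add_zero, h3']
  change _ = _
  rw [c.EE_mul h1 h2 e h2' e', c.EE_mul h1 h2' e' h2 e, h, c.flip h, add_comm w]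

/-- the commutator with an element of `A_S` -/
theorem comm_EE {S : Submodule E V} (hS : TotIso B S) {s : sisom B} (h : ∀ x, s.1 x - x ∈ S)
    {f' b : V} (h1 : B f' f' = 0) (h2 : B f' b = 0) (hb : b ∈ S) :
    ⁅EE φ f' b 0, φ s⁆ = EE φ b (s.1 f' - f') (B f' (s.1 f' - f')) := by
  have h3 := hS b hb b hb
  have e : (0 : E) + σ 0 = 0 := by rw [map_zero, add_zero]
  have h4 := fix_of c hS h (totIso_iff_le_perp.1 hS hb)
  have h5 : B b (s.1 f') = 0 := by rw [← h4, iso_map, c.flip h2]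
  calc ⁅EE φ f' b 0, φ s⁆ = EE φ f' b 0 * (φ s * (EE φ f' b 0)⁻¹ * (φ s)⁻¹) := by
        simp only [commutatorElement_def, mul_assoc]
    _ = EE φ b f' 0 * EE φ b (s.1 f') 0 := by
        rw [inv_eq_of_mul_eq_one_right (EE_sq c h1 h2 h3), c.EE_conj s h1 h2 (e.trans h3.symm), h4,
          EE_symm f', EE_symm (s.1 f')]
    _ = _ := by
        rw [c.EE_mul h3 (c.flip h2) (e.trans h1.symm) h5 (by rw [iso_map, h1, e]), c.sub_eq,
          add_comm f', map_add, h1, add_zero, add_zero, zero_add]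

theorem tr_of {S : Submodule E V} (hS : TotIso B S) {s : sisom B} (h : ∀ x, s.1 x - x ∈ S)
    (x : V) : B x (s.1 x - x) + σ (B x (s.1 x - x)) = 0 := by
  rw [c.symm, herm_of c hS h, c.qf.add_self]

/-- the double commutator with a transvection -/
theorem comm_TT {S : Submodule E V} (hS : TotIso B S) {f f' a b : V} (hf : f ∈ S) (ha : a ∈ S)
    (hb : b ∈ S) (h1 : B f' f' = 0) (h2 : B f' f = 1) (h3 : B f' a = 0) (h4 : B f' b = 0) (r : F) :
    ⁅EE φ f' a 0, ⁅EE φ f' b 0, TT i φ f r⁆⁆ = EE φ a (i r • b) 0 := by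
  obtain ⟨s, k, e⟩ := c.tt (hS f hf f hf) r
  have k1 : ∀ x, s.1 x - x ∈ S := fun x => by
    rw [k, add_sub_cancel_left]; exact S.smul_mem _ hf
  have k2 : s.1 f' - f' = i r • f := by rw [k, add_sub_cancel_left, c.flip1 h2, mul_one]
  rw [← e, comm_EE c hS k1 h1 h4 hb, k2, sm_right, h2, mul_one]
  have k3 := S.smul_mem (i r) hf
  obtain ⟨s', k', e'⟩ := c.ee (d := i r) (hS b hb b hb) (hS b hb _ k3)
    (by rw [c.qf.σ_i, c.qf.add_self, hS _ k3 _ k3])
  have k4 : ∀ x, s'.1 x - x ∈ S := fun x => by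
    have : s'.1 x - x = B b x • i r • f + B (i r • f) x • b + (i r * B b x) • b := by
      rw [k']; abel
    rw [this]
    exact S.add_mem (S.add_mem (S.smul_mem _ k3) (S.smul_mem _ hb)) (S.smul_mem _ hb)
  have k5 : s'.1 f' - f' = i r • b := by
    rw [k', c.flip h4, sm_left, c.flip1 h2, c.qf.σ_i]
    module
  rw [← e', comm_EE c hS k4 h1 h3 ha, k5, sm_right, h4, mul_zero]

omit [FiniteDimensional E V] [Finite E] in
theorem EE_swap (a b : V) (r : F) : EE φ a (i r • b) 0 = EE φ b (i r • a) 0 := by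
  rw [EE_symm, c.EE_smul, c.qf.σ_i, zero_mul]

/-- the elements of `M` commuting with `t` -/
theorem ker_AS (k : KitA i φ L) {t : G} (ht : Tc L t) (hr : R2 L t) {S : Submodule E V}
    (hS : TotIso B S) (h0 : S ≠ ⊥) {M : Subgroup G}
    (two : ∀ p ∈ M, Is2 p) (cR : M ≤ C[RS φ S]) (aS : AS i φ S ≤ M) (nt : t ∉ M) {p : G}
    (hp : p ∈ M) (hc : Commute p t) : p ∈ AS i φ S := by
  have h := k.fs S hS h0 p ⟨ht.cN (mem_C1.2 hc), cR hp⟩
  have h3 : AS i φ S ≤ N[C[L]] := fun a ha => centralizer_le_normalizer _ fun z hz =>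
    (comm_of_C hz (AS_le c hS ha)).eq
  obtain ⟨a, ha, z, hz, e⟩ := (coe_mul_of_left_le_normalizer_right _ C[L] h3).subset h
  have e' : z = a⁻¹ * p := by rw [← e, inv_mul_cancel_left]
  have hzM : z ∈ M := e' ▸ mul_mem (inv_mem (aS ha)) hp
  rcases hr z hz (e' ▸ ((comm_of_C ht.tc (AS_le c hS ha)).symm.inv_left.mul_left hc))
    (two z hzM) with rfl | rfl
  · rw [← e]
    exact mul_mem ha (one_mem _)
  · exact absurd hzM nt

end Ctx

variable (i φ) in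
/-- The configuration of the triple commutator computation. -/
structure Cfg (t : G) (S D : Submodule E V) (f f' : V) (M : Subgroup G) (p : G) (ν κ : F) :
    Prop where
  ti : TotIso B S
  le : D ≤ S
  fS : f ∈ S
  h1 : B f' f' = 0
  h2 : B f' f = 1
  h3 : ∀ b ∈ D, B f' b = 0
  ab : ∀ p ∈ M, ∀ q ∈ M, Commute p q
  two : ∀ p ∈ M, Is2 p
  cR : M ≤ C[RS φ S]
  aS : AS i φ S ≤ M
  nt : t ∉ M
  tN : t ∈ N[M]
  uN : ∀ b ∈ D, EE φ f' b 0 ∈ N[M]
  pM : p ∈ M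
  lam : ⁅t, p⁆ = TT i φ f ν
  sq : p * p = TT i φ f κ
  ex : ∀ z ∈ D, ∃ q ∈ M, ⁅t, q⁆ = TT i φ z ν ∧ ∀ b ∈ D, Commute (EE φ f' b 0) q

variable (φ) in
/-- the triple commutator -/
noncomputable def P3 (f' : V) (p : G) (e a b : V) : G :=
  ⁅EE φ f' e 0, ⁅EE φ f' a 0, ⁅EE φ f' b 0, p⁆⁆⁆

variable (φ) in
/-- the vector describing the triple commutators with `a, b` -/
def Rep (S D : Submodule E V) (f' : V) (p : G) (a b n : V) : Prop :=
  n ∈ S ∧ B f' n + σ (B f' n) = 0 ∧ ∀ e ∈ D, P3 φ f' p e a b = EE φ e n (B f' n)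

namespace Cfg

variable [FiniteDimensional E V] [Finite E] {t : G} {S D : Submodule E V} {f f' : V}
  {M : Subgroup G} {p : G} {ν κ : F} (h : Cfg i φ t S D f f' M p ν κ) (c : UCtx i φ L)
include h c

theorem o {a b : V} (ha : a ∈ D) (hb : b ∈ D) : B a b = 0 := h.ti a (h.le ha) b (h.le hb)

theorem ucomm {a b : V} (ha : a ∈ D) (hb : b ∈ D) : Commute (EE φ f' a 0) (EE φ f' b 0) :=
  EE_comm c h.h1 (h.h3 a ha) (h.o c ha ha) (h.h3 b hb) (h.o c hb hb) (h.o c ha hb)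

theorem uL {a : V} (ha : a ∈ D) : EE φ f' a 0 ∈ L :=
  c.EE_mem h.h1 (h.h3 a ha) (by rw [map_zero, add_zero, h.o c ha ha])

theorem sw12 {e a b : V} (he : e ∈ D) (ha : a ∈ D) (hb : b ∈ D) :
    P3 φ f' p e a b = P3 φ f' p a e b :=
  cm_swap h.ab (h.uN e he) (h.uN a ha) (h.ucomm c he ha) (comm_mem_right (h.uN b hb) h.pM)

theorem sw23 {e a b : V} (ha : a ∈ D) (hb : b ∈ D) : P3 φ f' p e a b = P3 φ f' p e b a := by
  rw [P3, cm_swap h.ab (h.uN a ha) (h.uN b hb) (h.ucomm c ha hb) h.pM, P3]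

theorem diag {a b : V} (ha : a ∈ D) (hb : b ∈ D) : P3 φ f' p b a a = EE φ a (i κ • b) 0 := by
  have h1 := h.le (D.smul_mem (i κ) hb)
  rw [P3, cm_sq h.ab (h.uN a ha) (EE_sq c h.h1 (h.h3 a ha) (h.o c ha ha)) h.pM,
    cm_inv h.ab (h.uN b hb) (comm_mem_right (h.uN a ha) (mul_mem h.pM h.pM)), h.sq,
    comm_TT c h.ti h.fS (h.le hb) (h.le ha) h.h1 h.h2 (h.h3 b hb) (h.h3 a ha), EE_swap c]
  exact inv_eq_of_mul_eq_one_right (EE_sq c (h.o c ha ha) (h.ti _ (h.le ha) _ h1) (h.ti _ h1 _ h1))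

variable (k : KitA i φ L) (ht : Tc L t) (hr : R2 L t)
include k ht hr

theorem rep {a b : V} (ha : a ∈ D) (hb : b ∈ D) {r m : G} (hm : m ∈ M)
    (h1 : ⁅t, m⁆ = BB (TT i φ) a b ν) (h2 : ∀ e ∈ D, Commute (EE φ f' e 0) m)
    (e : ⁅EE φ f' a 0, ⁅EE φ f' b 0, p⁆⁆ = r * m) :
    ∃ s : sisom B, φ s = r ∧ (∀ x, s.1 x - x ∈ S) ∧ Rep φ S D f' p a b (s.1 f' - f') := by
  have hb' := comm_mem_right (h.uN b hb) h.pM
  have hrM : r ∈ M := by
    rw [eq_mul_inv_of_mul_eq e.symm]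
    exact mul_mem (comm_mem_right (h.uN a ha) hb') (inv_mem hm)
  have h3 : ⁅t, r⁆ = 1 := by
    have h4 : ⁅t, _⁆ = ⁅t, _⁆ := congrArg (⁅t, ·⁆) e
    rw [cm_swap h.ab h.tN (h.uN a ha) (comm_of_C ht.tc (h.uL c ha)) hb',
      cm_swap h.ab h.tN (h.uN b hb) (comm_of_C ht.tc (h.uL c hb)) h.pM, h.lam,
      comm_TT c h.ti h.fS (h.le ha) (h.le hb) h.h1 h.h2 (h.h3 a ha) (h.h3 b hb),
      cm_mul h.ab h.tN hrM hm, h1, c.BB_TT (h.o c ha ha) (h.o c hb hb) (h.o c hb ha),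
      EE_swap c] at h4
    exact (mul_eq_right.1 h4.symm)
  have h0 : S ≠ ⊥ := fun e => by
    have h5 := h.h2
    rw [show f = 0 from (Submodule.mem_bot E).1 (e ▸ h.fS), map_zero] at h5
    exact zero_ne_one h5
  obtain ⟨s, rfl, h5⟩ := (mem_AS c k h.ti).1 (ker_AS c k ht hr h.ti h0 h.two h.cR h.aS h.nt hrM
    (commutatorElement_eq_one_iff_commute.1 h3).symm)
  refine ⟨s, rfl, h5, h5 f', tr_of c h.ti h5 f', fun x hx => ?_⟩
  rw [P3, e, cm_mul h.ab (h.uN x hx) hrM hm, (h2 x hx).commutator_eq, mul_one,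
    comm_EE c h.ti h5 h.h1 (h.h3 x hx) (h.le hx)]

theorem exists_rep {a b : V} (ha : a ∈ D) (hb : b ∈ D) : ∃ n, Rep φ S D f' p a b n := by
  obtain ⟨q1, k1, l1, m1⟩ := h.ex _ (D.add_mem ha hb)
  obtain ⟨q2, k2, l2, m2⟩ := h.ex _ ha
  obtain ⟨q3, k3, l3, m3⟩ := h.ex _ hb
  obtain ⟨s, -, -, h1⟩ := h.rep c k ht hr ha hb (mul_mem (mul_mem k1 k2) k3)
    (by rw [cm_mul h.ab h.tN (mul_mem k1 k2) k3, cm_mul h.ab h.tN k1 k2, l1, l2, l3, BB])
    (fun e he => ((m1 e he).mul_right (m2 e he)).mul_right (m3 e he))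
    (inv_mul_cancel_right _ _).symm
  exact ⟨_, h1⟩

theorem δ_zero {a b n : V} (ha : a ∈ D) (hb : b ∈ D) (h0 : a ≠ 0) (hn : Rep φ S D f' p a b n) :
    B f' n = 0 := by
  obtain ⟨ω, hω⟩ := c.qf.tr
  have ha' := D.smul_mem ω ha
  obtain ⟨n', k1, k2, k3⟩ := h.exists_rep c k ht hr ha' hb
  have h1 := EE_inj c (h.o c ha' ha') (h.ti _ (h.le ha') _ hn.1) (h.ti _ hn.1 _ hn.1) hn.2.1
    (h.o c ha ha) (h.ti _ (h.le ha) _ k1) (h.ti _ k1 _ k1) k2
    (by rw [← hn.2.2 _ ha', ← k3 _ ha, h.sw12 c ha' ha hb]) f'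
  rw [c.flip (h.h3 _ ha'), c.flip (h.h3 _ ha)] at h1
  simp only [zero_smul, mul_zero, add_zero, zero_add, smul_smul, zero_mul] at h1
  have h2 := smul_left_injective E h0 h1
  have h3 := congrArg σ h2
  rw [map_mul, c.symm, c.symm, hω] at h3
  have h4 := hn.2.1
  rw [c.symm] at h4 k2
  linear_combination h3 + h2 - ω * h4 + k2

theorem mem_line {a b e n w : V} (ha : a ∈ D) (hb : b ∈ D) (h0 : a ≠ 0)
    (hn : Rep φ S D f' p a b n) (he : e ∈ D) (he0 : e ≠ 0) (hw : w ∈ S)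
    (h1 : P3 φ f' p e a b = EE φ e w 0) : ∃ r : F, n + w = i r • e := by
  have z : (0 : E) + σ 0 = 0 := by rw [map_zero, add_zero]
  refine hz c he0 fun x => ?_
  have h2 := EE_inj c (h.o c he he) (h.ti _ (h.le he) _ hn.1) (h.ti _ hn.1 _ hn.1) z
    (h.o c he he) (h.ti _ (h.le he) _ hw) (h.ti _ hw _ hw) z
    (by rw [← h1, hn.2.2 _ he, h.δ_zero c k ht hr ha hb h0 hn]) x
  rw [add_left]
  linear_combination (norm := module) h2 + c.add_self (B e x • w + B w x • e)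

theorem n_eq {a b n : V} (ha : a ∈ D) (hb : b ∈ D) (h0 : a ≠ 0) (hi : ∀ r : F, b ≠ i r • a)
    (hn : Rep φ S D f' p a b n) : n = i κ • (a + b) := by
  have hb0 : b ≠ 0 := by simpa using hi 0
  obtain ⟨r, h1⟩ := h.mem_line c k ht hr ha hb h0 hn ha h0 (h.le (D.smul_mem (i κ) hb))
    (by rw [h.sw23 c ha hb, h.sw12 c ha hb ha, h.diag c ha hb])
  obtain ⟨r', h2⟩ := h.mem_line c k ht hr ha hb h0 hn hb hb0 (h.le (D.smul_mem (i κ) ha))
    (by rw [h.sw12 c hb ha hb, h.diag c hb ha])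
  obtain rfl : r' = κ := by
    by_contra hne
    have h3 : i (r' + κ) ≠ 0 := by
      rw [map_ne_zero]
      intro e
      exact hne (by linear_combination e - κ * c.qf.twoF)
    refine hi ((r' + κ)⁻¹ * (r + κ)) ?_
    rw [map_mul, map_inv₀, mul_smul, eq_inv_smul_iff₀ h3, map_add, map_add]
    linear_combination (norm := module) h1 - h2
  linear_combination (norm := module) h2 - c.add_self (i r' • a)

theorem κ_zero {a e b : V} (ha : a ∈ D) (he : e ∈ D) (hb : b ∈ D) (h0 : a ≠ 0) (h0' : e ≠ 0)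
    (h1 : ∀ r : F, b ≠ i r • a) (h2 : ∀ r : F, b ≠ i r • e) (h3 : ∀ r : F, a + e ≠ i r • b) :
    κ = 0 := by
  have hb0 : b ≠ 0 := by simpa using h1 0
  have z : (0 : E) + σ 0 = 0 := by rw [map_zero, add_zero]
  obtain ⟨n, hn⟩ := h.exists_rep c k ht hr ha hb
  obtain ⟨n', hn'⟩ := h.exists_rep c k ht hr he hb
  have h4 := EE_inj c (h.o c he he) (h.ti _ (h.le he) _ hn.1) (h.ti _ hn.1 _ hn.1) z
    (h.o c ha ha) (h.ti _ (h.le ha) _ hn'.1) (h.ti _ hn'.1 _ hn'.1) z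
    (by rw [← h.δ_zero c k ht hr ha hb h0 hn, ← hn.2.2 _ he, h.sw12 c he ha hb, hn'.2.2 _ ha,
      h.δ_zero c k ht hr he hb h0' hn', h.δ_zero c k ht hr ha hb h0 hn])
  rw [h.n_eq c k ht hr ha hb h0 h1 hn, h.n_eq c k ht hr he hb h0' h2 hn'] at h4
  by_contra hκ
  have h5 : i κ ≠ 0 := (map_ne_zero i).2 hκ
  obtain ⟨r, h6⟩ := hz c hb0 (w := a + e) fun x => by
    refine (smul_eq_zero.1 (?_ : i κ • (_ : V) = 0)).resolve_left h5
    have h7 := h4 x
    simp only [sm_left, c.qf.σ_i, add_left] at h7 ⊢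
    linear_combination (norm := module) h7 + c.add_self ((i κ * B a x) • b + (i κ * B b x) • a)
  exact h3 r h6

theorem n_zero (hκ : κ = 0) {a b n : V} (ha : a ∈ D) (hb : b ∈ D) (h0 : a ≠ 0)
    (hn : Rep φ S D f' p a b n) : n = 0 := by
  subst hκ
  obtain ⟨ω, hω⟩ := c.qf.tr
  have hF : ∀ r r' : F, i r = i r' * ω → r' = 0 := fun r r' e => by
    have h1 := congrArg σ e
    rw [map_mul, c.qf.σ_i, c.qf.σ_i, hω] at h1
    exact (map_eq_zero i).1 (by linear_combination e - h1)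
  by_cases hi : ∀ r : F, b ≠ i r • a
  · rw [h.n_eq c k ht hr ha hb h0 hi hn, map_zero, zero_smul]
  have ha' := D.smul_mem ω ha
  have hω0 : ω ≠ 0 := fun e => by simp [e] at hω
  obtain ⟨r, h1⟩ := h.mem_line c k ht hr ha hb h0 hn ha h0 S.zero_mem
    (by rw [h.sw23 c ha hb, h.sw12 c ha hb ha, h.diag c ha hb, map_zero, zero_smul])
  obtain ⟨n', hn'⟩ := h.exists_rep c k ht hr ha ha'
  have h2 : n' = 0 := by
    rw [h.n_eq c k ht hr ha ha' h0 (fun r e => one_ne_zero (hF r 1 (by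
      rw [map_one, one_mul]; exact (smul_left_injective E h0 e).symm))) hn', map_zero, zero_smul]
  obtain ⟨r', h3⟩ := h.mem_line c k ht hr ha hb h0 hn ha' (smul_ne_zero hω0 h0) S.zero_mem
    (by rw [h.sw23 c ha hb, h.sw12 c ha' hb ha, h.sw23 c ha' ha, hn'.2.2 b hb, h2, map_zero, EE_one,
      EE_one])
  rw [h1, smul_smul] at h3
  rw [hF r r' (smul_left_injective E h0 h3), map_zero, zero_mul, zero_smul] at h3
  rw [← add_zero n, h1, h3]

end Cfg

end Cfsg.Agent.H70.UM
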